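import Cfsg.Agent.Lib.KnownB.OreOmega.BigLift
import Cfsg.Agent.Lib.KnownB.Sourour.Comm
import Cfsg.Agent.Lib.KnownB.OreSp.Poly

/-!
Regular elements with one chain on `1` and one irreducible quadratic: factorisation, similarity,
inverses and centraliser determinants.
-/

set_option autoImplicit false

namespace CfsgLib.KnownB.OreOmega

open Module Polynomial CfsgLib.KnownB.Sourour

variable {K V W : Type*} [Field K] [AddCommGroup V] [Module K V] [AddCommGroup W] [Module K W]

/-- A point on the conic needed for the plane factorisation. -/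
theorem exists_disc_square [Fintype K] (hodd : Fintype.card K % 2 = 1) {t d τ : K} (ht : t ≠ 0)
    (h2 : (2 : K) ≠ 0) (hτ : τ ≠ 2) :
    ∃ a y : K, (t - a * τ) * (t - a * τ) - 4 * (a * a - a * t + d) = y * y := by
  set A := τ * τ - 4 with hA
  set B := t * (4 - 2 * τ) with hB
  set C' := t * t - 4 * d with hC
  have e : ∀ a : K, (t - a * τ) * (t - a * τ) - 4 * (a * a - a * t + d) =
      A * a * a + B * a + C' := fun a => by rw [hA, hB, hC]; ring
  simp only [e]
  by_cases h : A = 0
  · have hB0 : B ≠ 0 := by
      have h' : (τ - 2) * (τ + 2) = 0 := by linear_combination h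
      have hm : τ = -2 := eq_neg_of_add_eq_zero_left
        ((mul_eq_zero.1 h').resolve_left (sub_ne_zero.2 hτ))
      rw [hB, hm]
      exact mul_ne_zero ht (by
        rw [show (4 : K) - 2 * -2 = 2 * 2 * 2 by norm_num]
        exact mul_ne_zero (mul_ne_zero h2 h2) h2)
    refine ⟨-C' / B, 0, ?_⟩
    rw [h]
    field_simp
    ring
  · obtain ⟨a, y, hy⟩ := FiniteField.exists_root_sum_quadratic
      (f := C A * X ^ 2 + C B * X + C C') (g := -X ^ 2) (degree_quadratic h)
      (by rw [degree_neg, degree_X_pow]; rfl) hodd
    refine ⟨a, y, ?_⟩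
    simp only [eval_add, eval_neg, eval_mul, eval_C, eval_pow, eval_X] at hy
    linear_combination hy

variable {t d : K}

/-- A plane endomorphism with `A - 1` invertible is a product of two quadratic ones. -/
theorem pairs_plane [Fintype K] (hodd : Fintype.card K % 2 = 1) (h2K : (2 : K) ≠ 0)
    [FiniteDimensional K V] (h2 : finrank K V = 2) (M : End K V) (hdet : LinearMap.det M = 1)
    (hr : 2 ≤ finrank K (LinearMap.range (M - 1))) (hns : ¬ ∃ l : K, M = l • (1 : End K V))
    (hq : NoRoot t d) (ht : t ≠ 0) : Nonempty (Pairs M 0 (qp t d) (qp (t / d) (1 / d))) := by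
  obtain ⟨v, hv0, hv⟩ := exists_not_eigen M hns
  have hd : d ≠ 0 := fun h => hq 0 (by rw [h]; ring)
  have hli : LinearIndependent K ![v, M v] := by
    rw [LinearIndependent.pair_iff' hv0]
    exact fun l hl => hv l hl.symm
  let B := basisOfLinearIndependentOfCardEqFinrank hli (by simp [h2])
  have hB : ⇑B = ![v, M v] := coe_basisOfLinearIndependentOfCardEqFinrank hli _
  have hM0 : M (B 0) = B 1 := by rw [hB]; rfl
  obtain ⟨s, τ, hM1⟩ : ∃ s τ : K, M (B 1) = s • B 0 + τ • B 1 :=
    ⟨B.repr (M (B 1)) 0, B.repr (M (B 1)) 1, by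
      conv_lhs => rw [← B.sum_repr (M (B 1)), Fin.sum_univ_two]⟩
  have hs : s = -1 := by
    have h : -s = 1 := by
      rw [← hdet, ← LinearMap.det_toMatrix B, Matrix.det_fin_two]
      simp only [LinearMap.toMatrix_apply, hM0, hM1, map_add, map_smul, B.repr_self,
        Finsupp.coe_add, Finsupp.coe_smul, Pi.add_apply, Pi.smul_apply, smul_eq_mul]
      simp
    linear_combination -h
  subst hs
  have hτ : τ ≠ 2 := fun h => by
    have hinj : Function.Injective ⇑(M - (1 : End K V)) := by
      rw [← LinearMap.ker_eq_bot]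
      have := (M - 1).finrank_range_add_finrank_ker
      exact Submodule.finrank_eq_zero.1 (by omega)
    have h0 : (M - 1) (B 1 - B 0) = 0 := by
      simp only [LinearMap.sub_apply, Module.End.one_apply, map_sub, hM0, hM1, h]
      module
    have h1 : B 1 - B 0 = 0 := hinj (h0.trans (map_zero _).symm)
    simpa using congrArg (fun z => B.repr z 1) h1
  obtain ⟨a, y, hy⟩ := exists_disc_square hodd (t := t) (d := d) ht h2K hτ
  obtain ⟨b, hbe⟩ : ∃ b : K, b * (b + t - a * τ) = a * (t - a) - d :=
    ⟨(-(t - a * τ) + y) / 2, by field_simp; linear_combination -hy⟩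
  obtain ⟨e, hedef⟩ : ∃ e : K, e = b + t - a * τ := ⟨_, rfl⟩
  rw [← hedef] at hbe
  let L : End K V := B.constr K ![a • B 0 + e • B 1, b • B 0 + (t - a) • B 1]
  let U : End K V := B.constr K ![(-b / d) • B 0 + (a / d) • B 1,
    ((-(t - a) - b * τ) / d) • B 0 + ((e + a * τ) / d) • B 1]
  have hL0 : L (B 0) = a • B 0 + e • B 1 := by simp [L]
  have hL1 : L (B 1) = b • B 0 + (t - a) • B 1 := by simp [L]
  have hU0 : U (B 0) = (-b / d) • B 0 + (a / d) • B 1 := by simp [U]
  have hU1 : U (B 1) = ((-(t - a) - b * τ) / d) • B 0 + ((e + a * τ) / d) • B 1 := by simp [U]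
  have hLd : a * (t - a) - b * e = d := by linear_combination -hbe
  have hqL : aeval L (qp t d) = 0 := B.ext fun i => by
    rw [aeval_qp, LinearMap.zero_apply]
    fin_cases i
    · simp only [Fin.zero_eta, hL0, hL1, map_add, map_smul]
      match_scalars <;> grind
    · simp only [Fin.mk_one, hL0, hL1, map_add, map_smul]
      match_scalars <;> grind
  have hqU : aeval U (qp (t / d) (1 / d)) = 0 := B.ext fun i => by
    rw [aeval_qp, LinearMap.zero_apply]
    fin_cases i
    · simp only [Fin.zero_eta, hU0, hU1, map_add, map_smul]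
      match_scalars <;> field_simp <;> grind
    · simp only [Fin.mk_one, hU0, hU1, map_add, map_smul]
      match_scalars <;> field_simp <;> grind
  refine ⟨{ L := L, U := U, hmul := B.ext fun i => ?_,
            hLq := (fun v => by rw [hqL]; rfl), hUq := (fun v => by rw [hqU]; rfl),
            hLe := ⟨B 0, B.ne_zero 0, by rw [hqL]; rfl⟩,
            hUe := ⟨B 0, B.ne_zero 0, by rw [hqU]; rfl⟩ }⟩
  rw [Module.End.mul_apply]
  fin_cases i
  · simp only [Fin.zero_eta, hM0, hU0, map_add, map_smul, hL0, hL1]
    match_scalars <;> field_simp <;> grind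
  · simp only [Fin.mk_one, hM1, hU1, map_add, map_smul, hL0, hL1]
    match_scalars <;> field_simp <;> grind

/-- Chains followed by a quadratic pair. -/
theorem pairData [Fintype K] (hodd : Fintype.card K % 2 = 1) (h2K : (2 : K) ≠ 0)
    (h4 : 4 ≤ ENat.card K) (hq : NoRoot t d) (ht : t ≠ 0) (m : ℕ) :
    ∀ {V : Type*} [AddCommGroup V] [Module K V] [FiniteDimensional K V],
      finrank K V = m + 2 → 1 ≤ m → ∀ A : End K V, LinearMap.det A = 1 →
      2 ≤ finrank K (LinearMap.range (A - 1)) → (¬ ∃ l : K, A = l • (1 : End K V)) →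
      ∀ (b : V) (c : Dual K V), b ≠ 0 → c ≠ 0 →
        Nonempty (PairData A m (qp t d) (qp (t / d) (1 / d)) b c) := by
  have hd : d ≠ 0 := fun h => hq 0 (by rw [h]; ring)
  have hp : (qp t d).eval 1 ≠ 0 := by rw [eval_qp]; exact hq 1
  have hr1 : (qp (t / d) (1 / d)).eval 1 ≠ 0 := by
    rw [eval_qp]
    intro h
    refine hq 1 ?_
    field_simp at h
    linear_combination h
  induction m with
  | zero => intro V _ _ _ _ h; omega
  | succ m ih =>
    intro V _ _ _ hn _ A hdet hr hns b c hb hc
    obtain ⟨s, hr', hns'⟩ := exists_step h4 A (by omega) hdet hr hns b hb c hc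
    have hk : finrank K (LinearMap.ker s.φ) = m + 2 := by
      have := finrank_ker_form s.hx
      omega
    have hd' : LinearMap.det s.next = 1 := (det_schur A s.x s.φ s.hx s.hA).trans hdet
    by_cases hm : m = 0
    · subst hm
      obtain ⟨F⟩ := pairs_plane hodd h2K hk s.next hd' hr' hns' hq ht
      exact ⟨F.liftStart hp hr1⟩
    · obtain ⟨F⟩ := ih hk (by omega) s.next hd' hr' hns' s.col s.row s.col_ne_zero s.row_ne_zero
      exact ⟨F.lift (by omega) hr1⟩

/-- One chain of length `m` on `1` and a copy of the quadratic `(t, d)`. -/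
structure QForm (T : End K V) (m : ℕ) (t d : K) where
  v : V
  w : V
  top : ((T - 1) ^ m : End K V) v = 0
  pred : 1 ≤ m → ((T - 1) ^ (m - 1) : End K V) v ≠ 0
  quad : T (T w) = t • T w - d • w
  ne : w ≠ 0
  dim : finrank K V = m + 2

variable {T : End K V} {m : ℕ}

/-- The adapted family. -/
def QForm.family (h : QForm T m t d) : Fin m ⊕ Fin 2 → V :=
  Sum.elim (fun i : Fin m => ((T - 1) ^ (i : ℕ) : End K V) h.v) ![h.w, T h.w]

theorem QForm.pair_zero (h : QForm T m t d) (hq : NoRoot t d) {x y : K}
    (e : x • h.w + y • T h.w = 0) : x = 0 ∧ y = 0 := by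
  by_cases hy : y = 0
  · subst hy
    rw [zero_smul, add_zero] at e
    exact ⟨(smul_eq_zero.1 e).resolve_right h.ne, rfl⟩
  · exfalso
    have hT : T h.w = (-x / y) • h.w := by
      apply smul_right_injective V hy
      change y • T h.w = y • ((-x / y) • h.w)
      rw [smul_smul, mul_div_cancel₀ _ hy, eq_neg_of_add_eq_zero_right e, neg_smul]
    set r := -x / y
    have h2 := h.quad
    rw [hT, map_smul, hT, smul_smul, smul_smul, ← sub_smul] at h2
    have h3 : (r * r - (t * r - d)) • h.w = 0 := by rw [sub_smul, h2, sub_self]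
    exact hq r (by
      linear_combination (smul_eq_zero.1 h3).resolve_right h.ne)

theorem QForm.pow_pair (h : QForm T m t d) (i : ℕ) (x y : K) :
    ∃ x' y' : K, ((T - 1) ^ i : End K V) (x • h.w + y • T h.w) = x' • h.w + y' • T h.w := by
  induction i generalizing x y with
  | zero => exact ⟨x, y, by simp⟩
  | succ i ih =>
    obtain ⟨x', y', e⟩ := ih (-x - d * y) (x + t * y - y)
    refine ⟨x', y', ?_⟩
    rw [pow_succ, Module.End.mul_apply, ← e]
    congr 1
    simp only [map_add, map_smul, LinearMap.sub_apply, Module.End.one_apply, h.quad]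
    module

theorem QForm.pow_pair_eq_zero (h : QForm T m t d) (hq : NoRoot t d) (i : ℕ) (x y : K)
    (e : ((T - 1) ^ i : End K V) (x • h.w + y • T h.w) = 0) : x = 0 ∧ y = 0 := by
  induction i generalizing x y with
  | zero => exact h.pair_zero hq (by simpa using e)
  | succ i ih =>
    rw [pow_succ, Module.End.mul_apply] at e
    have e' : (T - 1) (x • h.w + y • T h.w) = (-x - d * y) • h.w + (x + t * y - y) • T h.w := by
      simp only [map_add, map_smul, LinearMap.sub_apply, Module.End.one_apply, h.quad]
      module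
    rw [e'] at e
    obtain ⟨h1, h2⟩ := ih _ _ e
    have h3 : (1 * 1 - t * 1 + d) * y = 0 := by linear_combination -h1 - h2
    have hy : y = 0 := (mul_eq_zero.1 h3).resolve_left (hq 1)
    subst hy
    exact ⟨by linear_combination h2, rfl⟩

theorem QForm.independent (h : QForm T m t d) (hq : NoRoot t d) : LinearIndependent K h.family := by
  classical
  rw [Fintype.linearIndependent_iff]
  intro g hg
  rw [Fintype.sum_sum_type, Fin.sum_univ_two] at hg
  simp only [QForm.family, Sum.elim_inl, Sum.elim_inr, Matrix.cons_val_zero, Matrix.cons_val_one] at hg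
  have hr : g (Sum.inr 0) = 0 ∧ g (Sum.inr 1) = 0 := by
    have h1 := congrArg ((T - 1) ^ m : End K V) hg
    rw [map_add, map_sum, map_zero, Finset.sum_eq_zero (fun i _ => by
      rw [map_smul, ← Module.End.mul_apply, ← pow_add, add_comm, pow_add, Module.End.mul_apply, h.top,
        map_zero, smul_zero]), zero_add] at h1
    exact h.pow_pair_eq_zero hq m _ _ h1
  simp only [hr.1, hr.2, zero_smul, add_zero] at hg
  have hl : ∀ i : Fin m, g (Sum.inl i) = 0 := by
    by_contra hne
    push Not at hne
    obtain ⟨i, hi, hmin⟩ := Finset.exists_min_image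
      (Finset.univ.filter fun i : Fin m => g (Sum.inl i) ≠ 0) (fun i => (i : ℕ))
      (by obtain ⟨i, hi⟩ := hne; exact ⟨i, by simpa using hi⟩)
    have h1 := congrArg ((T - 1) ^ (m - 1 - (i : ℕ)) : End K V) hg
    simp only [map_sum, map_smul, map_zero, ← Module.End.mul_apply, ← pow_add] at h1
    rw [Finset.sum_eq_single i] at h1
    · have hm : 1 ≤ m := by have := i.2; omega
      rw [show m - 1 - (i : ℕ) + i = m - 1 by have := i.2; omega] at h1
      exact (Finset.mem_filter.1 hi).2 ((smul_eq_zero.1 h1).resolve_right (h.pred hm))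
    · intro j _ hji
      by_cases hj : g (Sum.inl j) = 0
      · rw [hj, zero_smul]
      · have hlt : (i : ℕ) < j := lt_of_le_of_ne (hmin j (by simpa using hj))
          (fun e => hji (Fin.ext e.symm))
        rw [show m - 1 - (i : ℕ) + j = (j - i - 1) + m by have := j.2; have := i.2; omega,
          pow_add, Module.End.mul_apply, h.top, map_zero, smul_zero]
    · simp
  rintro (i | i)
  · exact hl i
  · fin_cases i
    exacts [hr.1, hr.2]

variable [FiniteDimensional K V]

/-- The adapted basis. -/
noncomputable def QForm.basis (h : QForm T m t d) (hq : NoRoot t d) :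
    Basis (Fin m ⊕ Fin 2) K V :=
  Basis.mk (h.independent hq)
    ((h.independent hq).span_eq_top_of_card_eq_finrank' (by simp [h.dim])).ge

theorem QForm.basis_apply (h : QForm T m t d) (hq : NoRoot t d) (x : Fin m ⊕ Fin 2) :
    h.basis hq x = h.family x := Basis.mk_apply _ _ x

/-- An endomorphism fixing the chain and acting through `x + y T` on the quadratic part. -/
theorem QForm.exists_commute_det [Fintype K] (hodd : Fintype.card K % 2 = 1) (h2 : (2 : K) ≠ 0)
    (h : QForm T m t d) (hq : NoRoot t d) (e : K) :
    ∃ z : End K V, LinearMap.det z = e ∧ z * T = T * z := by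
  classical
  obtain ⟨x, y, hxy⟩ : ∃ x y : K, x * x + t * x * y + d * (y * y) = e := by
    have hD : t / 2 * (t / 2) - d ≠ 0 := fun h0 => hq (t / 2) (by
      field_simp at h0 ⊢
      linear_combination -h0)
    obtain ⟨u, y, hu⟩ := FiniteField.exists_root_sum_quadratic (f := X ^ 2 - C e)
      (g := C (-(t / 2 * (t / 2) - d)) * X ^ 2) (degree_X_pow_sub_C two_pos _)
      (degree_C_mul_X_pow 2 (neg_ne_zero.2 hD)) hodd
    refine ⟨u - t * y / 2, y, ?_⟩
    simp only [eval_sub, eval_mul, eval_C, eval_pow, eval_X] at hu
    field_simp at hu ⊢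
    linear_combination hu
  let B := h.basis hq
  let z : End K V := B.constr K (Sum.elim (fun i : Fin m => ((T - 1) ^ (i : ℕ) : End K V) h.v)
    ![x • h.w + y • T h.w, x • T h.w + y • T (T h.w)])
  have hz : ∀ a, z (B a) = Sum.elim (fun i : Fin m => ((T - 1) ^ (i : ℕ) : End K V) h.v)
      ![x • h.w + y • T h.w, x • T h.w + y • T (T h.w)] a := fun a => B.constr_basis K _ a
  have hchain : ∀ i : Fin m, z (((T - 1) ^ (i : ℕ) : End K V) h.v) =
      ((T - 1) ^ (i : ℕ) : End K V) h.v := fun i => by
    have := hz (Sum.inl i)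
    rwa [h.basis_apply] at this
  have hw : z h.w = x • h.w + y • T h.w := by
    have := hz (Sum.inr 0)
    rwa [h.basis_apply] at this
  have hTw : z (T h.w) = x • T h.w + y • T (T h.w) := by
    have := hz (Sum.inr 1)
    rwa [h.basis_apply] at this
  refine ⟨z, ?_, B.ext fun a => ?_⟩
  · rw [← LinearMap.det_toMatrix B]
    have hm : LinearMap.toMatrix B B z =
        Matrix.fromBlocks 1 0 0 !![x, -(d * y); y, x + t * y] := by
      have hw0 : h.w = B (Sum.inr 0) := (h.basis_apply hq (Sum.inr 0)).symm
      have hw1 : T h.w = B (Sum.inr 1) := (h.basis_apply hq (Sum.inr 1)).symm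
      have hv : ∀ i : Fin m, ((T - 1) ^ (i : ℕ) : End K V) h.v = B (Sum.inl i) := fun i =>
        (h.basis_apply hq (Sum.inl i)).symm
      ext a b
      rw [LinearMap.toMatrix_apply, hz]
      rcases b with b | b
      · simp only [Sum.elim_inl, hv, B.repr_self]
        rcases a with a | a <;> simp [Finsupp.single_apply, Matrix.one_apply, eq_comm]
      · fin_cases b
        · simp only [Fin.zero_eta, Sum.elim_inr, Matrix.cons_val_zero]
          rw [hw1, hw0]
          simp only [map_add, map_smul, B.repr_self]
          rcases a with a | a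
          · simp
          · fin_cases a <;> simp
        · simp only [Fin.mk_one, Sum.elim_inr, Matrix.cons_val_one, Matrix.cons_val_zero, h.quad]
          rw [show x • T h.w + y • (t • T h.w - d • h.w) =
            (-(d * y)) • h.w + (x + t * y) • T h.w by module, hw1, hw0]
          rw [map_add, map_smul, map_smul, B.repr_self, B.repr_self]
          rcases a with a | a
          · simp
          · fin_cases a <;> simp
    rw [hm, Matrix.det_fromBlocks_zero₂₁, Matrix.det_one, one_mul, Matrix.det_fin_two_of]
    linear_combination hxy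
  · rw [Module.End.mul_apply, Module.End.mul_apply, hz]
    rcases a with i | j
    · rw [h.basis_apply]
      change z (T (((T - 1) ^ (i : ℕ) : End K V) h.v)) = T (((T - 1) ^ (i : ℕ) : End K V) h.v)
      rw [apply_chain T, map_add, hchain]
      congr 1
      by_cases hi : (i : ℕ) + 1 < m
      · exact hchain ⟨(i : ℕ) + 1, hi⟩
      · rw [show (i : ℕ) + 1 = m by have := i.2; omega, h.top, map_zero]
    · rw [h.basis_apply]
      fin_cases j
      · change z (T h.w) = T (x • h.w + y • T h.w)
        rw [hTw, map_add, map_smul, map_smul]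
      · change z (T (T h.w)) = T (x • T h.w + y • T (T h.w))
        rw [h.quad, map_sub, map_smul, map_smul, hTw, hw]
        simp only [map_add, map_smul, h.quad, map_sub]
        module

/-- The determinant. -/
theorem QForm.det_eq (h : QForm T m t d) (hq : NoRoot t d) : LinearMap.det T = d := by
  classical
  let B := h.basis hq
  rw [← LinearMap.det_toMatrix B]
  have hw0 : h.w = B (Sum.inr 0) := (h.basis_apply hq (Sum.inr 0)).symm
  have hw1 : T h.w = B (Sum.inr 1) := (h.basis_apply hq (Sum.inr 1)).symm
  have hM : LinearMap.toMatrix B B T = Matrix.fromBlocks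
      (Matrix.of fun i k : Fin m => if i = k then 1 else if (i : ℕ) = k + 1 then 1 else 0) 0 0
      !![0, -d; 1, t] := by
    ext a b
    rw [LinearMap.toMatrix_apply, h.basis_apply]
    rcases b with k | k
    · change B.repr (T (((T - 1) ^ (k : ℕ) : End K V) h.v)) a = _
      rw [apply_chain T]
      have hk : ((T - 1) ^ (k : ℕ) : End K V) h.v = B (Sum.inl k) :=
        (h.basis_apply hq (Sum.inl k)).symm
      by_cases hk1 : (k : ℕ) + 1 < m
      · have hk' : ((T - 1) ^ ((k : ℕ) + 1) : End K V) h.v = B (Sum.inl ⟨k + 1, hk1⟩) :=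
          (h.basis_apply hq (Sum.inl ⟨k + 1, hk1⟩)).symm
        rw [hk', hk, map_add, B.repr_self, B.repr_self]
        rcases a with a | a
        · by_cases ha : a = k
          · subst ha; simp [Finsupp.single_apply, Fin.ext_iff]
          · have ha' : (a : ℕ) ≠ k := fun e => ha (Fin.ext e)
            simp [Finsupp.single_apply, ha, Ne.symm ha, Fin.ext_iff, eq_comm]
            try intro; omega
        · simp
      · rw [show (k : ℕ) + 1 = m by have := k.2; omega, h.top, zero_add, hk, B.repr_self]
        rcases a with a | a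
        · by_cases ha : a = k
          · subst ha; simp
          · have : (a : ℕ) ≠ k + 1 := by have := a.2; omega
            simp [Finsupp.single_apply, ha, Ne.symm ha, this]
        · simp
    · fin_cases k
      · change B.repr (T h.w) a = _
        rw [hw1, B.repr_self]
        rcases a with a | a
        · simp
        · fin_cases a <;> simp
      · change B.repr (T (T h.w)) a = _
        rw [h.quad, hw1, hw0, map_sub, map_smul, map_smul, B.repr_self, B.repr_self]
        rcases a with a | a
        · simp
        · fin_cases a <;> simp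
  rw [hM, Matrix.det_fromBlocks_zero₂₁, Matrix.det_fin_two_of,
    Matrix.det_of_isLowerTriangular _ (fun i k hik => by
      have hlt : (i : ℕ) < k := hik
      simp only [Matrix.of_apply]
      rw [if_neg (fun e => by subst e; omega), if_neg (by omega)])]
  simp

variable [FiniteDimensional K W]

omit [FiniteDimensional K V] [FiniteDimensional K W] in
theorem QForm.conj {S : End K W} (h : QForm T m t d) (h' : QForm S m t d) (hq : NoRoot t d) :
    ∃ e : V ≃ₗ[K] W, ∀ v, e (T v) = S (e v) := by
  have _fv : FiniteDimensional K V := Module.finite_of_finrank_pos (by rw [h.dim]; omega)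
  have _fw : FiniteDimensional K W := Module.finite_of_finrank_pos (by rw [h'.dim]; omega)
  let B := h.basis hq
  let B' := h'.basis hq
  let e := B.equiv B' (Equiv.refl _)
  have he : ∀ x, e (h.family x) = h'.family x := fun x => by
    rw [← h'.basis_apply hq, ← h.basis_apply hq]; exact B.equiv_apply x B' (Equiv.refl _)
  refine ⟨e, fun v => LinearMap.congr_fun
    (B.ext (f₁ := e.toLinearMap ∘ₗ T) (f₂ := S ∘ₗ e.toLinearMap) fun x => ?_) v⟩
  simp only [LinearMap.comp_apply, LinearEquiv.coe_coe]
  rw [show B x = h.family x from h.basis_apply hq x, he]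
  rcases x with i | j
  · have hi := he (Sum.inl i)
    simp only [QForm.family, Sum.elim_inl] at hi ⊢
    rw [apply_chain T, apply_chain S, map_add, hi]
    congr 1
    by_cases hlast : (i : ℕ) + 1 < m
    · simpa only [QForm.family, Sum.elim_inl] using he (Sum.inl ⟨(i : ℕ) + 1, hlast⟩)
    · have he' : (i : ℕ) + 1 = m := by have := i.2; omega
      rw [he', h.top, h'.top, map_zero]
  · have h0 : e h.w = h'.w := he (Sum.inr 0)
    have h1 : e (T h.w) = S h'.w := he (Sum.inr 1)
    fin_cases j
    · exact h1
    · change e (T (T h.w)) = S (S h'.w)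
      rw [h.quad, h'.quad, map_sub, map_smul, map_smul, h0, h1]

omit [FiniteDimensional K V] [FiniteDimensional K W] in
/-- The inverse has the reversed form. -/
noncomputable def QForm.inv (h : QForm T m t d) (hd : d ≠ 0) (Ti : End K V) (h1 : T * Ti = 1)
    (h2 : Ti * T = 1) : QForm Ti m (t / d) (1 / d) where
  v := h.v
  w := T (T h.w)
  top := by rw [inverse_chain T Ti h1 h2, Module.End.mul_apply, h.top, map_zero]
  pred hm := by
    rw [inverse_chain T Ti h1 h2, Module.End.mul_apply]
    intro h0
    refine h.pred hm ?_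
    have hinj : Function.Injective ((-Ti) ^ (m - 1) : End K V) := by
      refine Function.LeftInverse.injective (g := ((-T) ^ (m - 1) : End K V)) fun v => ?_
      rw [← Module.End.mul_apply, ← (show Commute (-T) (-Ti) by simp [Commute, SemiconjBy, h1, h2]).mul_pow, neg_mul_neg, h1,
        one_pow, Module.End.one_apply]
    exact hinj (h0.trans (map_zero _).symm)
  quad := by
    have l2 : ∀ u, Ti (T u) = u := fun u => LinearMap.congr_fun h2 u
    rw [l2, l2, h.quad]
    match_scalars <;> field_simp <;> ring
  ne := fun h0 => h.ne (by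
    have l2 : ∀ u, Ti (T u) = u := fun u => LinearMap.congr_fun h2 u
    rw [← l2 h.w, ← l2 (T h.w), h0, map_zero, map_zero])
  dim := h.dim

variable {A : End K V} {b : V} {c : Dual K V} {p r : K[X]}

omit [FiniteDimensional K V] in
theorem PairData.formL (F : PairData A m (qp t d) r b c) (hdim : finrank K V = m + 2)
    (hm : 1 ≤ m) : Nonempty (QForm F.L m t d) := by
  obtain ⟨w, hw0, hw⟩ := F.hLe
  have hcomm : ∀ (i : ℕ) (v : V), ((F.L - 1) ^ i : End K V) (aeval F.L (qp t d) v) =
      aeval F.L (qp t d) (((F.L - 1) ^ i : End K V) v) := by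
    intro i
    induction i with
    | zero => simp
    | succ i ih => intro v; rw [pow_succ', Module.End.mul_apply, Module.End.mul_apply, ih, aeval_commute]
  refine ⟨{ v := aeval F.L (qp t d) b, w := w, top := by rw [hcomm, F.hLq],
            pred := fun _ => by rw [hcomm]; exact F.hb, quad := ?_, ne := hw0, dim := hdim }⟩
  rw [aeval_qp] at hw
  linear_combination (norm := module) hw

omit [FiniteDimensional K V] in
theorem PairData.formU (F : PairData A m p (qp t d) b c) (hdim : finrank K V = m + 2) :
    Nonempty (QForm F.U m t d) := by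
  obtain ⟨w, hw0, hw⟩ := F.hUe
  obtain ⟨v, hv⟩ := F.hc
  have hcomm : ∀ (i : ℕ) (v : V), ((F.U - 1) ^ i : End K V) (aeval F.U (qp t d) v) =
      aeval F.U (qp t d) (((F.U - 1) ^ i : End K V) v) := by
    intro i
    induction i with
    | zero => simp
    | succ i ih => intro v; rw [pow_succ', Module.End.mul_apply, Module.End.mul_apply, ih, aeval_commute]
  refine ⟨{ v := aeval F.U (qp t d) v, w := w, top := by rw [hcomm, F.hUq],
            pred := fun _ h0 => hv (by rw [← hcomm, h0, map_zero]), quad := ?_, ne := hw0,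
            dim := hdim }⟩
  rw [aeval_qp] at hw
  linear_combination (norm := module) hw

end CfsgLib.KnownB.OreOmega
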