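import Cfsg.Agent.Lib.KnownB.OreOmega.Defs
import Cfsg.Agent.Lib.KnownB.OreOmega.BigForm

/-!
The corner property over fields of odd order at least five.
-/

set_option autoImplicit false

namespace CfsgLib.KnownB.OreOmega

open Matrix Polynomial Module CfsgLib.KnownB.Sourour CfsgLib.KnownB.OreSp

variable {F : Type*} [Field F]

theorem Corner.conj {n : ℕ} {M : Matrix (Fin n) (Fin n) F} (h : Corner M)
    (Q Qi : Matrix (Fin n) (Fin n) F) (h1 : Q * Qi = 1) (h2 : Qi * Q = 1) :
    Corner (Q * M * Qi) := by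
  obtain ⟨Φ, X, P, hΦ, hXs, hX0, hPs, hP0, hz, e⟩ := h
  have hd : ∀ Y : Matrix (Fin n) (Fin n) F, (Q * Y * Qi).det = Y.det := fun Y => by
    rw [det_mul, det_mul, mul_comm Q.det, mul_assoc, ← det_mul, h1, det_one, mul_one]
  have hm : ∀ Y Z : Matrix (Fin n) (Fin n) F, Q * Y * Qi * (Q * Z * Qi) = Q * (Y * Z) * Qi :=
    fun Y Z => by
      simp only [Matrix.mul_assoc]; rw [← Matrix.mul_assoc Qi Q, h2, Matrix.one_mul]
  refine ⟨Φ, Q * X * Qi, Q * P * Qi, hΦ, by rw [hd]; exact hXs, by rw [hd]; exact hX0,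
    by rw [hd]; exact hPs, by rw [hd]; exact hP0, ?_, by rw [hm, hm, hm, e]⟩
  have hs : Q * X = Q * X * Qi * Q := by rw [Matrix.mul_assoc _ Qi, h2, Matrix.mul_one]
  have := aeval_semiconj hs Φ
  rw [hz, Matrix.mul_zero] at this
  calc aeval (Q * X * Qi) Φ = aeval (Q * X * Qi) Φ * Q * Qi := by
        rw [Matrix.mul_assoc (aeval _ Φ), h1, Matrix.mul_one]
    _ = 0 := by rw [← this, Matrix.zero_mul]

theorem Corner.reindex {ι κ : Type*} [Fintype ι] [DecidableEq ι] [Fintype κ] [DecidableEq κ]
    {M : Matrix ι ι F} (h : Corner M) (e : ι ≃ κ) : Corner (reindex e e M) := by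
  obtain ⟨Φ, X, P, hΦ, hXs, hX0, hPs, hP0, hz, he⟩ := h
  refine ⟨Φ, reindexAlgEquiv F F e X, reindexAlgEquiv F F e P, hΦ, by simpa using hXs,
    by simpa using hX0, by simpa using hPs, by simpa using hP0, ?_, ?_⟩
  · rw [show reindexAlgEquiv F F e X = (reindexAlgEquiv F F e).toAlgHom X from rfl,
      aeval_algHom_apply, hz, map_zero]
  · rw [← reindexAlgEquiv_apply F F, ← map_mul, ← map_mul, ← map_mul, he]

/-- A linear factor and an irreducible quadratic, apart from their reversals. -/
theorem apart_big {c s p : F} (hc : c * c ≠ 1) (hq : NoRoot s p) (hp : p ≠ 1) (m : ℕ) :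
    Apart ((Polynomial.X - Polynomial.C c) ^ m * qp s p) := by
  set l : F[X] := Polynomial.X - Polynomial.C c with hl
  set l' : F[X] := 1 - Polynomial.C c * Polynomial.X with hl'
  set r : F[X] := qp s p with hr
  set r' : F[X] := Polynomial.C p * Polynomial.X ^ 2 - Polynomial.C s * Polynomial.X + 1 with hr'
  have hp0 : p ≠ 0 := fun h => hq 0 (by rw [h]; ring)
  have hrev : Rev (l ^ m * r) (l' ^ m * r') := by
    have h1 : Rev l l' := ⟨1, by rw [hl, natDegree_X_sub_C], by
      have e : l = Polynomial.C 1 * Polynomial.X ^ 1 + Polynomial.C (-c) * Polynomial.X ^ 0 := by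
        simp [hl, sub_eq_add_neg]
      rw [e, hl', reflect_add, reflect_C_mul_X_pow, reflect_C_mul_X_pow, revAt_le le_rfl,
        revAt_le (Nat.zero_le _)]
      simp [sub_eq_add_neg]⟩
    have h2 : Rev r r' := ⟨2, by rw [hr, qp]; compute_degree, by
      have e : r = Polynomial.C 1 * Polynomial.X ^ 2 + Polynomial.C (-s) * Polynomial.X ^ 1 +
          Polynomial.C p * Polynomial.X ^ 0 := by
        simp [hr, qp, sub_eq_add_neg]
      rw [e, hr', reflect_add, reflect_add, reflect_C_mul_X_pow, reflect_C_mul_X_pow,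
        reflect_C_mul_X_pow, revAt_le le_rfl, revAt_le (show 1 ≤ 2 by omega),
        revAt_le (Nat.zero_le _)]
      simp [sub_eq_add_neg]
      ring⟩
    refine Rev.mul ?_ h2
    clear h2
    induction m with
    | zero => exact ⟨0, by simp, by simp⟩
    | succ k ih => rw [pow_succ, pow_succ]; exact ih.mul h1
  have lin : ∀ g : F[X], g.eval c ≠ 0 → IsCoprime l g := fun g hg =>
    (irreducible_X_sub_C c).coprime_iff_not_dvd.2 fun h => hg (dvd_iff_isRoot.1 h)
  have hrm : r.Monic := by rw [hr, qp]; monicity!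
  have hrd : r.natDegree = 2 := by rw [hr, qp]; compute_degree!
  have hri : Irreducible r := by
    refine (hrm.irreducible_iff_roots_eq_zero_of_degree_le_three (by omega) (by omega)).2 ?_
    refine Multiset.eq_zero_of_forall_notMem fun x hx => hq x ?_
    rw [mem_roots hrm.ne_zero, IsRoot.def, hr, eval_qp] at hx
    exact hx
  have quad : ∀ g : F[X], g.natDegree < 2 → g ≠ 0 → IsCoprime r g := fun g hg hg0 =>
    hri.coprime_iff_not_dvd.2 fun h => by
      have := natDegree_le_of_dvd h hg0
      omega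
  have hll : IsCoprime l l' := lin _ (by
    simp only [hl', eval_sub, eval_one, eval_mul, eval_C, eval_X, sub_ne_zero]
    exact fun h => hc h.symm)
  have hlr : IsCoprime l r' := lin _ (by
    simp only [hr', eval_add, eval_sub, eval_mul, eval_C, eval_pow, eval_X, eval_one]
    intro h
    by_cases hc0 : c = 0
    · rw [hc0] at h; simp at h
    refine hq c⁻¹ ?_
    field_simp
    linear_combination h)
  have hrl : IsCoprime r l' := quad _ (by
    rw [hl']
    refine (natDegree_sub_le _ _).trans_lt (max_lt (by simp) ?_)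
    exact (natDegree_C_mul_le _ _).trans_lt (by rw [natDegree_X]; omega)) (by
    intro h
    have := congrArg (eval 0) h
    simp [hl'] at this)
  have hrr : IsCoprime r r' := hri.coprime_iff_not_dvd.2 fun h => by
    set g : F[X] := Polynomial.C (s * (p - 1)) * Polynomial.X + Polynomial.C (1 - p * p) with hg
    have e : g = r' - Polynomial.C p * r := by
      simp only [hg, hr', hr, qp, map_sub, map_mul, map_one]; ring
    have hd : r ∣ g := by rw [e]; exact dvd_sub h (dvd_mul_left _ _)
    have hg0 : g = 0 := by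
      by_contra hne
      have h1 := natDegree_le_of_dvd hd hne
      have h2 : g.natDegree ≤ 1 := natDegree_linear_le
      omega
    have h0 : 1 - p * p = 0 := by simpa [hg] using congrArg (fun f => coeff f 0) hg0
    have h1 : s * (p - 1) = 0 := by simpa [hg, coeff_one, coeff_C, -map_sub] using congrArg (fun f => coeff f 1) hg0
    have hp1 : p = -1 := by
      have : (p - 1) * (p + 1) = 0 := by linear_combination -h0
      exact eq_neg_of_add_eq_zero_left ((mul_eq_zero.1 this).resolve_left (sub_ne_zero.2 hp))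
    have hs : s = 0 := (mul_eq_zero.1 h1).resolve_right (sub_ne_zero.2 hp)
    exact hq 1 (by rw [hs, hp1]; ring)
  exact ⟨_, hrev, (IsCoprime.pow hll).mul_right hlr.pow_left |>.mul_left
    (hrl.pow_right.mul_right hrr)⟩

variable [Fintype F]

/-- A quadratic without roots with prescribed constant and non-zero middle term. -/
theorem exists_noRoot (h5 : 5 ≤ Fintype.card F) {d : F} (hd : d ≠ 0) :
    ∃ t : F, t ≠ 0 ∧ NoRoot t d := by
  classical
  by_contra hall
  push Not at hall
  simp only [NoRoot, not_forall, not_not] at hall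
  choose x hx using hall
  let f : {t : F // t ≠ 0} → {y : F // y ≠ 0} := fun t =>
    ⟨x t.1 t.2, fun h => hd (by have := hx t.1 t.2; rw [h] at this; linear_combination this)⟩
  have key : ∀ t : {t : F // t ≠ 0}, t.1 = (f t).1 + d / (f t).1 := fun t => by
    have h1 := hx t.1 t.2
    have h2 := (f t).2
    change t.1 = x t.1 t.2 + d / x t.1 t.2
    change x t.1 t.2 ≠ 0 at h2
    field_simp
    linear_combination -h1
  have hinj : Function.Injective f := fun a b e => Subtype.ext (by rw [key a, key b, e])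
  have hsurj := Finite.surjective_of_injective hinj
  have hsq : ∀ y : F, y ≠ 0 → y * y = d := fun y hy => by
    obtain ⟨t, ht⟩ := hsurj ⟨y, hy⟩
    obtain ⟨t', ht'⟩ := hsurj ⟨d / y, div_ne_zero hd hy⟩
    have e : t = t' := Subtype.ext (by
      rw [key t, key t', ht, ht', div_div_cancel₀ hd]; ring)
    have : y = d / y := by
      have := congrArg (fun z => (f z).1) e
      simpa [ht, ht'] using this
    field_simp at this
    linear_combination this
  obtain ⟨y, hy⟩ := Finset.exists_mem_notMem_of_card_lt_card (s := ({0, 1, -1} : Finset F))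
    (t := Finset.univ) (by rw [Finset.card_univ]; exact Finset.card_le_three.trans_lt (by omega))
  simp only [Finset.mem_insert, Finset.mem_singleton, not_or] at hy
  have h1 := hsq 1 one_ne_zero
  have h2 := hsq y hy.2.1
  rcases mul_self_eq_one_iff.1 (h2.trans (h1.symm.trans (one_mul 1))) with h | h
  exacts [hy.2.2.1 h, hy.2.2.2 h]

theorem aeval_smul_form {A : Type*} [Ring A] [Algebra F A] (L : A) (c t d : F) (m : ℕ)
    (h : aeval L (qp t d) * (L - 1) ^ m = 0) :
    aeval (c • L) ((Polynomial.X - Polynomial.C c) ^ m * qp (c * t) (c * c * d)) = 0 := by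
  have hc : Commute ((L - 1) ^ m) (aeval L (qp t d)) := by
    have h1 : (L - 1) ^ m = aeval L ((Polynomial.X - 1 : F[X]) ^ m) := by simp
    rw [h1]; exact (Commute.all _ _).map (aeval L)
  have e1 : aeval (c • L) ((Polynomial.X - Polynomial.C c) ^ m : F[X]) = c ^ m • (L - 1) ^ m := by
    rw [map_pow, map_sub, aeval_X, aeval_C, Algebra.algebraMap_eq_smul_one, ← smul_sub,
      _root_.smul_pow]
  have e2 : aeval (c • L) (qp (c * t) (c * c * d)) = (c * c) • aeval L (qp t d) := by
    simp only [qp, map_add, map_sub, map_mul, map_pow, aeval_X, aeval_C, pow_two,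
      Algebra.algebraMap_eq_smul_one, smul_mul_assoc, mul_smul_comm, one_mul, smul_smul, smul_sub,
      smul_add]
    congr 2 <;> ring
  rw [map_mul, e1, e2, smul_mul_smul_comm, hc.eq, h, smul_zero]

theorem aeval_toMatrix {n : ℕ} (T : End F (Fin n → F)) (P : F[X]) :
    aeval (LinearMap.toMatrix' T) P = LinearMap.toMatrix' (aeval T P) :=
  aeval_algHom_apply (LinearMap.toMatrixAlgEquiv' (R := F) (n := Fin n)).toAlgHom T P

/-- The corner property over fields of odd order at least five. -/
theorem corner_big (hodd : Fintype.card F % 2 = 1) (h5 : 5 ≤ Fintype.card F) {n : ℕ} (hn : 3 ≤ n)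
    (M : Matrix (Fin n) (Fin n) F) (hM : M.det = 1) (hns : M = 1 ∨ ¬ ∃ l : F, M = l • 1) :
    Corner M := by
  classical
  obtain ⟨m, rfl⟩ : ∃ m, n = 2 + m := ⟨n - 2, by omega⟩
  have h2 : (2 : F) ≠ 0 := Ring.two_ne_zero fun h => by
    have := FiniteField.even_card_of_char_two h
    omega
  have h4 : 4 ≤ ENat.card F := by
    rw [ENat.card_eq_coe_fintype_card]; exact_mod_cast (show 4 ≤ Fintype.card F by omega)
  obtain ⟨c, hc⟩ := exists_scalar h4 {0, 1, -1} Finset.card_le_three
  simp only [Finset.mem_insert, Finset.mem_singleton, not_or] at hc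
  have hcc : c * c ≠ 1 := fun h => (mul_self_eq_one_iff.1 h).elim hc.2.1 hc.2.2
  obtain ⟨d, hd0, hd1, hds⟩ : ∃ d : F, d ≠ 0 ∧ c * c * d ≠ 1 ∧ IsSquare (c ^ (2 + m) * d) := by
    by_cases h : c * c * c ^ (2 + m) = 1
    · refine ⟨c * c * c ^ (2 + m), by rw [h]; exact one_ne_zero, ?_, ?_⟩
      · rw [h, mul_one]; exact hcc
      · exact ⟨c * c ^ (2 + m), by ring⟩
    · exact ⟨c ^ (2 + m), pow_ne_zero _ hc.1, h, ⟨c ^ (2 + m), rfl⟩⟩
  obtain ⟨t, ht, hq⟩ := exists_noRoot h5 hd0
  have hΦ : Apart ((Polynomial.X - Polynomial.C c) ^ m * qp (c * t) (c * c * d)) := by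
    refine apart_big hcc (fun x hx => hq (x / c) ?_) hd1 m
    have := hc.1
    field_simp
    linear_combination hx
  by_cases hbig : 2 ≤ finrank F (LinearMap.range (toLin' M - 1))
  · -- regular factors
    set A := toLin' M with hA
    have hdA : LinearMap.det A = 1 := by rw [hA, LinearMap.det_toLin', hM]
    have hnsA : ¬ ∃ l : F, A = l • (1 : End F (Fin (2 + m) → F)) := by
      rintro ⟨l, hl⟩
      have hMl : M = l • 1 := Matrix.toLin'.injective (by
        rw [map_smul, Matrix.toLin'_one, ← Module.End.one_eq_id, ← hA, hl])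
      rcases hns with h | h
      · rw [hA, h, Matrix.toLin'_one, ← Module.End.one_eq_id, sub_self, LinearMap.range_zero,
          finrank_bot] at hbig
        omega
      · exact h ⟨l, hMl⟩
    let i0 : Fin (2 + m) := ⟨0, by omega⟩
    have hb : (Pi.single i0 (1 : F) : Fin (2 + m) → F) ≠ 0 := fun h =>
      (one_ne_zero : (1 : F) ≠ 0) (by simpa using congrFun h i0)
    have hcf : (LinearMap.proj i0 : Dual F (Fin (2 + m) → F)) ≠ 0 := fun h =>
      (one_ne_zero : (1 : F) ≠ 0) (by simpa using LinearMap.congr_fun h (Pi.single i0 (1 : F)))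
    obtain ⟨D⟩ := pairData hodd h2 h4 hq ht m (V := Fin (2 + m) → F) (by simp; omega) (by omega) A
      hdA hbig hnsA _ _ hb hcf
    obtain ⟨hL⟩ := D.formL (by simp; omega) (by omega)
    obtain ⟨hU⟩ := D.formU (by simp; omega)
    have hLd := hL.det_eq hq
    have hbij : Function.Bijective D.L := (Module.End.isUnit_iff D.L).1
      ((LinearMap.isUnit_iff_isUnit_det D.L).2 (by rw [hLd]; exact isUnit_iff_ne_zero.2 hd0))
    let E := LinearEquiv.ofBijective D.L hbij
    let Li : End F (Fin (2 + m) → F) := E.symm.toLinearMap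
    have h1 : D.L * Li = 1 := LinearMap.ext fun v => E.apply_symm_apply v
    have h2' : Li * D.L = 1 := LinearMap.ext fun v => E.symm_apply_apply v
    have hq' : NoRoot (t / d) (1 / d) := fun x hx => by
      have hx0 : x ≠ 0 := fun e => by rw [e] at hx; simp [hd0] at hx
      refine hq x⁻¹ ?_
      field_simp at hx ⊢
      linear_combination hx
    obtain ⟨e, he⟩ := (hL.inv hd0 Li h1 h2').conj hU hq'
    have hed : LinearMap.det e.toLinearMap ≠ 0 := (LinearEquiv.isUnit_det' e).ne_zero
    obtain ⟨z, hzd, hzc⟩ :=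
      hL.exists_commute_det hodd h2 hq (LinearMap.det e.toLinearMap)⁻¹
    set P : End F (Fin (2 + m) → F) := e.toLinearMap * z with hP
    have hPd : LinearMap.det P = 1 := by rw [hP, map_mul, hzd, mul_inv_cancel₀ hed]
    have hPL : A * (P * D.L) = D.L * P := by
      have he' : e.toLinearMap * Li = D.U * e.toLinearMap := LinearMap.ext he
      calc A * (P * D.L) = D.L * D.U * (P * D.L) := congrArg (· * (P * D.L)) D.hmul
        _ = D.L * (D.U * e.toLinearMap) * (z * D.L) := by
            rw [hP]; simp only [mul_assoc]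
        _ = D.L * (e.toLinearMap * Li) * (D.L * z) := by rw [he', hzc]
        _ = D.L * P := by
            simp only [mul_assoc]
            rw [← mul_assoc Li, h2', one_mul]
    refine ⟨_, c • LinearMap.toMatrix' D.L, LinearMap.toMatrix' P, hΦ, ?_, ?_, ?_, ?_, ?_, ?_⟩
    · rw [det_smul, Fintype.card_fin, LinearMap.det_toMatrix', hLd]; exact hds
    · rw [det_smul, Fintype.card_fin, LinearMap.det_toMatrix', hLd]
      exact mul_ne_zero (pow_ne_zero _ hc.1) hd0
    · rw [LinearMap.det_toMatrix', hPd]; exact IsSquare.one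
    · rw [LinearMap.det_toMatrix', hPd]; exact one_ne_zero
    · refine aeval_smul_form _ c t d m ?_
      have h0 : aeval D.L (qp t d) * (D.L - 1) ^ m = 0 := LinearMap.ext fun v => D.hLq v
      have h0' := congrArg (LinearMap.toMatrixAlgEquiv' (R := F) (n := Fin (2 + m))) h0
      rw [map_mul, map_pow, map_sub, map_one, map_zero] at h0'
      rw [aeval_toMatrix]
      exact h0'
    · have h' := congrArg LinearMap.toMatrix' hPL
      have hAM : LinearMap.toMatrix' A = M := LinearMap.toMatrix'_toLin' M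
      rw [LinearMap.toMatrix'_mul A, LinearMap.toMatrix'_mul P, LinearMap.toMatrix'_mul D.L P, hAM] at h'
      simp only [Matrix.mul_smul, Matrix.smul_mul]
      exact congrArg (c • ·) h'
  · -- transvections and the identity
    set C0 : Matrix (Fin 2) (Fin 2) F := !![0, -d; 1, t] with hC0
    set X0 : Matrix (Fin 2 ⊕ Fin m) (Fin 2 ⊕ Fin m) F := fromBlocks C0 0 0 1 with hX0
    have hC : C0 * C0 - t • C0 + d • 1 = 0 := by
      rw [hC0]; ext i j
      fin_cases i <;> fin_cases j <;>
        simp [Matrix.mul_apply, Fin.sum_univ_two] <;> ring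
    have hXz : aeval X0 (qp t d) * (X0 - 1) ^ m = 0 := by
      have hone : X0 - 1 = fromBlocks (C0 - 1) 0 0 0 := by
        rw [hX0, ← fromBlocks_one, sub_eq_add_neg, fromBlocks_neg, fromBlocks_add]
        simp [sub_eq_add_neg]
      rw [hone, fromBlocks_diagonal_pow, hX0, aeval_fromBlocks, fromBlocks_multiply]
      have : aeval C0 (qp t d) = 0 := by
        simpa [qp, pow_two, Algebra.algebraMap_eq_smul_one] using hC
      rw [this, zero_pow (by omega)]
      simp
    have hXd : X0.det = d := by
      rw [hX0, det_fromBlocks_zero₂₁, det_one, mul_one, hC0, det_fin_two_of]; ring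
    have base : ∀ B : Matrix (Fin 2) (Fin m) F, ∀ Z : Matrix (Fin 2) (Fin m) F,
        B = (C0 - 1) * Z → Corner (fromBlocks 1 B 0 1) := by
      intro B Z hB
      refine ⟨_, c • X0, fromBlocks 1 Z 0 1, hΦ, ?_, ?_, ?_, ?_, aeval_smul_form X0 c t d m hXz, ?_⟩
      · rw [det_smul, hXd]; simpa using hds
      · rw [det_smul, hXd]; exact mul_ne_zero (pow_ne_zero _ hc.1) hd0
      · rw [det_fromBlocks_zero₂₁, det_one, det_one, mul_one]; exact IsSquare.one
      · rw [det_fromBlocks_zero₂₁, det_one, det_one, mul_one]; exact one_ne_zero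
      · rw [Matrix.mul_smul, Matrix.mul_smul, Matrix.smul_mul]
        congr 1
        rw [hX0, hB, fromBlocks_multiply, fromBlocks_multiply, fromBlocks_multiply]
        simp [Matrix.sub_mul]
    let σ : Fin 2 ⊕ Fin m ≃ Fin (2 + m) := finSumFinEquiv
    by_cases h1 : M = 1
    · have := (base 0 0 (by rw [Matrix.mul_zero])).reindex σ
      rw [fromBlocks_one] at this
      simpa [h1] using this
    set A := toLin' M with hA
    obtain ⟨f, u, hf, hu, hfu, hAt⟩ := exists_transvection A
      (by rw [hA, LinearMap.det_toLin', hM])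
      (fun h => h1 (Matrix.toLin'.injective (by
        rw [Matrix.toLin'_one, ← Module.End.one_eq_id, ← hA, h]))) (by omega)
    let j0 : Fin m := ⟨0, by omega⟩
    let Z0 : Matrix (Fin 2) (Fin m) F := Matrix.single 0 j0 1
    let M0 : Matrix (Fin (2 + m)) (Fin (2 + m)) F :=
      Matrix.reindex σ σ (fromBlocks 1 ((C0 - 1) * Z0) 0 1)
    have hM0 : Corner M0 := (base _ Z0 rfl).reindex σ
    let u₀ : Fin (2 + m) → F := fun i => Sum.elim (fun a => (C0 - 1) a 0) 0 (σ.symm i)
    let f₀ : Dual F (Fin (2 + m) → F) := LinearMap.proj (σ (Sum.inr j0))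
    have hf₀ : f₀ ≠ 0 := fun h => (one_ne_zero : (1 : F) ≠ 0) (by
      simpa [f₀] using LinearMap.congr_fun h (Pi.single (σ (Sum.inr j0)) (1 : F)))
    have hu₀ : u₀ ≠ 0 := fun h => (one_ne_zero : (1 : F) ≠ 0) (by
      have := congrFun h (σ (Sum.inl 1))
      simpa [u₀, hC0] using this)
    have hfu₀ : f₀ u₀ = 0 := by simp [f₀, u₀]
    have hM0t : toLin' M0 = LinearMap.transvection f₀ u₀ := LinearMap.ext fun v => funext fun i => by
      rw [LinearMap.transvection.apply, toLin'_apply]
      simp only [M0, f₀, LinearMap.proj_apply, Pi.add_apply, Pi.smul_apply, smul_eq_mul]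
      obtain ⟨a, rfl⟩ := σ.surjective i
      simp only [Matrix.mulVec, dotProduct, reindex_apply, submatrix_apply, Equiv.symm_apply_apply]
      rw [← σ.sum_comp, Fintype.sum_sum_type]
      rcases a with a | a
      · simp [u₀, Z0, Matrix.one_apply, Matrix.mul_apply, Matrix.single_apply, ite_and,
          Finset.sum_ite_eq, Finset.sum_ite_eq', mul_comm]
      · simp [u₀, Matrix.one_apply]
    obtain ⟨e, he⟩ := transvection_conj f₀ f u₀ u hf₀ hf hu₀ hu hfu₀ hfu
    set Q := LinearMap.toMatrix' e.toLinearMap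
    set Qi := LinearMap.toMatrix' e.symm.toLinearMap
    have hQ : M * Q = Q * M0 := by
      have h' : A * e.toLinearMap = e.toLinearMap * toLin' M0 := LinearMap.ext fun v => by
        rw [hAt, hM0t]; exact (he v).symm
      have h'' := congrArg LinearMap.toMatrix' h'
      rwa [LinearMap.toMatrix'_mul, LinearMap.toMatrix'_mul, hA, LinearMap.toMatrix'_toLin',
        LinearMap.toMatrix'_toLin'] at h''
    have hQQ : Q * Qi = 1 := by
      rw [← LinearMap.toMatrix'_mul, Module.End.mul_eq_comp, LinearEquiv.comp_coe,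
        LinearEquiv.symm_trans_self, LinearEquiv.refl_toLinearMap, LinearMap.toMatrix'_id]
    have := hM0.conj Q Qi hQQ (mul_eq_one_comm.1 hQQ)
    rwa [← hQ, Matrix.mul_assoc, hQQ, Matrix.mul_one] at this

end CfsgLib.KnownB.OreOmega
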