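import Cfsg.Agent.Lib.KnownB.Sourour.Factor

/-!
A factorisation `A = L * U` where the two factors carry different bottom polynomials.
-/

set_option autoImplicit false

namespace CfsgLib.KnownB.OreOmega

open Module Polynomial CfsgLib.KnownB.Sourour

variable {K V : Type*} [Field K] [AddCommGroup V] [Module K V]

/-- Both factors, each with a chain on `1` and a vector killed by its own polynomial. -/
structure Pairs (A : End K V) (m : ℕ) (p r : K[X]) where
  L : End K V
  U : End K V
  hmul : A = L * U
  hLq : ∀ v, aeval L p (((L - 1) ^ m : End K V) v) = 0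
  hUq : ∀ v, aeval U r (((U - 1) ^ m : End K V) v) = 0
  hLe : ∃ w, w ≠ 0 ∧ aeval L p w = 0
  hUe : ∃ w, w ≠ 0 ∧ aeval U r w = 0

/-- Factors whose chains are seen by `b` and `c`. -/
structure PairData (A : End K V) (m : ℕ) (p r : K[X]) (b : V) (c : Dual K V)
    extends Pairs A m p r where
  hb : aeval L p (((L - 1) ^ (m - 1) : End K V) b) ≠ 0
  hc : ∃ v, c (aeval U r (((U - 1) ^ (m - 1) : End K V) v)) ≠ 0

variable {A : End K V} {b : V} {c : Dual K V} {s : StepData A b c} {m : ℕ} {p r : K[X]}

/-- The lifted factors. -/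
noncomputable def Pairs.lift (F : Pairs s.next m p r) (hr : r.eval 1 ≠ 0) : Pairs A (m + 1) p r where
  L := s.lowerLift F.L
  U := s.upperLift F.U
  hmul := s.lift_mul _ _ F.hmul
  hLq v := by
    rw [s.lowerLift_pow, ← Submodule.coe_subtype, ← aeval_intertwine (LinearMap.ker s.φ).subtype
      F.L (s.lowerLift F.L) (s.lowerLift_coe F.L), F.hLq, map_zero]
  hUq v := by
    have hπ : projKer s.x s.φ s.hx (aeval (s.upperLift F.U) r
        (((s.upperLift F.U - 1) ^ m : End K V) v)) = 0 := by
      rw [aeval_intertwine _ _ F.U (s.upperLift_proj F.U),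
        pow_intertwine _ _ F.U (s.upperLift_proj F.U), F.hUq]
    rw [pow_succ', Module.End.mul_apply, aeval_commute, s.upperLift_sub_one, hπ, map_zero,
      zero_smul, map_zero, ZeroMemClass.coe_zero, add_zero]
  hLe := by
    obtain ⟨w, hw0, hw⟩ := F.hLe
    refine ⟨w, fun h => hw0 (Subtype.ext h), ?_⟩
    have := aeval_intertwine (LinearMap.ker s.φ).subtype F.L (s.lowerLift F.L)
      (s.lowerLift_coe F.L) p w
    rw [hw, map_zero] at this
    exact this.symm
  hUe := by
    obtain ⟨w, hw0, hw⟩ := F.hUe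
    set u := aeval (s.upperLift F.U) r (w : V) with hu
    have hπ : ∀ v : V, aeval F.U r (projKer s.x s.φ s.hx v) =
        projKer s.x s.φ s.hx (aeval (s.upperLift F.U) r v) := fun v =>
      (aeval_intertwine _ _ F.U (s.upperLift_proj F.U) r v).symm
    have hu0 : u = s.φ u • s.x := by
      have h := hπ (w : V)
      rw [projKer_coe, hw] at h
      have h' := congrArg Subtype.val h
      rw [← hu, ZeroMemClass.coe_zero, projKer_apply, eq_comm, sub_eq_zero] at h'
      exact h'
    refine ⟨(w : V) - (s.φ u / r.eval 1) • s.x, fun h => hw0 ?_, ?_⟩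
    · have := congrArg (projKer s.x s.φ s.hx) h
      simpa [projKer_coe, projKer_self] using this
    · rw [map_sub, map_smul, aeval_fixed _ _ (s.upperLift_x F.U), ← hu, smul_smul,
        div_mul_cancel₀ _ hr, ← hu0, sub_self]

/-- A step onto a chain. -/
noncomputable def PairData.lift (F : PairData s.next m p r s.col s.row) (hm : 1 ≤ m) (hr : r.eval 1 ≠ 0) :
    PairData A (m + 1) p r b c where
  toPairs := F.toPairs.lift hr
  hb := by
    have hmm : m + 1 - 1 = (m - 1) + 1 := by omega
    have h := F.hb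
    change aeval (s.lowerLift F.L) p
      (((s.lowerLift F.L - 1) ^ (m + 1 - 1) : End K V) b) ≠ 0
    rw [hmm, s.lowerLift_pow, ← Submodule.coe_subtype, ← aeval_intertwine
      (LinearMap.ker s.φ).subtype F.L (s.lowerLift F.L) (s.lowerLift_coe F.L), Submodule.coe_subtype,
      Ne, ZeroMemClass.coe_eq_zero, map_add, map_smul, map_add, map_smul, ← Module.End.mul_apply
      ((F.L - 1) ^ (m - 1)), ← pow_succ, Nat.sub_add_cancel hm, F.hLq, add_zero, smul_eq_zero]
    exact fun e => e.elim s.hb h
  hc := by
    obtain ⟨w, hw⟩ := F.hc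
    refine ⟨(w : V), ?_⟩
    change c (aeval (s.upperLift F.U) r
      (((s.upperLift F.U - 1) ^ (m + 1 - 1) : End K V) (w : V))) ≠ 0
    have hmm : m + 1 - 1 = (m - 1) + 1 := by omega
    rw [hmm, pow_succ', Module.End.mul_apply, aeval_commute, s.upperLift_sub_one,
      aeval_intertwine _ _ F.U (s.upperLift_proj F.U),
      pow_intertwine _ _ F.U (s.upperLift_proj F.U), projKer_coe]
    have h0 : (F.U - 1) (aeval F.U r (((F.U - 1) ^ (m - 1) : End K (LinearMap.ker s.φ)) w)) = 0 := by
      rw [← aeval_commute, ← Module.End.mul_apply (F.U - 1), ← pow_succ',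
        Nat.sub_add_cancel hm, F.hUq]
    rw [h0, ZeroMemClass.coe_zero, add_zero, map_smul, smul_eq_mul]
    exact mul_ne_zero hw s.hc

/-- A step starting a chain. -/
noncomputable def Pairs.liftStart (F : Pairs s.next 0 p r) (hp : p.eval 1 ≠ 0) (hr : r.eval 1 ≠ 0) :
    PairData A 1 p r b c where
  toPairs := F.lift hr
  hb := by
    change aeval (s.lowerLift F.L) p b ≠ 0
    intro h
    have hφ : ∀ v, s.φ (s.lowerLift F.L v) = (1 : End K K) (s.φ v) := fun v => by
      simp [StepData.lowerLift, s.hA, LinearMap.mem_ker.1 (F.L (projKer s.x s.φ s.hx v)).2]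
    have := aeval_intertwine s.φ (s.lowerLift F.L) (1 : End K K) hφ p b
    rw [h, map_zero, aeval_fixed (1 : End K K) p rfl, smul_eq_mul, eq_comm, mul_eq_zero] at this
    exact this.elim hp s.hb
  hc := ⟨s.x, by
    change c (aeval (s.upperLift F.U) r s.x) ≠ 0
    rw [aeval_fixed _ _ (s.upperLift_x F.U), map_smul, smul_eq_mul]
    exact mul_ne_zero hr s.hc⟩

/-- The monic quadratic of trace `t` and constant `d`. -/
noncomputable def qp (t d : K) : K[X] := X ^ 2 - C t * X + C d

/-- No roots. -/
def NoRoot (t d : K) : Prop := ∀ x : K, x * x - t * x + d ≠ 0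

theorem eval_qp (t d x : K) : (qp t d).eval x = x * x - t * x + d := by
  simp [qp, pow_two]

theorem aeval_qp (T : End K V) (t d : K) (v : V) :
    aeval T (qp t d) v = T (T v) - t • T v + d • v := by
  simp [qp, pow_two, Algebra.algebraMap_eq_smul_one]

end CfsgLib.KnownB.OreOmega
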