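import Cfsg.Agent.Lib.KnownB.Thompson.OddCell

/-!
The big cell of the odd-dimensional orthogonal group over any field of odd order.
-/

set_option autoImplicit false
set_option linter.unusedSectionVars false

namespace CfsgLib.KnownB.OreOmega

open Matrix QuadraticMap CfsgLib.Geometry CfsgLib.Thompson CfsgLib.KnownB.Sourour

variable {F : Type*} [Field F] [Fintype F] {m : ℕ}

theorem good_two (h2 : (2 : F) ≠ 0) : GoodForm (qO m F) := by
  have h : (oddMat m F + (oddMat m F)ᵀ).det ≠ 0 := by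
    rw [det_odd_gram]; exact mul_ne_zero h2 (pow_ne_zero _ (neg_ne_zero.2 one_ne_zero))
  exact ⟨nondegenerate_matQuad h, reflGroup_eq_orth_of_two_ne (nondegenerate_matQuad h) h2⟩

variable (hF : GoodForm (qO m F))

include hF in
theorem invt_lev_sl (hm : 3 ≤ m) {M : GL (Fin m) F} (hM : M.1.det = 1) :
    hF.invt (levJ m F M) = 1 := by
  obtain ⟨a, b, e⟩ := commutator_all (F := F) (by omega : 2 ≤ m) (fun h => by omega)
    (⟨M.1, hM⟩ : Matrix.SpecialLinearGroup (Fin m) F)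
  have e' : M = Matrix.SpecialLinearGroup.toGL a * Matrix.SpecialLinearGroup.toGL b *
      (Matrix.SpecialLinearGroup.toGL a)⁻¹ * (Matrix.SpecialLinearGroup.toGL b)⁻¹ := by
    rw [← map_inv, ← map_inv, ← map_mul, ← map_mul, ← map_mul, ← e]
    exact Units.ext rfl
  rw [e']
  simp only [map_mul (levJ m F), map_inv (levJ m F)]
  exact hF.invt_commutator _ _

include hF in
theorem invt_lev (hm : 3 ≤ m) (M : GL (Fin m) F) {d : F} (hd : d ≠ 0) (e : M.1.det = d) :
    hF.invt (levJ m F M) = (sqMk hd, 1) := by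
  set j : Fin m := ⟨0, by omega⟩
  have hdet : (diagonal (Function.update (1 : Fin m → F) j d)).det = d := by
    rw [det_diagonal, Finset.prod_update_of_mem (Finset.mem_univ _)]; simp
  set D := Matrix.GeneralLinearGroup.mkOfDetNeZero _ (hdet.trans_ne hd) with hDdef
  have hD : D.1 = diagonal (Function.update (1 : Fin m → F) j d) := rfl
  have h1 : (M * D⁻¹).1.det = 1 := by
    have h2 : (M * D⁻¹).1.det * D.1.det = M.1.det := by
      rw [← det_mul, ← Units.val_mul, inv_mul_cancel_right]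
    rw [hD, hdet, e] at h2
    exact mul_right_cancel₀ hd (h2.trans (one_mul d).symm)
  rw [← inv_mul_cancel_right M D, map_mul, map_mul, invt_lev_sl hF hm h1, one_mul,
    invt_diagJ hF j hd hD]

include hF in
theorem invt_lev_square (hm : 3 ≤ m) (M : GL (Fin m) F) (h : IsSquare M.1.det) :
    hF.invt (levJ m F M) = 1 := by
  rw [invt_lev hF hm M ((Matrix.isUnit_iff_isUnit_det _).1 M.isUnit).ne_zero rfl,
    (sqMk_eq_one_iff _).2 h]
  rfl

variable (hm : 3 ≤ m) (h2 : (2 : F) ≠ 0)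

include hm h2 in
/-- an element with invertible corner lies in the cell -/
theorem cell_of_corner (h : OO m F) (M : GL (Fin m) F) (hh : hF.invt h = 1) (hM : M.1 = cornA h.1) :
    IsSquare M.1.det ∧ ∃ (r : Fin m → F) (T : Matrix (Fin m) (Fin m) F) (r' : Fin m → F)
      (X : Matrix (Fin m) (Fin m) F), IsA false (T + vecMulVec r r) ∧
      IsA false (X + vecMulVec r' r') ∧ h.1 = loU r T * levI F m M * upU r' X := by
  obtain ⟨r, T, r', X, hT, hX, ζ, hζ, e⟩ := lduI hF h.2 hM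
  have hh' : hF.invt (⟨h.1, h.2⟩ : OO m F) = 1 := hh
  rw [e, map_mul, map_mul, map_mul, invt_upU hF h2 hX, invt_loU hF h2 hT, one_mul, mul_one,
    invt_lev hF hm M ((Matrix.isUnit_iff_isUnit_det _).1 M.isUnit).ne_zero rfl] at hh'
  rcases hζ with rfl | ⟨c, hc⟩
  · rw [map_one, mul_one] at hh'
    refine ⟨(sqMk_eq_one_iff _).1 (congrArg Prod.fst hh'), r, T, r', X, hT, hX, ?_⟩
    exact (congrArg Subtype.val e).trans (by
      show loU r T * levI F m M * 1 * upU r' X = _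
      rw [mul_one])
  · exfalso
    rw [hc, Prod.mk_mul_mk, one_mul] at hh'
    exact (by decide : (Multiplicative.ofAdd (1 : ZMod 2)) ≠ 1) (congrArg Prod.snd hh')

include hm h2 in
/-- the big cell with a good corner -/
theorem exists_cell {g : OO m F} (hg : hF.invt g = 1) (hg1 : g.1.1 ≠ 1) (hg2 : g.1.1 ≠ -1) :
    ∃ (x : OO m F) (r : Fin m → F) (T : Matrix (Fin m) (Fin m) F) (r' : Fin m → F)
      (X : Matrix (Fin m) (Fin m) F) (M : GL (Fin m) F),
      IsA false (T + vecMulVec r r) ∧ IsA false (X + vecMulVec r' r') ∧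
      M.1.det = 1 ∧ (¬ ∃ l : F, M.1 = l • 1) ∧
      x.1 * g.1 * x.1⁻¹ = loU r T * levI F m M * upU r' X := by
  obtain ⟨y, hy, hyC⟩ := exists_cornC g.2 hg1 hg2
  set g₁ : OO m F := ⟨y, hy⟩ * g * (⟨y, hy⟩)⁻¹ with hg₁
  have hg₁i : hF.invt g₁ = 1 := (hF.invt_conj _ _).trans hg
  obtain ⟨r₀, hr₀⟩ : ∃ r₀ : Fin m → F, ∀ x, rowE g₁.1 ⬝ᵥ x + r₀ ⬝ᵥ (cornC g₁.1 *ᵥ x) = 0 := by
    let φ : (Fin m → F) →ₗ[F] F :=
      { toFun := fun x => rowE g₁.1 ⬝ᵥ x
        map_add' := fun _ _ => dotProduct_add _ _ _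
        map_smul' := fun _ _ => dotProduct_smul _ _ _ }
    have hφ : φ ∈ LinearMap.range (Matrix.toLin' (cornC g₁.1)).dualMap := by
      rw [LinearMap.range_dualMap_eq_dualAnnihilator_ker, Submodule.mem_dualAnnihilator]
      intro x hx
      exact rowE_zero_of_ker g₁.2 hx
    obtain ⟨ψ, hψ⟩ := hφ
    refine ⟨fun i => -ψ (Pi.single i 1), fun x => ?_⟩
    have h : ψ (cornC g₁.1 *ᵥ x) = rowE g₁.1 ⬝ᵥ x := LinearMap.congr_fun hψ x
    rw [← h]
    conv_lhs => arg 1; rw [← Finset.univ_sum_single (cornC g₁.1 *ᵥ x), map_sum]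
    rw [dotProduct, ← Finset.sum_add_distrib]
    refine Finset.sum_eq_zero fun i _ => ?_
    rw [show (Pi.single i ((cornC g₁.1 *ᵥ x) i) : Fin m → F) =
      (cornC g₁.1 *ᵥ x) i • Pi.single i 1 by simp [← Pi.single_smul], map_smul, smul_eq_mul]
    ring
  have hU₀ : IsA false (-vecMulVec r₀ r₀ + vecMulVec r₀ r₀) := by
    rw [neg_add_cancel]; exact isA_zero
  set U₀ : OO m F := ⟨upU r₀ (-vecMulVec r₀ r₀), upU_mem hU₀⟩
  set g₂ : OO m F := U₀ * g₁ * U₀⁻¹ with hg₂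
  have hg₂i : hF.invt g₂ = 1 := (hF.invt_conj _ _).trans hg₁i
  set A := cornA g₂.1
  set C := cornC g₂.1
  have h0 : rowE g₂.1 = 0 ∧ C = cornC g₁.1 := by
    have hx := fun x => v3_inj.1 ((mulVec_x g₂.1 x).symm.trans (conj_up_x (g := g₁.1) r₀ _ x))
    refine ⟨funext fun j => ?_, Matrix.ext_iff_mulVec.2 fun x => (hx x).2.2⟩
    have := (hx (Pi.single j 1)).1
    rw [hr₀] at this
    simpa using this
  have hC : C ≠ 0 := by rw [h0.2]; exact hyC
  have hAC : IsA false (Aᵀ * C) := by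
    have hq' : ∀ x, x ⬝ᵥ ((Aᵀ * C) *ᵥ x) = 0 := fun x => by
      have := quad_x g₂.2 x
      rw [h0.1, zero_dotProduct, mul_zero, zero_add] at this
      rw [← dot_mm]; exact this
    obtain ⟨d, t⟩ := alt_of_quad hq'
    exact ⟨t, fun _ => d⟩
  have hinj : ∀ v, A *ᵥ v = 0 → C *ᵥ v = 0 → v = 0 := fun v hA hC => by
    have h : g₂.1.1 *ᵥ v3 0 v 0 = g₂.1.1 *ᵥ v3 0 0 0 := by
      rw [mulVec_x, mulVec_x, h0.1, hA, hC]; simp
    exact (v3_inj.1 (mulVec_inj g₂.1 h)).2.1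
  have hconj : ∀ (w : Fin m → F) (S : Matrix (Fin m) (Fin m) F) (hS : IsA false (S + vecMulVec w w)),
      cornA (upU w S * g₂.1 * (upU w S)⁻¹) = A + S * C := by
    intro w S hS
    refine Matrix.ext_iff_mulVec.2 fun x => ?_
    have := v3_inj.1 ((mulVec_x _ x).symm.trans (conj_up_x (g := g₂.1) w S x))
    rw [this.2.1, h0.1, zero_dotProduct, mul_zero, zero_smul, sub_zero, add_mulVec, mulVec_mulVec]
  rcases exists_nice (sp := false) (o := true) A C hC hAC hinj (by omega) (fun _ => hm)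
    (fun h => absurd h (by simp))
    (fun _ S hS hne => by
      obtain ⟨w, -, hw⟩ := hS
      let W : OO m F := ⟨upU w S, upU_mem hw⟩
      exact (cell_of_corner hF hm h2 (W * g₂ * W⁻¹) (Matrix.GeneralLinearGroup.mkOfDetNeZero (A + S * C) hne)
        ((hF.invt_conj W g₂).trans hg₂i) (hconj w S hw).symm).1) with
    ⟨S, ⟨w, -, hw⟩, hdet, hns⟩ | ⟨-, ho, -⟩
  swap
  · exact absurd ho (by simp)
  set U : OO m F := ⟨upU w S, upU_mem hw⟩
  set M := Matrix.GeneralLinearGroup.mkOfDetNeZero (A + S * C) (by rw [hdet]; exact one_ne_zero)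
  obtain ⟨-, r, T, r', X, hT, hX, e⟩ :=
    cell_of_corner hF hm h2 (U * g₂ * U⁻¹) M ((hF.invt_conj _ _).trans hg₂i) (hconj w S hw).symm
  refine ⟨U * U₀ * ⟨y, hy⟩, r, T, r', X, M, hT, hX, hdet, hns, ?_⟩
  rw [← e]
  have : U * g₂ * U⁻¹ = (U * U₀ * ⟨y, hy⟩) * g * (U * U₀ * ⟨y, hy⟩)⁻¹ := by
    rw [hg₂, hg₁]; group
  rw [this]
  simp only [Subgroup.coe_mul, Subgroup.coe_inv]

end CfsgLib.KnownB.OreOmega
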