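import Cfsg.Agent.Lib.KnownB.OreSp.Poly

/-!
The corner property used for commutators in the odd-dimensional orthogonal groups.
-/

set_option autoImplicit false

namespace CfsgLib.KnownB.OreOmega

open Matrix Polynomial CfsgLib.KnownB.OreSp

variable {F : Type*} [Field F] {ι : Type*} [Fintype ι] [DecidableEq ι]

/-- `M = X * P * X⁻¹ * P⁻¹` with square determinants and `X` killed by a polynomial coprime to its
reversal. -/
def Corner (M : Matrix ι ι F) : Prop :=
  ∃ (Φ : F[X]) (X P : Matrix ι ι F), Apart Φ ∧ IsSquare X.det ∧ X.det ≠ 0 ∧ IsSquare P.det ∧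
    P.det ≠ 0 ∧ aeval X Φ = 0 ∧ M * (P * X) = X * P

end CfsgLib.KnownB.OreOmega
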