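import Cfsg.Agent.Lib.KnownB.OreOmega.Defs

/-!
The corner property used for commutators in the even-dimensional split orthogonal groups: only
alternating forms have to be moved by the first factor.
-/

set_option autoImplicit false

namespace CfsgLib.KnownB.OreOmega

open Matrix Polynomial CfsgLib.KnownB.OreSp

variable {F : Type*} [Field F] {ι : Type*} [Fintype ι] [DecidableEq ι]

/-- alternating: antisymmetric with zero diagonal -/
def Alt (T : Matrix ι ι F) : Prop := Tᵀ = -T ∧ ∀ i, T i i = 0

/-- `X` fixes no non-zero alternating form, neither as a substitution nor as a transposed one. -/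
def MovesAlt (X : Matrix ι ι F) : Prop :=
  (∀ T, Alt T → Xᵀ * T * X = T → T = 0) ∧ ∀ T, Alt T → X * T * Xᵀ = T → T = 0

/-- `M = X * P * X⁻¹ * P⁻¹` with square determinants and `X` moving all alternating forms. -/
def CornerPlus (M : Matrix ι ι F) : Prop :=
  ∃ X P : Matrix ι ι F, MovesAlt X ∧ IsSquare X.det ∧ X.det ≠ 0 ∧ IsSquare P.det ∧ P.det ≠ 0 ∧
    M * (P * X) = X * P

theorem Corner.plus {M : Matrix ι ι F} (h : Corner M) : CornerPlus M := by
  obtain ⟨Φ, X, P, hΦ, hXs, hX0, hPs, hP0, hz, e⟩ := h
  have hu : IsUnit X.det := isUnit_iff_ne_zero.2 hX0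
  refine ⟨X, P, ⟨fun T _ hT => eq_zero_of_form hΦ hu hz hT, fun T _ hT => ?_⟩, hXs, hX0, hPs, hP0, e⟩
  exact eq_zero_of_form hΦ (isUnit_det_transpose _ hu) (by rw [aeval_transpose, hz, transpose_zero])
    (by rw [transpose_transpose]; exact hT)

end CfsgLib.KnownB.OreOmega
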