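import Mathlib

/-!
A finite check in dimension three over the field with three elements: every non-trivial lower part
moves a transvection corner to one of rank at least two.
-/

set_option autoImplicit false

namespace CfsgLib.KnownB.OreOmega

open Matrix

variable {R : Type*} [CommRing R]

variable (R) in
/-- the standard transvection -/
def tt : Matrix (Fin 3) (Fin 3) R := !![1, 1, 0; 0, 1, 0; 0, 0, 1]

/-- the alternating matrix of a vector -/
def altM (a : Fin 3 → R) : Matrix (Fin 3) (Fin 3) R := !![0, a 2, -a 1; -a 2, 0, a 0; a 1, -a 0, 0]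

/-- the moved corner -/
def mov (r a w b : Fin 3 → R) : Matrix (Fin 3) (Fin 3) R :=
  (1 - (2 : R) • vecMulVec w r + (altM b - vecMulVec w w) * (altM a - vecMulVec r r)) * tt R

/-- determinant one and either the identity or some non-vanishing minor of `M - 1` -/
def Fine (M : Matrix (Fin 3) (Fin 3) R) : Prop :=
  M.det = 1 ∧ (M = 1 ∨
    ∃ i j k l : Fin 3, (M - 1) i k * (M - 1) j l ≠ (M - 1) i l * (M - 1) j k)

/-- the search, as a computation -/
def good (r a w b : Fin 3 → ZMod 3) : Bool :=
  let N := mov r a w b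
  let e := fun i j => N i j - if i = j then 1 else 0
  decide (N 0 0 * (N 1 1 * N 2 2 - N 1 2 * N 2 1) - N 0 1 * (N 1 0 * N 2 2 - N 1 2 * N 2 0) +
    N 0 2 * (N 1 0 * N 2 1 - N 1 1 * N 2 0) = 1) &&
  ((([0, 1, 2] : List (Fin 3)).all fun i => ([0, 1, 2] : List (Fin 3)).all fun j => decide (e i j = 0)) ||
    [(0, 1), (0, 2), (1, 2)].any fun p : Fin 3 × Fin 3 =>
    [(0, 1), (0, 2), (1, 2)].any fun s : Fin 3 × Fin 3 =>
      decide (e p.1 s.1 * e p.2 s.2 ≠ e p.1 s.2 * e p.2 s.1))

/-- all vectors -/
def vecs : List (Fin 3 → ZMod 3) :=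
  [0, 1, 2].flatMap fun x => [0, 1, 2].flatMap fun y => [0, 1, 2].map fun z => ![x, y, z]

/-- every non-zero datum has a witness -/
def checkAll : Bool :=
  vecs.all fun r => vecs.all fun a =>
    decide (r = 0 ∧ a = 0) || vecs.any fun w => vecs.any fun b => good r a w b

theorem checkAll_eq : checkAll = true := by decide +kernel

theorem mem_vecs (v : Fin 3 → ZMod 3) : v ∈ vecs := by
  have h : ∀ x : ZMod 3, x ∈ ([0, 1, 2] : List (ZMod 3)) := by decide
  simp only [vecs, List.mem_flatMap, List.mem_map]
  exact ⟨v 0, h _, v 1, h _, v 2, h _, by funext i; fin_cases i <;> rfl⟩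

theorem exists_fine (r a : Fin 3 → ZMod 3) (h : ¬(r = 0 ∧ a = 0)) :
    ∃ w b, Fine (mov r a w b) := by
  have hc := checkAll_eq
  simp only [checkAll, List.all_eq_true, Bool.or_eq_true, decide_eq_true_eq, List.any_eq_true] at hc
  rcases hc r (mem_vecs r) a (mem_vecs a) with hc | ⟨w, -, b, -, hg⟩
  · exact absurd hc h
  · refine ⟨w, b, ?_⟩
    simp only [good, Bool.and_eq_true, decide_eq_true_eq] at hg
    obtain ⟨hd, hm⟩ := hg
    refine ⟨by rw [det_fin_three]; linear_combination hd, ?_⟩
    simp only [Bool.or_eq_true, List.all_eq_true, List.any_eq_true, decide_eq_true_eq] at hm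
    rcases hm with hz | ⟨p, -, s, -, hm⟩
    · left
      ext i j
      have := hz i (by fin_cases i <;> simp) j (by fin_cases j <;> simp)
      rw [Matrix.one_apply]
      linear_combination this
    · right
      refine ⟨p.1, p.2, s.1, s.2, ?_⟩
      simpa [Matrix.sub_apply, Matrix.one_apply] using hm

end CfsgLib.KnownB.OreOmega
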