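import Cfsg.Agent.Lib.KnownB.OreOmega.Defs
import Cfsg.Agent.Lib.KnownB.OreOmega.Cell
import Cfsg.Agent.Lib.KnownB.Thompson.Odd

/-!
Commutators from a good corner in the big cell.
-/

set_option autoImplicit false
set_option linter.unusedSectionVars false

namespace CfsgLib.KnownB.OreOmega

open Matrix Polynomial QuadraticMap CfsgLib.Geometry CfsgLib.Thompson CfsgLib.KnownB.OreSp

variable {F : Type*} [Field F] [Fintype F] {m : ℕ}

theorem eq_zero_of_vecMulVec {r : Fin m → F} (h : vecMulVec r r = 0) : r = 0 := by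
  funext i
  exact mul_self_eq_zero.1 (by simpa [vecMulVec_apply] using congrFun (congrFun h i) i)

/-- Levi elements apart from their reversal act fixed-point-freely on the upper part. -/
theorem fpf_upA {A : GL (Fin m) F} {Φ : F[X]} (hΦ : Apart Φ) (hz : aeval A.1 Φ = 0) :
    Fpf (OO m F ⊓ UpperI F m) (levI F m A) := by
  refine ⟨fun r hr => (norm_upper A r).2 hr, fun g hg e => ?_⟩
  obtain ⟨-, r, X, rfl⟩ := hg
  have h3 : levI F m A * upU r X * (levI F m A)⁻¹ = upU r X := mul_inv_eq_iff_eq_mul.2 e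
  rw [levI_conj_upU] at h3
  have hu : IsUnit (A.1ᵀ).det := isUnit_det_transpose _ ((Matrix.isUnit_iff_isUnit_det _).1 A.isUnit)
  have hzT : aeval A.1ᵀ Φ = 0 := by rw [aeval_transpose, hz, transpose_zero]
  have key : ∀ T : Matrix (Fin m) (Fin m) F, A.1 * T * A.1ᵀ = T → T = 0 := fun T hT =>
    eq_zero_of_form hΦ hu hzT (by rw [transpose_transpose]; exact hT)
  have h4 : ∀ z x y, upMat (A.1 *ᵥ r) (A.1 * X * A.1ᵀ) *ᵥ v3 z x y = upMat r X *ᵥ v3 z x y :=
    fun z x y => by rw [← upU_val, h3, upU_val]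
  have hr : A.1 *ᵥ r = r := funext fun i => by
    have := (v3_inj.1 ((upMat_mulVec _ _ _ _ _).symm.trans
      ((h4 0 0 (Pi.single i 1)).trans (upMat_mulVec _ _ _ _ _)))).1
    simpa using this
  have hX : A.1 * X * A.1ᵀ = X := Matrix.ext fun i j => by
    have := congrFun ((v3_inj.1 ((upMat_mulVec _ _ _ _ _).symm.trans
      ((h4 0 0 (Pi.single j 1)).trans (upMat_mulVec _ _ _ _ _)))).2.1) i
    simpa using this
  have hr0 : r = 0 := eq_zero_of_vecMulVec (key _ (by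
    rw [Matrix.mul_vecMulVec, Matrix.vecMulVec_mul, vecMul_transpose, hr]))
  rw [hr0, key X hX, upU_zero]

theorem fpf_loA {A : GL (Fin m) F} {Φ : F[X]} (hΦ : Apart Φ) (hz : aeval A.1 Φ = 0) :
    Fpf (OO m F ⊓ LowerI F m) (levI F m A) := by
  refine ⟨fun r hr => (norm_lower A r).2 hr, fun g hg e => ?_⟩
  have e' : flipI F m * g * (flipI F m)⁻¹ * levI F m (ti A) =
      levI F m (ti A) * (flipI F m * g * (flipI F m)⁻¹) := by
    rw [← flip_conj_levI]
    calc flipI F m * g * (flipI F m)⁻¹ * (flipI F m * levI F m A * (flipI F m)⁻¹) =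
          flipI F m * (g * levI F m A) * (flipI F m)⁻¹ := by group
      _ = flipI F m * (levI F m A * g) * (flipI F m)⁻¹ := by rw [e]
      _ = _ := by group
  obtain ⟨-, r, X, hg'⟩ := flip_conj_mem.1 hg
  rw [hg'] at e'
  have h3 : levI F m (ti A) * upU r X * (levI F m (ti A))⁻¹ = upU r X :=
    mul_inv_eq_iff_eq_mul.2 e'.symm
  rw [levI_conj_upU] at h3
  have hu : IsUnit (A.1).det := (Matrix.isUnit_iff_isUnit_det _).1 A.isUnit
  have key : ∀ T : Matrix (Fin m) (Fin m) F, (ti A).1 * T * (ti A).1ᵀ = T → T = 0 := fun T hT =>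
    eq_zero_of_form hΦ hu hz (by
      rw [ti_val, transpose_transpose] at hT
      calc A.1ᵀ * T * A.1 = A.1ᵀ * ((A⁻¹).1ᵀ * T * (A⁻¹).1) * A.1 := by rw [hT]
        _ = (A⁻¹.1 * A.1)ᵀ * T * ((A⁻¹).1 * A.1) := by
            rw [transpose_mul]; simp only [Matrix.mul_assoc]
        _ = T := by rw [Units.inv_mul, transpose_one, Matrix.one_mul, Matrix.mul_one])
  have h4 : ∀ z x y, upMat ((ti A).1 *ᵥ r) ((ti A).1 * X * (ti A).1ᵀ) *ᵥ v3 z x y =
      upMat r X *ᵥ v3 z x y :=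
    fun z x y => by rw [← upU_val, h3, upU_val]
  have hr : (ti A).1 *ᵥ r = r := funext fun i => by
    have := (v3_inj.1 ((upMat_mulVec _ _ _ _ _).symm.trans
      ((h4 0 0 (Pi.single i 1)).trans (upMat_mulVec _ _ _ _ _)))).1
    simpa using this
  have hX : (ti A).1 * X * (ti A).1ᵀ = X := Matrix.ext fun i j => by
    have := congrFun ((v3_inj.1 ((upMat_mulVec _ _ _ _ _).symm.trans
      ((h4 0 0 (Pi.single j 1)).trans (upMat_mulVec _ _ _ _ _)))).2.1) i
    simpa using this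
  have hr0 : r = 0 := eq_zero_of_vecMulVec (key _ (by
    rw [Matrix.mul_vecMulVec, Matrix.vecMulVec_mul, vecMul_transpose, hr]))
  rw [hr0, key X hX, upU_zero] at hg'
  calc g = (flipI F m)⁻¹ * (flipI F m * g * (flipI F m)⁻¹) * flipI F m := by group
    _ = 1 := by rw [hg']; group

theorem isA_of_upU_mem {s : Fin m → F} {Y : Matrix (Fin m) (Fin m) F} (h : upU s Y ∈ OO m F) :
    IsA false (Y + vecMulVec s s) := by
  obtain ⟨hd, ht⟩ := alt_of_quad (X := Y + vecMulVec s s) fun y => by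
    have e := mem_OO.1 h 0 0 y
    rw [upU_val, upMat_mulVec, qO_v3] at e
    simp only [mul_zero, zero_smul, sub_zero, zero_add, zero_dotProduct] at e
    rw [add_mulVec, dotProduct_add, vecMulVec_mulVec, op_smul_eq_smul, dotProduct_smul,
      smul_eq_mul, dotProduct_comm (Y *ᵥ y) y] at *
    rw [dotProduct_comm y s]
    linear_combination e
  exact ⟨ht, fun _ => hd⟩

variable (hF : GoodForm (qO m F)) (h2 : (2 : F) ≠ 0) (hm : 3 ≤ m)

include h2 in
theorem invt_of_upper {u : OO m F} (hu : u.1 ∈ OO m F ⊓ UpperI F m) : hF.invt u = 1 := by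
  obtain ⟨-, s, Y, e⟩ := hu
  have hmem : upU s Y ∈ OO m F := e ▸ u.2
  rw [show u = ⟨upU s Y, upU_mem (isA_of_upU_mem hmem)⟩ from Subtype.ext e]
  exact invt_upU hF h2 (isA_of_upU_mem hmem)

include h2 in
theorem invt_of_lower {u : OO m F} (hu : u.1 ∈ OO m F ⊓ LowerI F m) : hF.invt u = 1 := by
  rw [← hF.invt_conj ⟨flipI F m, flipI_mem⟩ u]
  exact invt_of_upper hF h2 (flip_conj_mem.1 hu)

/-- Being a commutator of two elements with trivial invariant. -/
def IsCommI (g : OO m F) : Prop :=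
  ∃ a b : OO m F, hF.invt a = 1 ∧ hF.invt b = 1 ∧ g = a * b * a⁻¹ * b⁻¹

theorem IsCommI.of_conj {g x : OO m F} (h : IsCommI hF (x * g * x⁻¹)) : IsCommI hF g := by
  obtain ⟨a, b, ha, hb, e⟩ := h
  refine ⟨x⁻¹ * a * x, x⁻¹ * b * x, ?_, ?_, ?_⟩
  · simpa using (hF.invt_conj x⁻¹ a).trans ha
  · simpa using (hF.invt_conj x⁻¹ b).trans hb
  · calc g = x⁻¹ * (x * g * x⁻¹) * x := by group
      _ = _ := by rw [e]; group

include h2 hm in
/-- The covering argument. -/
theorem comm_of_corner {g : OO m F} {r : Fin m → F} {T : Matrix (Fin m) (Fin m) F} {r' : Fin m → F}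
    {X : Matrix (Fin m) (Fin m) F} {M : GL (Fin m) F} (hT : IsA false (T + vecMulVec r r))
    (hX : IsA false (X + vecMulVec r' r')) (hM : Corner M.1)
    (e : g.1 = loU r T * levI F m M * upU r' X) : IsCommI hF g := by
  obtain ⟨Φ, Y, P, hΦ, hYs, hY0, hPs, hP0, hz, hMP⟩ := hM
  set Yg := Matrix.GeneralLinearGroup.mkOfDetNeZero Y hY0 with hYg
  set Pg := Matrix.GeneralLinearGroup.mkOfDetNeZero P hP0 with hPg
  have hMg : M = Yg * Pg * Yg⁻¹ * Pg⁻¹ := by
    have h : M * (Pg * Yg) = Yg * Pg := Units.ext hMP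
    rw [show Yg * Pg * Yg⁻¹ * Pg⁻¹ = (Yg * Pg) * (Pg * Yg)⁻¹ by group, ← h]
    group
  have fl := fpf_loA (A := Yg) hΦ hz
  have fu := ((fpf_upA (A := Yg) hΦ hz).inv).conj (k := levI F m Pg) (norm_upper Pg)
  obtain ⟨u, hu, eu⟩ := fl.exists_left
    (show loU r T ∈ OO m F ⊓ LowerI F m from
      ⟨loU_mem hT, Subgroup.mem_map_of_mem _ (⟨r, T, rfl⟩ : upU r T ∈ UpperI F m)⟩)
  obtain ⟨w, hw, ew⟩ := fu.exists_right
    (show upU r' X ∈ OO m F ⊓ UpperI F m from ⟨upU_mem hX, r', X, rfl⟩)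
  let U : OO m F := ⟨u, hu.1⟩
  let W : OO m F := ⟨w, hw.1⟩
  have hY : hF.invt (levJ m F Yg) = 1 := invt_lev_square hF hm Yg hYs
  have hP : hF.invt (levJ m F Pg) = 1 := invt_lev_square hF hm Pg hPs
  have hU : hF.invt U = 1 := invt_of_lower hF h2 hu
  have hW : hF.invt W = 1 := invt_of_upper hF h2 hw
  refine ⟨U * levJ m F Yg * U⁻¹, W * levJ m F Pg * U⁻¹, ?_, ?_, ?_⟩
  · rw [hF.invt_conj]; exact hY
  · rw [map_mul, map_mul, map_inv, hW, hP, hU]; simp
  · refine Subtype.ext ?_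
    change g.1 = (u * levI F m Yg * u⁻¹) * (w * levI F m Pg * u⁻¹) * (u * levI F m Yg * u⁻¹)⁻¹ *
      (w * levI F m Pg * u⁻¹)⁻¹
    rw [show (u * levI F m Yg * u⁻¹) * (w * levI F m Pg * u⁻¹) * (u * levI F m Yg * u⁻¹)⁻¹ *
      (w * levI F m Pg * u⁻¹)⁻¹ = (u * levI F m Yg * u⁻¹) *
        (w * (levI F m Pg * (levI F m Yg)⁻¹ * (levI F m Pg)⁻¹) * w⁻¹) by group, eu, ew, e, hMg,
      map_mul, map_mul, map_mul, map_inv, map_inv]
    group

include h2 hm in
/-- All elements, given corners for all non-scalar matrices of determinant one. -/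
theorem comm_all (hall : ∀ M : Matrix (Fin m) (Fin m) F, M.det = 1 →
    (¬ ∃ l : F, M = l • 1) → Corner M) {g : OO m F} (hg : hF.invt g = 1) (hg1 : g.1.1 ≠ 1)
    (hg2 : g.1.1 ≠ -1) : IsCommI hF g := by
  obtain ⟨x, r, T, r', X, M, hT, hX, hM, hM', e⟩ := exists_cell hF hm h2 hg hg1 hg2
  refine IsCommI.of_conj hF (x := x) (comm_of_corner hF h2 hm hT hX (hall _ hM hM') ?_)
  rw [Subgroup.coe_mul, Subgroup.coe_mul, Subgroup.coe_inv, e]

end CfsgLib.KnownB.OreOmega
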