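import Cfsg.Agent.Lib.KnownB.OreOmega.ThreeMain

/-!
Corners over the field with three elements.
-/

set_option autoImplicit false

namespace CfsgLib.KnownB.OreOmega

open Module Polynomial CfsgLib.KnownB.Sourour CfsgLib.KnownB.OreSp

theorem apart_map {K F : Type*} [Field K] [Field F] (f : K →+* F) {P : K[X]} (h : Apart P) :
    Apart (P.map f) := by
  obtain ⟨Q, ⟨N, hN, rfl⟩, hco⟩ := h
  exact ⟨(P.reflect N).map f, ⟨N, natDegree_map_le.trans hN, reflect_map f P N⟩,
    hco.map (mapRingHom f)⟩

theorem corner_map {K F : Type*} [Field K] [Field F] (f : K →+* F) {ι : Type*} [Fintype ι]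
    [DecidableEq ι] {M : Matrix ι ι K} (h : Corner M) : Corner (M.map f) := by
  obtain ⟨Φ, X, P, hΦ, hX, hX0, hP, hP0, haev, hcomm⟩ := h
  have hdet : ∀ N : Matrix ι ι K, (N.map f).det = f N.det := fun N => (f.map_det N).symm
  refine ⟨Φ.map f, X.map f, P.map f, apart_map f hΦ, ?_, ?_, ?_, ?_, ?_, ?_⟩
  · rw [hdet]; exact hX.map f
  · rw [hdet]; exact (map_ne_zero f).2 hX0
  · rw [hdet]; exact hP.map f
  · rw [hdet]; exact (map_ne_zero f).2 hP0
  · have key : aeval (X.map f) (Φ.map f) = (aeval X Φ).map f := by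
      rw [aeval_def, eval₂_map, aeval_def, ← RingHom.mapMatrix_apply, ← RingHom.mapMatrix_apply,
        hom_eval₂]
      congr 1
      ext r i j
      by_cases hij : i = j
      · simp [hij, Matrix.algebraMap_matrix_apply]
      · simp [hij, Matrix.algebraMap_matrix_apply]
    rw [key, haev, Matrix.map_zero _ (map_zero f)]
  · simp only [← Matrix.map_mul, hcomm]

theorem corner_of_good {n : ℕ} {M : Matrix (Fin n) (Fin n) (ZMod 3)} {P : (ZMod 3)[X]}
    (hs : Sep P) (h : GoodAt P (Matrix.toLin' M) 1) : Corner M := by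
  obtain ⟨T, hP, hd, he⟩ := h
  have haev : ∀ q : (ZMod 3)[X], aeval T.L q =
      Matrix.toLin' (aeval (LinearMap.toMatrix' T.L) q) := fun q => by
    have h := Polynomial.aeval_algHom_apply (Matrix.toLinAlgEquiv'.toAlgHom)
      (LinearMap.toMatrix' T.L) q
    change aeval (Matrix.toLin' (LinearMap.toMatrix' T.L)) q = _ at h
    rw [Matrix.toLin'_toMatrix'] at h
    exact h
  refine ⟨P, LinearMap.toMatrix' T.L, LinearMap.toMatrix' T.e.toLinearMap, hs.apart, ?_, ?_, ?_,
    ?_, ?_, ?_⟩
  · rw [LinearMap.det_toMatrix', hd]; exact IsSquare.one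
  · rw [LinearMap.det_toMatrix', hd]; exact one_ne_zero
  · rw [LinearMap.det_toMatrix', he]; exact IsSquare.one
  · rw [LinearMap.det_toMatrix', he]; exact one_ne_zero
  · apply Matrix.toLin'.injective
    rw [← haev, hP, map_zero]
  · apply Matrix.toLin'.injective
    simp only [Matrix.toLin'_mul, Matrix.toLin'_toMatrix']
    refine LinearMap.ext fun v => ?_
    simp only [LinearMap.comp_apply, LinearEquiv.coe_coe]
    rw [LinearMap.congr_fun T.hA (T.e (T.L v)), Module.End.mul_apply, LinearEquiv.conj_apply_apply,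
      T.e.symm_apply_apply, ← Module.End.mul_apply T.Li, T.h2, Module.End.one_apply]

theorem goodAt_det {n : ℕ} {M : Matrix (Fin n) (Fin n) (ZMod 3)} (hd : M.det = 1) :
    LinearMap.det (Matrix.toLin' M) = 1 := by
  rw [LinearMap.det_toLin', hd]

/-- Dimension at least four, over `ZMod 3`. -/
theorem corner_zmod {n : ℕ} (hn : 4 ≤ n) (M : Matrix (Fin n) (Fin n) (ZMod 3)) (hd : M.det = 1)
    (hM : M = 1 ∨ ¬ ∃ l : ZMod 3, M = l • 1) : Corner M := by
  have hV : finrank (ZMod 3) (Fin n → ZMod 3) = n := by simp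
  obtain ⟨P, hs, -, hg⟩ : Good (Matrix.toLin' M) 1 := by
    rcases Nat.lt_or_ge n 5 with h5 | h5
    · obtain rfl : n = 4 := by omega
      refine good_four hV _ (goodAt_det hd) fun h => ?_
      rw [show (-1 : ZMod 3) • (1 : End (ZMod 3) (Fin 4 → ZMod 3)) =
        Matrix.toLin' ((-1 : ZMod 3) • (1 : Matrix (Fin 4) (Fin 4) (ZMod 3))) by
          rw [map_smul, Matrix.toLin'_one]; rfl] at h
      have hM' := Matrix.toLin'.injective h
      rcases hM with hM | hM
      · exact absurd (hM.symm.trans hM') (by decide +kernel)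
      · exact hM ⟨-1, hM'⟩
    · exact good_main n hV h5 _ (goodAt_det hd)
  exact corner_of_good hs hg

/-- Dimension three, over `ZMod 3`. -/
theorem corner_zmod_three (M : Matrix (Fin 3) (Fin 3) (ZMod 3)) (hd : M.det = 1)
    (hM : ¬ IsTv (Matrix.toLin' M)) : Corner M :=
  corner_of_good sep_t3 (goodAt_three (by simp) _ (goodAt_det hd) hM)

theorem map_symm_map {F : Type*} [Field F] {n : ℕ} (f : ZMod 3 ≃+* F)
    (M : Matrix (Fin n) (Fin n) F) : (M.map f.symm).map f.toRingHom = M := by
  ext i j
  simp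

/-- Corners over three elements, dimension at least four. -/
theorem corner_three {F : Type*} [Field F] [Fintype F] (h3 : Fintype.card F = 3) {n : ℕ}
    (hn : 4 ≤ n) (M : Matrix (Fin n) (Fin n) F) (hd : M.det = 1)
    (hM : M = 1 ∨ ¬ ∃ l : F, M = l • 1) : Corner M := by
  let f : ZMod 3 ≃+* F := ZMod.ringEquivOfPrime F Nat.prime_three h3
  rw [← map_symm_map f M]
  refine corner_map _ (corner_zmod hn _ ?_ ?_)
  · rw [← RingEquiv.coe_toRingHom, ← RingHom.mapMatrix_apply, ← RingHom.map_det, hd, map_one]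
  · rcases hM with rfl | hM
    · exact Or.inl (Matrix.map_one _ (map_zero _) (map_one _))
    · refine Or.inr ?_
      rintro ⟨l, hl⟩
      refine hM ⟨f l, ?_⟩
      rw [← map_symm_map f M, hl]
      ext i j
      simp [Matrix.one_apply, apply_ite f]

/-- Corners over three elements, dimension three. -/
theorem corner_three_three {F : Type*} [Field F] [Fintype F] (h3 : Fintype.card F = 3)
    (M : Matrix (Fin 3) (Fin 3) F) (hd : M.det = 1) (hM : 2 ≤ (M - 1).rank ∨ M = 1) :
    Corner M := by
  let f : ZMod 3 ≃+* F := ZMod.ringEquivOfPrime F Nat.prime_three h3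
  rw [← map_symm_map f M]
  refine corner_map _ (corner_zmod_three _ ?_ ?_)
  · rw [← RingEquiv.coe_toRingHom, ← RingHom.mapMatrix_apply, ← RingHom.map_det, hd, map_one]
  · rcases hM with hM | rfl
    · rintro ⟨φ, u, -, -, -, hA⟩
      let b : Fin 3 → ZMod 3 := fun j => φ (Pi.single j 1)
      have : M - 1 = Matrix.vecMulVec (fun i => f (u i)) (fun j => f (b j)) := by
        ext i j
        have h := congrFun (LinearMap.congr_fun hA (Pi.single j 1)) i
        rw [LinearMap.transvection.apply] at h
        simp [Pi.single_apply] at h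
        have h' := congrArg f h
        simp [apply_ite f] at h'
        simp [Matrix.vecMulVec_apply, Matrix.one_apply, b, h', mul_comm]
      rw [this] at hM
      exact absurd (hM.trans (Matrix.rank_vecMulVec_le _ _)) (by norm_num)
    · rw [Matrix.map_one _ (map_zero _) (map_one _), Matrix.toLin'_one]
      exact not_isTv_one

end CfsgLib.KnownB.OreOmega
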