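import Cfsg.Agent.Lib.KnownB.OreOmega.Small
import Cfsg.Agent.Lib.KnownB.OreOmega.Three

/-!
Every element of `Ω` in odd dimension is a commutator.
-/

set_option autoImplicit false

namespace CfsgLib.KnownB.OreOmega

open Matrix QuadraticMap CfsgLib.Geometry CfsgLib.Thompson

variable {F : Type*} [Field F] [Fintype F]

theorem card_odd_five (hodd : Odd (Fintype.card F)) (h3 : Fintype.card F ≠ 3) :
    5 ≤ Fintype.card F := by
  obtain ⟨k, hk⟩ := hodd
  have := Fintype.one_lt_card (α := F)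
  omega

/-- The theorem. -/
theorem ore_omega_odd {n : ℕ} (hodd : Odd (Fintype.card F)) (hn : 3 ≤ n) :
    ∀ g : Cfsg.Omega F (Cfsg.quadFormOdd n F), ∃ a b : Cfsg.Omega F (Cfsg.quadFormOdd n F),
      g = a * b * a⁻¹ * b⁻¹ := by
  rw [← coe_matQuad_odd]
  intro g
  have h2 : (2 : F) ≠ 0 := two_ne_zero_of_odd_card rfl hodd
  have hF : GoodForm (qO n F) := good_two h2
  have hg : hF.invt g.1 = 1 := (hF.mem_Omega _).1 g.2
  suffices h : IsCommI hF g.1 by
    obtain ⟨a, b, ha, hb, e⟩ := h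
    exact ⟨⟨a, (hF.mem_Omega _).2 ha⟩, ⟨b, (hF.mem_Omega _).2 hb⟩, Subtype.ext e⟩
  by_cases hg1 : g.1.1.1 = 1
  · exact ⟨1, 1, map_one _, map_one _, Subtype.ext (Units.ext (by simpa using hg1))⟩
  have hg2 : g.1.1.1 ≠ -1 := by
    intro h
    let d : OO n F →* Fˣ := Matrix.GeneralLinearGroup.det.comp (OO n F).subtype
    have hle : Cfsg.Omega F ⇑(qO n F) ≤ d.ker :=
      Abelianization.commutator_subset_ker d
    have h1 : g.1.1.1.det = 1 := by
      have h' : d g.1 = 1 := hle g.2
      simpa [d] using congrArg Units.val h'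
    rw [h, det_neg, det_one, mul_one, Fintype.card_sum, Fintype.card_sum, Fintype.card_unit,
      Fintype.card_fin, Odd.neg_one_pow ⟨n, by omega⟩] at h1
    exact h2 (by linear_combination -h1)
  by_cases h3 : Fintype.card F = 3
  · rcases Nat.eq_or_lt_of_le hn with rfl | hn4
    · exact comm_seven hF h2 h3 (fun M hd hM => corner_three_three h3 M hd hM) hg hg1 hg2
    · exact comm_all hF h2 hn (fun M hd hns => corner_three h3 hn4 M hd (Or.inr hns)) hg hg1 hg2
  · exact comm_all hF h2 hn (fun M hd hns => corner_big (Nat.odd_iff.1 hodd)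
      (card_odd_five hodd h3) hn M hd (Or.inr hns)) hg hg1 hg2

end CfsgLib.KnownB.OreOmega
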