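import Cfsg.Agent.Lib.KnownB.OreOmega.Glue
import Cfsg.Agent.Lib.KnownB.OreOmega.Big
import Cfsg.Agent.Lib.KnownB.OreOmega.Finite

/-!
Dimension seven over the field with three elements: moving a transvection corner away.
-/

set_option autoImplicit false
set_option linter.unusedSectionVars false

namespace CfsgLib.KnownB.OreOmega

open Matrix QuadraticMap Module CfsgLib.Geometry CfsgLib.Thompson CfsgLib.KnownB.Sourour

variable {F : Type*} [Field F] [Fintype F]

theorem IsA_congr {T : Matrix (Fin 3) (Fin 3) F} {r : Fin 3 → F} (h : IsA false (T + vecMulVec r r))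
    (Q : Matrix (Fin 3) (Fin 3) F) :
    IsA false (Qᵀ * T * Q + vecMulVec (Qᵀ *ᵥ r) (Qᵀ *ᵥ r)) := by
  have e : Qᵀ * T * Q + vecMulVec (Qᵀ *ᵥ r) (Qᵀ *ᵥ r) = Qᵀ * (T + vecMulVec r r) * Q := by
    rw [Matrix.mul_add, Matrix.add_mul, Matrix.mul_vecMulVec, Matrix.vecMulVec_mul, mulVec_transpose]
  rw [e]
  obtain ⟨hd, ht⟩ := alt_of_quad (X := Qᵀ * (T + vecMulVec r r) * Q) fun u => by
    rw [← mulVec_mulVec, ← mulVec_mulVec, dotProduct_mulVec, vecMul_transpose]
    exact h.dot_self _
  exact ⟨ht, fun _ => hd⟩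

theorem exists_altM {T : Matrix (Fin 3) (Fin 3) F} {r : Fin 3 → F}
    (h : IsA false (T + vecMulVec r r)) : ∃ a, T = altM a - vecMulVec r r := by
  obtain ⟨ht, hd⟩ := h
  have hd := hd rfl
  refine ⟨![(T + vecMulVec r r) 1 2, (T + vecMulVec r r) 2 0, (T + vecMulVec r r) 0 1], ?_⟩
  rw [eq_sub_iff_add_eq]
  set A := T + vecMulVec r r
  have hs : ∀ i j, A i j = -A j i := fun i j => by
    have := congrFun (congrFun ht j) i
    simpa using this
  ext i j
  fin_cases i <;> fin_cases j <;> simp [altM, hd] <;> exact hs _ _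

theorem isA_altM (b w : Fin 3 → F) : IsA false (altM b - vecMulVec w w + vecMulVec w w) := by
  rw [sub_add_cancel]
  refine ⟨?_, fun _ i => by fin_cases i <;> simp [altM]⟩
  ext i j
  fin_cases i <;> fin_cases j <;> simp [altM]

theorem rank_of_minor {N : Matrix (Fin 3) (Fin 3) F}
    (h : ∃ i j k l : Fin 3, N i k * N j l ≠ N i l * N j k) : 2 ≤ N.rank := by
  obtain ⟨i, j, k, l, h⟩ := h
  have hli : LinearIndependent F ![N *ᵥ Pi.single k 1, N *ᵥ Pi.single l 1] := by
    rw [LinearIndependent.pair_iff]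
    intro s t e
    have ei : s * N i k + t * N i l = 0 := by simpa using congrFun e i
    have ej : s * N j k + t * N j l = 0 := by simpa using congrFun e j
    have hD : N i k * N j l - N i l * N j k ≠ 0 := sub_ne_zero.2 h
    constructor
    · exact (mul_eq_zero.1 (show (N i k * N j l - N i l * N j k) * s = 0 by
        linear_combination N j l * ei - N i l * ej)).resolve_left hD
    · exact (mul_eq_zero.1 (show (N i k * N j l - N i l * N j k) * t = 0 by
        linear_combination N i k * ej - N j k * ei)).resolve_left hD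
  have h2 : Module.finrank F (Submodule.span F (Set.range ![N *ᵥ Pi.single k 1, N *ᵥ Pi.single l 1]))
      = 2 := by
    rw [finrank_span_eq_card hli]; rfl
  rw [Matrix.rank, ← h2]
  refine Submodule.finrank_mono (Submodule.span_le.2 ?_)
  rintro _ ⟨a, rfl⟩
  fin_cases a <;> exact LinearMap.mem_range_self N.mulVecLin _

/-- The corner property used in dimension three. -/
abbrev CornerThree (F : Type*) [Field F] [Fintype F] : Prop :=
  ∀ M : Matrix (Fin 3) (Fin 3) F, M.det = 1 → (2 ≤ (M - 1).rank ∨ M = 1) → Corner M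

variable (hF : GoodForm (qO 3 F)) (h2 : (2 : F) ≠ 0) (h3 : Fintype.card F = 3)
  (hc : CornerThree F)

include h2 h3 hc in
/-- A non-trivial lower part. -/
theorem comm_move {g : OO 3 F} (hg : hF.invt g = 1) {r : Fin 3 → F}
    {T : Matrix (Fin 3) (Fin 3) F} {r' : Fin 3 → F} {X : Matrix (Fin 3) (Fin 3) F}
    {M : GL (Fin 3) F} (hT : IsA false (T + vecMulVec r r)) (hX : IsA false (X + vecMulVec r' r'))
    (hM : M.1.det = 1) (hns : ¬ ∃ l : F, M.1 = l • 1) (hT0 : T ≠ 0)
    (e : g.1 = loU r T * levI F 3 M * upU r' X) : IsCommI hF g := by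
  classical
  by_cases hr : 2 ≤ (M.1 - 1).rank
  · exact comm_of_corner hF h2 le_rfl hT hX (hc _ hM (Or.inl hr)) e
  -- bring the transvection to standard form
  obtain ⟨f, u, hf, hu, hfu, hAt⟩ := exists_transvection (toLin' M.1)
    (by rw [LinearMap.det_toLin', hM])
    (fun h => hns ⟨1, by
      rw [one_smul]
      exact Matrix.toLin'.injective (by rw [Matrix.toLin'_one, ← Module.End.one_eq_id, h])⟩)
    (by
      have e1 : toLin' M.1 - 1 = (M.1 - 1).mulVecLin := LinearMap.ext fun v => by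
        simp [Matrix.sub_mulVec]
      rw [e1]
      exact not_le.1 hr)
  let f₀ : Dual F (Fin 3 → F) := LinearMap.proj 1
  let u₀ : Fin 3 → F := Pi.single 0 1
  have hf₀ : f₀ ≠ 0 := fun h => (one_ne_zero : (1 : F) ≠ 0) (by
    simpa [f₀] using LinearMap.congr_fun h (Pi.single (1 : Fin 3) (1 : F)))
  have hu₀ : u₀ ≠ 0 := fun h => (one_ne_zero : (1 : F) ≠ 0) (by simpa [u₀] using congrFun h 0)
  obtain ⟨el, hel⟩ := transvection_conj f₀ f u₀ u hf₀ hf hu₀ hu (by simp [f₀, u₀]) hfu
  set Q := LinearMap.toMatrix' el.toLinearMap with hQdef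
  set Qi := LinearMap.toMatrix' el.symm.toLinearMap
  have hQQ : Q * Qi = 1 := by
    rw [← LinearMap.toMatrix'_mul, Module.End.mul_eq_comp, LinearEquiv.comp_coe,
      LinearEquiv.symm_trans_self, LinearEquiv.refl_toLinearMap, LinearMap.toMatrix'_id]
  have hQQ' : Qi * Q = 1 := mul_eq_one_comm.1 hQQ
  have hMQ : M.1 = Q * tt F * Qi := by
    have ht : toLin' (tt F) = LinearMap.transvection f₀ u₀ := LinearMap.ext fun v => funext fun i => by
      rw [LinearMap.transvection.apply, toLin'_apply]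
      fin_cases i <;> simp [tt, f₀, u₀, Matrix.mulVec, dotProduct, Fin.sum_univ_three]
    have h' : toLin' M.1 * el.toLinearMap = el.toLinearMap * toLin' (tt F) := LinearMap.ext fun v => by
      rw [hAt, ht]; exact (hel v).symm
    have h'' := congrArg LinearMap.toMatrix' h'
    rw [LinearMap.toMatrix'_mul, LinearMap.toMatrix'_mul, LinearMap.toMatrix'_toLin',
      LinearMap.toMatrix'_toLin', ← hQdef] at h''
    rw [← h'', Matrix.mul_assoc, hQQ, Matrix.mul_one]
  -- transport to the finite check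
  obtain ⟨a, ha⟩ := exists_altM (IsA_congr hT Q)
  let σ : ZMod 3 ≃+* F := ZMod.ringEquivOfPrime F Nat.prime_three h3
  set rt := Qᵀ *ᵥ r with hrt
  have hne : ¬((fun i => σ.symm (rt i)) = 0 ∧ (fun i => σ.symm (a i)) = 0) := by
    rintro ⟨hr0, ha0⟩
    have hr0' : rt = 0 := funext fun i => by simpa using congrFun hr0 i
    have ha0' : a = 0 := funext fun i => by simpa using congrFun ha0 i
    have hz : Qᵀ * T * Q = 0 := by
      rw [ha, hr0', ha0']
      ext i j
      fin_cases i <;> fin_cases j <;> simp [altM]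
    refine hT0 ?_
    calc T = (Q * Qi)ᵀ * T * (Q * Qi) := by rw [hQQ, transpose_one, Matrix.one_mul, Matrix.mul_one]
      _ = Qiᵀ * (Qᵀ * T * Q) * Qi := by rw [transpose_mul]; simp only [Matrix.mul_assoc]
      _ = 0 := by rw [hz, Matrix.mul_zero, Matrix.zero_mul]
  obtain ⟨w₀, b₀, hdet, hfine⟩ := exists_fine _ _ hne
  set w : Fin 3 → F := fun i => σ (w₀ i) with hw
  set b : Fin 3 → F := fun i => σ (b₀ i) with hb
  set N := mov rt a w b with hN
  have hmap : N = (mov (fun i => σ.symm (rt i)) (fun i => σ.symm (a i)) w₀ b₀).map σ := by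
    have e1 : rt = fun i => σ ((fun i => σ.symm (rt i)) i) := funext fun i => (σ.apply_symm_apply _).symm
    have e2 : a = fun i => σ ((fun i => σ.symm (a i)) i) := funext fun i => (σ.apply_symm_apply _).symm
    rw [hN, hw, hb]
    conv_lhs => rw [e1, e2]
    have ev : ∀ x y : Fin 3 → ZMod 3, vecMulVec (fun i => σ (x i)) (fun i => σ (y i)) =
        σ.toRingHom.mapMatrix (vecMulVec x y) := fun x y => by ext i j; simp [vecMulVec_apply]
    have ea : ∀ x : Fin 3 → ZMod 3, altM (fun i => σ (x i)) = σ.toRingHom.mapMatrix (altM x) :=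
      fun x => by ext i j; fin_cases i <;> fin_cases j <;> simp [altM]
    have et : tt F = σ.toRingHom.mapMatrix (tt (ZMod 3)) := by
      ext i j; fin_cases i <;> fin_cases j <;> simp [tt]
    have e2' : ∀ Y : Matrix (Fin 3) (Fin 3) (ZMod 3), (2 : F) • σ.toRingHom.mapMatrix Y =
        σ.toRingHom.mapMatrix ((2 : ZMod 3) • Y) := fun Y => by
      ext i j; simp [Matrix.smul_apply, map_ofNat]
    simp only [mov, ev, ea, et, e2']
    rw [← map_one σ.toRingHom.mapMatrix, ← map_sub, ← map_sub, ← map_sub, ← map_mul, ← map_add,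
      ← map_mul]
    rfl
  have hNd : N.det = 1 := by
    rw [hmap]
    have := σ.toRingHom.map_det (mov (fun i => σ.symm (rt i)) (fun i => σ.symm (a i)) w₀ b₀)
    rw [hdet, map_one] at this
    exact this.symm
  have hNc : Corner N := by
    refine hc N hNd ?_
    rcases hfine with h1 | ⟨i, j, k, l, h⟩
    · right; rw [hmap, h1]; simp
    · left
      refine rank_of_minor ⟨i, j, k, l, fun h' => h (σ.injective ?_)⟩
      simp only [hmap, Matrix.sub_apply, Matrix.map_apply, Matrix.one_apply] at h'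
      simp only [Matrix.sub_apply, Matrix.one_apply, map_mul, map_sub]
      convert h' using 2 <;> split_ifs <;> simp
  -- conjugate
  have hS : IsA false (Q * (altM b - vecMulVec w w) * Qᵀ + vecMulVec (Q *ᵥ w) (Q *ᵥ w)) := by
    simpa using IsA_congr (isA_altM b w) Qᵀ
  let U : OO 3 F := ⟨upU (Q *ᵥ w) (Q * (altM b - vecMulVec w w) * Qᵀ), upU_mem hS⟩
  have hgU : hF.invt (U * g * U⁻¹) = 1 := (hF.invt_conj _ _).trans hg
  have hcorn : cornA (U * g * U⁻¹).1 = Q * N * Qi := by
    have hx : ∀ x, g.1.1 *ᵥ v3 0 x 0 = v3 (r ⬝ᵥ (M.1 *ᵥ x)) (M.1 *ᵥ x) (T *ᵥ (M.1 *ᵥ x)) := fun x => by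
      rw [e, Units.val_mul, Units.val_mul, ← mulVec_mulVec, ← mulVec_mulVec, upU_val, upMat_mulVec,
        levI_mulVec, loU_mulVec]
      simp
    have hg3 := fun x => v3_inj.1 ((mulVec_x g.1 x).symm.trans (hx x))
    refine Matrix.ext_iff_mulVec.2 fun x => ?_
    have := v3_inj.1 ((mulVec_x _ x).symm.trans
      (conj_up_x (g := g.1) (Q *ᵥ w) (Q * (altM b - vecMulVec w w) * Qᵀ) x))
    show cornA (upU (Q *ᵥ w) (Q * (altM b - vecMulVec w w) * Qᵀ) * g.1 *
      (upU (Q *ᵥ w) (Q * (altM b - vecMulVec w w) * Qᵀ))⁻¹) *ᵥ x = _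
    rw [this.2.1, (hg3 x).1, (hg3 x).2.1, (hg3 x).2.2]
    have hN' : Q * N * Qi = (1 - (2 : F) • vecMulVec (Q *ᵥ w) r +
        Q * (altM b - vecMulVec w w) * Qᵀ * T) * M.1 := by
      have e1 : Q * vecMulVec w rt = vecMulVec (Q *ᵥ w) r * Q := by
        rw [Matrix.mul_vecMulVec, Matrix.vecMulVec_mul, hrt, mulVec_transpose]
      rw [hN, mov, ← ha, hMQ]
      simp only [Matrix.mul_add, Matrix.add_mul, Matrix.mul_sub, Matrix.sub_mul, Matrix.mul_one,
        Matrix.one_mul, Matrix.mul_smul, Matrix.smul_mul, ← Matrix.mul_assoc, e1]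
    rw [hN']
    simp only [add_mulVec, sub_mulVec, smul_mulVec, Matrix.one_mulVec, ← mulVec_mulVec,
      vecMulVec_mulVec, op_smul_eq_smul, smul_smul]
  have hdet' : (Q * N * Qi).det = 1 := by
    rw [det_mul, det_mul, hNd, mul_one, ← det_mul, hQQ, det_one]
  obtain ⟨-, r₁, T₁, r₂, X₁, hT₁, hX₁, e₁⟩ := cell_of_corner hF le_rfl h2 (U * g * U⁻¹)
    (Matrix.GeneralLinearGroup.mkOfDetNeZero (Q * N * Qi) (by rw [hdet']; exact one_ne_zero)) hgU
    hcorn.symm
  exact IsCommI.of_conj hF (x := U)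
    (comm_of_corner hF h2 le_rfl hT₁ hX₁ (hNc.conj Q Qi hQQ hQQ') e₁)

include h2 h3 hc in
/-- All elements in dimension seven over three elements. -/
theorem comm_seven {g : OO 3 F} (hg : hF.invt g = 1) (hg1 : g.1.1 ≠ 1) (hg2 : g.1.1 ≠ -1) :
    IsCommI hF g := by
  obtain ⟨x, r, T, r', X, M, hT, hX, hM, hns, e⟩ := exists_cell hF le_rfl h2 hg hg1 hg2
  refine IsCommI.of_conj hF (x := x) ?_
  have hgx : hF.invt (x * g * x⁻¹) = 1 := (hF.invt_conj _ _).trans hg
  have e' : (x * g * x⁻¹).1 = loU r T * levI F 3 M * upU r' X := by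
    rw [Subgroup.coe_mul, Subgroup.coe_mul, Subgroup.coe_inv, e]
  by_cases hT0 : T ≠ 0
  · exact comm_move hF h2 h3 hc hgx hT hX hM hns hT0 e'
  push Not at hT0
  have hr0 : r = 0 := eq_zero_of_vecMulVec (by
    obtain ⟨ht, hd⟩ := hT
    rw [hT0, zero_add] at ht hd
    ext i j
    have h1 := congrFun (congrFun ht i) j
    simp only [Bool.false_eq_true, if_false, Matrix.transpose_apply, Matrix.neg_apply,
      vecMulVec_apply] at h1
    have h2' : (2 : F) * (r i * r j) = 0 := by linear_combination h1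
    simpa [vecMulVec_apply] using (mul_eq_zero.1 h2').resolve_left h2)
  have hlo : loU r T = 1 := by
    rw [hr0, hT0, loU, upU_zero, mul_one, mul_inv_cancel]
  rw [hlo, one_mul] at e'
  by_cases hX0 : X = 0
  · -- a Levi element
    have hr0' : r' = 0 := eq_zero_of_vecMulVec (by
      obtain ⟨ht, hd⟩ := hX
      rw [hX0, zero_add] at ht hd
      ext i j
      have h1 := congrFun (congrFun ht i) j
      simp only [Bool.false_eq_true, if_false, Matrix.transpose_apply, Matrix.neg_apply,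
        vecMulVec_apply] at h1
      have h2' : (2 : F) * (r' i * r' j) = 0 := by linear_combination h1
      simpa [vecMulVec_apply] using (mul_eq_zero.1 h2').resolve_left h2)
    rw [hr0', hX0, upU_zero, mul_one] at e'
    obtain ⟨A, B, eAB⟩ := commutator_all (F := F) (by omega : 2 ≤ 3) (fun h => by omega)
      (⟨M.1, hM⟩ : Matrix.SpecialLinearGroup (Fin 3) F)
    refine ⟨levJ 3 F (Matrix.SpecialLinearGroup.toGL A), levJ 3 F (Matrix.SpecialLinearGroup.toGL B),
      invt_lev_sl hF le_rfl A.2, invt_lev_sl hF le_rfl B.2, ?_⟩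
    have eM : M = Matrix.SpecialLinearGroup.toGL A * Matrix.SpecialLinearGroup.toGL B *
        (Matrix.SpecialLinearGroup.toGL A)⁻¹ * (Matrix.SpecialLinearGroup.toGL B)⁻¹ := by
      rw [← map_inv, ← map_inv, ← map_mul, ← map_mul, ← map_mul, ← eAB]
      exact Units.ext rfl
    refine Subtype.ext (e'.trans ?_)
    rw [eM]
    simp only [map_mul, map_inv]
    rfl
  · -- flip
    let Φ : OO 3 F := ⟨flipI F 3, flipI_mem⟩
    refine IsCommI.of_conj hF (x := Φ) ?_
    have hgf : hF.invt (Φ * (x * g * x⁻¹) * Φ⁻¹) = 1 := (hF.invt_conj _ _).trans hgx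
    have hT'' : IsA false (M.1 * X * M.1ᵀ + vecMulVec (M.1 *ᵥ r') (M.1 *ᵥ r')) := by
      simpa using IsA_congr hX M.1ᵀ
    have hne : M.1 * X * M.1ᵀ ≠ 0 := fun h => hX0 (by
      calc X = (M⁻¹.1 * M.1) * X * (M⁻¹.1 * M.1)ᵀ := by
            rw [Units.inv_mul, transpose_one, Matrix.one_mul, Matrix.mul_one]
        _ = M⁻¹.1 * (M.1 * X * M.1ᵀ) * M⁻¹.1ᵀ := by
            rw [transpose_mul]; simp only [Matrix.mul_assoc]
        _ = 0 := by rw [h, Matrix.mul_zero, Matrix.zero_mul])
    have hdt : (ti M).1.det = 1 := by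
      have := congrArg Matrix.det M.inv_mul
      rw [det_mul, det_one, hM, mul_one] at this
      rw [ti_val, det_transpose, this]
    have hnt : ¬ ∃ l : F, (ti M).1 = l • 1 := by
      rintro ⟨l, hl⟩
      refine hns ⟨l⁻¹, ?_⟩
      have hl0 : l ≠ 0 := fun h0 => by
        rw [hl, h0, zero_smul, det_zero] at hdt
        exact zero_ne_one hdt
      have hMi : (M⁻¹).1 = l • 1 := by
        rw [ti_val] at hl
        have := congrArg Matrix.transpose hl
        rwa [transpose_transpose, transpose_smul, transpose_one] at this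
      have h1 := M.mul_inv
      rw [hMi, Matrix.mul_smul, Matrix.mul_one] at h1
      rw [← h1, smul_smul, inv_mul_cancel₀ hl0, one_smul]
    refine comm_move hF h2 h3 hc hgf hT'' (r' := 0) (X := 0) (by simpa using isA_zero) hdt hnt hne ?_
    show flipI F 3 * (x * g * x⁻¹).1 * (flipI F 3)⁻¹ = _
    rw [e', upU_zero, mul_one, loU, ← levI_conj_upU, ← flip_conj_levI]
    group

end CfsgLib.KnownB.OreOmega
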