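import Cfsg.Agent.Lib.KnownB.OreOmega.ThreeKeys
import Cfsg.Agent.Lib.KnownB.Sourour.Twist

/-!
Every endomorphism is a sum of companion blocks, each killed by the polynomial of the previous one.
-/

set_option autoImplicit false

namespace CfsgLib.KnownB.OreOmega

open Module Polynomial CfsgLib.KnownB.Sourour

section split

variable {K V : Type} [Field K] [AddCommGroup V] [Module K V] [FiniteDimensional K V]

/-- A vector whose annihilator is the minimal polynomial. -/
theorem exists_full_vector (A : End K V) :
    ∃ v : V, ∀ p : K[X], aeval A p v = 0 → minpoly K A ∣ p := by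
  have : Module.Finite K[X] (AEval' A) := inferInstance
  obtain ⟨x, hx⟩ := exists_ker_toSpanSingleton_eq_annihilator K[X] (AEval' A)
  obtain ⟨v, rfl⟩ := (AEval'.of A).surjective x
  refine ⟨v, fun p hp => ?_⟩
  have h : p ∈ Module.annihilator K[X] (AEval' A) := by
    rw [← hx, LinearMap.mem_ker, LinearMap.toSpanSingleton_apply]
    change p • AEval'.of A v = 0
    rw [← AEval.of_aeval_smul, Module.End.smul_def, hp, map_zero]
  rw [← span_minpoly_eq_annihilator, Ideal.mem_span_singleton] at h
  exact h

/-- The polynomial `X ^ d - ∑ c i X ^ i`. -/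
noncomputable def colPoly (c : List K) : K[X] :=
  X ^ c.length - ∑ i : Fin c.length, C (c.get i) * X ^ (i : ℕ)

theorem aeval_colPoly {R : Type*} [Ring R] [Algebra K R] (c : List K) (a : R) :
    aeval a (colPoly c) = a ^ c.length - ∑ i : Fin c.length, c.get i • a ^ (i : ℕ) := by
  simp [colPoly, Algebra.smul_def]

/-- A cyclic direct summand of largest degree. -/
theorem exists_cyclic_summand (A : End K V) (hV : 0 < finrank K V) :
    ∃ (c : List K) (W U : Submodule K V) (b : Basis (Fin c.length) K W) (_hU : ∀ u ∈ U, A u ∈ U),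
      0 < c.length ∧ IsCompl W U ∧
        (∀ j, A (b j : V) = ∑ i, comp c i j • (b i : V)) ∧ aeval A (colPoly c) = 0 ∧
        minpoly K A = colPoly c := by
  classical
  have hne : Nontrivial V := Module.nontrivial_of_finrank_pos hV
  obtain ⟨d, hd⟩ : ∃ d, (minpoly K A).natDegree = d := ⟨_, rfl⟩
  have hint : IsIntegral K A := Algebra.IsIntegral.isIntegral A
  have hd0 : 0 < d := hd ▸ minpoly.natDegree_pos hint
  obtain ⟨c, hclen, hc⟩ : ∃ c : List K, c.length = d ∧ minpoly K A = colPoly c := by
    refine ⟨List.ofFn fun i : Fin d => -(minpoly K A).coeff i, List.length_ofFn, ?_⟩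
    conv_lhs => rw [(minpoly.monic hint).as_sum, hd]
    rw [colPoly, sub_eq_add_neg, ← Finset.sum_neg_distrib]
    simp only [List.length_ofFn]
    congr 1
    rw [← Fin.sum_univ_eq_sum_range (fun i => C ((minpoly K A).coeff i) * X ^ i)]
    refine Fintype.sum_equiv (finCongr (List.length_ofFn).symm) _ _ fun i => ?_
    simp
  subst hclen
  have hzero : aeval A (colPoly c) = 0 := hc ▸ minpoly.aeval K A
  obtain ⟨v, hv⟩ := exists_full_vector A
  have hli : LinearIndependent K fun i : Fin c.length => (A ^ (i : ℕ)) v := by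
    rw [Fintype.linearIndependent_iff]
    intro g hg i
    let p : K[X] := ∑ i : Fin c.length, C (g i) * X ^ (i : ℕ)
    have hp : aeval A p v = 0 := by
      rw [← hg]
      simp [p, LinearMap.sum_apply, ← Algebra.smul_def]
    have h0 : p = 0 := by
      by_contra h0
      have h1 := natDegree_le_of_dvd (hv p hp) h0
      have h2 : p.natDegree < c.length := by
        refine (Nat.lt_of_le_of_lt (natDegree_sum_le_of_forall_le _ _ (n := c.length - 1)
          fun i _ => (natDegree_C_mul_X_pow_le _ _).trans ?_) (by omega))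
        have := i.2
        omega
      omega
    have := congrArg (fun q => coeff q (i : ℕ)) h0
    simpa [p, finsetSum_coeff, coeff_C_mul, coeff_X_pow, Fin.val_inj] using this
  let f : Fin c.length → V := fun i => (A ^ (i : ℕ)) v
  let W := Submodule.span K (Set.range f)
  let b : Basis (Fin c.length) K W := Basis.span hli
  have hb : ∀ i, (b i : V) = f i := fun i => congrArg Subtype.val (Basis.span_apply hli i)
  obtain ⟨φ, hφ⟩ : ∃ φ : Dual K V, ∀ i : Fin c.length,
      φ (f i) = if (i : ℕ) + 1 = c.length then 1 else 0 := by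
    obtain ⟨φ, hφ⟩ := LinearMap.exists_extend
      (b.constr K fun i : Fin c.length => if (i : ℕ) + 1 = c.length then (1 : K) else 0)
    refine ⟨φ, fun i => ?_⟩
    rw [← hb, ← Submodule.subtype_apply, ← LinearMap.comp_apply, hφ, Basis.constr_basis]
  let Θ : V →ₗ[K] (Fin c.length → K) := LinearMap.pi fun i => φ ∘ₗ (A ^ (i : ℕ))
  let U := LinearMap.ker Θ
  have hAd : A ^ c.length = ∑ i : Fin c.length, c.get i • A ^ (i : ℕ) := by
    rw [← sub_eq_zero, ← aeval_colPoly]
    exact hzero
  have hUA : ∀ u ∈ U, A u ∈ U := by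
    intro u hu
    have hu' : ∀ i : Fin c.length, φ ((A ^ (i : ℕ)) u) = 0 := fun i => congrFun hu i
    refine funext fun i => ?_
    change φ ((A ^ (i : ℕ)) (A u)) = 0
    rw [← Module.End.mul_apply, ← pow_succ]
    by_cases hi : (i : ℕ) + 1 < c.length
    · exact hu' ⟨_, hi⟩
    · rw [show (i : ℕ) + 1 = c.length by have := i.2; omega, hAd]
      simp [LinearMap.sum_apply, hu']
  have hdis : Disjoint W U := by
    rw [Submodule.disjoint_def]
    intro x hx hxU
    obtain ⟨g, rfl⟩ := (Submodule.mem_span_range_iff_exists_fun K).1 hx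
    suffices g = 0 by simp [this]
    by_contra hg
    have hne : (Finset.univ.filter fun j => g j ≠ 0).Nonempty := by
      obtain ⟨j, hj⟩ := Function.ne_iff.1 hg
      exact ⟨j, Finset.mem_filter.2 ⟨Finset.mem_univ _, hj⟩⟩
    let j₀ := (Finset.univ.filter fun j => g j ≠ 0).max' hne
    have hj₀ : g j₀ ≠ 0 := (Finset.mem_filter.1 (Finset.max'_mem _ hne)).2
    have hmax : ∀ j, g j ≠ 0 → j ≤ j₀ := fun j hj =>
      Finset.le_max' _ j (Finset.mem_filter.2 ⟨Finset.mem_univ _, hj⟩)
    let i : Fin c.length := ⟨c.length - 1 - j₀, by omega⟩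
    have h1 : φ ((A ^ (i : ℕ)) (∑ j, g j • f j)) = 0 := congrFun hxU i
    rw [map_sum, map_sum] at h1
    have key : ∀ j : Fin c.length, φ ((A ^ (i : ℕ)) (g j • f j)) = if j = j₀ then g j else 0 := by
      intro j
      by_cases hj : g j = 0
      · simp [hj]
      · have hle : (j : ℕ) ≤ j₀ := hmax j hj
        have hlt : (i : ℕ) + j < c.length := by
          have := j₀.2; simp only [i]; omega
        rw [map_smul, map_smul, ← Module.End.mul_apply, ← pow_add,
          show (A ^ ((i : ℕ) + j)) v = f ⟨_, hlt⟩ from rfl, hφ]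
        simp only [i, Fin.ext_iff, smul_eq_mul, mul_ite, mul_one, mul_zero]
        have := j₀.2
        split_ifs <;> first | rfl | omega
    rw [Finset.sum_congr rfl fun j _ => key j, Finset.sum_ite_eq' Finset.univ j₀] at h1
    exact hj₀ (by simpa using h1)
  have hcompl : IsCompl W U := by
    refine ⟨hdis, codisjoint_iff.2 (Submodule.eq_top_of_finrank_eq ?_)⟩
    have h1 := Θ.finrank_range_add_finrank_ker
    have h2 := Submodule.finrank_le (LinearMap.range Θ)
    have h3 : finrank K W = c.length := by
      rw [Module.finrank_eq_card_basis b, Fintype.card_fin]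
    have h4 := Submodule.finrank_sup_add_finrank_inf_eq W U
    rw [disjoint_iff.1 hdis, finrank_bot] at h4
    have h5 := Submodule.finrank_le (W ⊔ U)
    rw [finrank_fintype_fun_eq_card, Fintype.card_fin] at h2
    change finrank K (LinearMap.range Θ) + finrank K U = _ at h1
    omega
  refine ⟨c, W, U, b, hUA, hd0, hcompl, fun j => ?_, hzero, hc⟩
  simp only [hb]
  change A ((A ^ (j : ℕ)) v) = _
  rw [← Module.End.mul_apply, ← pow_succ']
  by_cases hj : (j : ℕ) + 1 < c.length
  · rw [Finset.sum_eq_single ⟨(j : ℕ) + 1, hj⟩]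
    · simp [comp, f, hj.ne]
    · intro i _ hi
      have : (i : ℕ) ≠ j + 1 := fun h => hi (Fin.ext h)
      simp [comp, hj.ne, this]
    · simp
  · have hj' : (j : ℕ) + 1 = c.length := by have := j.2; omega
    rw [hj', hAd, LinearMap.sum_apply]
    refine Finset.sum_congr rfl fun i _ => ?_
    simp [comp, hj', f]

omit [FiniteDimensional K V] in
/-- An endomorphism killed by `p` has blocks killed by `p`. -/
theorem killMat_eq_zero {m : ℕ} {A : End K V} (c : List K) (hA : aeval A (colPoly c) = 0)
    (B : Matrix (Fin m) (Fin m) K) (f : Fin m → V) (hf : LinearIndependent K f)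
    (h : ∀ j, A (f j) = ∑ i, B i j • f i) : killMat c B = 0 := by
  have hinj : LinearMap.ker (Fintype.linearCombination K f) = ⊥ :=
    linearIndependent_iff_injective_fintypeLinearCombination.1 hf |> LinearMap.ker_eq_bot.2
  have hi : ∀ u, Fintype.linearCombination K f (Matrix.toLin' B u) =
      A (Fintype.linearCombination K f u) := by
    intro u
    simp only [Fintype.linearCombination_apply, map_sum, map_smul, h, Finset.smul_sum,
      Matrix.toLin'_apply, Matrix.mulVec, dotProduct, Finset.sum_smul, smul_smul]
    rw [Finset.sum_comm]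
    refine Finset.sum_congr rfl fun i _ => Finset.sum_congr rfl fun j _ => ?_
    rw [mul_comm]
  have h0 : aeval (Matrix.toLin' B) (colPoly c) = 0 := by
    refine LinearMap.ext fun u => LinearMap.ker_eq_bot.1 hinj ?_
    rw [aeval_intertwine _ _ A hi, hA]
    simp
  apply Matrix.toLin'.injective
  rw [map_zero, ← h0, aeval_colPoly, killMat]
  simp [map_sum, Matrix.toLin'_pow]

theorem det_comp (c : List K) (hc : 0 < c.length) :
    (comp c).det = (-1) ^ (c.length - 1) * c.getD 0 0 := by
  obtain ⟨m, hm⟩ : ∃ m, c.length = m + 1 := ⟨c.length - 1, by omega⟩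
  let e : Fin (m + 1) ≃ Fin c.length := finCongr hm.symm
  rw [← Matrix.det_submatrix_equiv_self e (comp c), Matrix.det_succ_row_zero,
    Finset.sum_eq_single (Fin.last m)]
  · rw [show ((comp c).submatrix e e).submatrix Fin.succ (Fin.last m).succAbove = 1 from ?_,
      Matrix.det_one, mul_one, Fin.val_last, show c.length - 1 = m by omega]
    · congr 1
      simp [comp, e, hm, List.getD_eq_getElem?_getD]
    · ext i j
      have := i.2
      have := j.2
      simp only [Matrix.submatrix_apply, Fin.succAbove_last, comp, Matrix.of_apply, e,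
        finCongr_apply, Fin.val_cast, Fin.val_castSucc, Fin.val_succ, Matrix.one_apply,
        Fin.ext_iff, hm]
      rw [if_neg (by omega)]
      simp
  · intro j _ hj
    have hjm : (j : ℕ) ≠ m := fun h => hj (Fin.ext h)
    simp [comp, e, hm, hjm]
  · simp

theorem natDegree_colPoly (c : List K) : (colPoly c).natDegree = c.length := by
  refine natDegree_eq_of_degree_eq_some ?_
  rw [colPoly, sub_eq_add_neg, add_comm, degree_add_eq_right_of_degree_lt, degree_X_pow]
  rw [degree_neg, degree_X_pow]
  exact degree_sum_fin_lt _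

theorem blk_castAdd (c : List K) (cs : List (List K)) {m : ℕ} (i j : Fin c.length) :
    blk (c :: cs) (Fin.castAdd m i : Fin _) (Fin.castAdd m j : Fin _) = comp c i j := by
  simp [blk]

theorem blk_natAdd (c : List K) (cs : List (List K)) {m : ℕ} (i j : Fin m) :
    blk (c :: cs) (Fin.natAdd c.length i : Fin _) (Fin.natAdd c.length j : Fin _) = blk cs i j := by
  simp [blk]

theorem blk_left (c : List K) (cs : List (List K)) {m : ℕ} (i : Fin c.length) (j : Fin m) :
    blk (c :: cs) (Fin.castAdd m i : Fin _) (Fin.natAdd c.length j : Fin _) = 0 := by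
  simp [blk]

theorem blk_right (c : List K) (cs : List (List K)) {m : ℕ} (i : Fin m) (j : Fin c.length) :
    blk (c :: cs) (Fin.natAdd c.length i : Fin _) (Fin.castAdd m j : Fin _) = 0 := by
  simp [blk]

end split

/-- The companion block form of an endomorphism. -/
theorem exists_form {K : Type} [Field K] (n : ℕ) : ∀ {V : Type} [AddCommGroup V] [Module K V]
    [FiniteDimensional K V], finrank K V = n → ∀ A : End K V,
      ∃ (cs : List (List K)) (B : Basis (Fin n) K V), (∀ c ∈ cs, 0 < c.length) ∧
        (cs.map List.length).sum = n ∧ (cs.map List.length).Pairwise (· ≥ ·) ∧ Chain cs ∧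
        LinearMap.det A = detKey cs ∧ (∀ j, A (B j) = ∑ i : Fin n, blk cs i j • B i) ∧
        ∀ c₀ : List K, aeval A (colPoly c₀) = 0 →
          Chain (c₀ :: cs) ∧ ∀ c ∈ cs, c.length ≤ c₀.length := by
  induction n using Nat.strong_induction_on with
  | _ n ih =>
    intro V _ _ _ hV A
    rcases Nat.eq_zero_or_pos n with rfl | hn
    · exact ⟨[], Module.finBasisOfFinrankEq K V hV, by simp, rfl, by simp, trivial,
        LinearMap.det_eq_one_of_finrank_eq_zero hV A, fun j => j.elim0,
        fun c₀ _ => ⟨trivial, by simp⟩⟩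
    obtain ⟨c, W, U, b, hU, hc0, hcompl, hb, hkill, hmin⟩ :=
      exists_cyclic_summand A (hV ▸ hn)
    have hWd : finrank K W = c.length := by
      rw [Module.finrank_eq_card_basis b, Fintype.card_fin]
    obtain ⟨m, hm⟩ : ∃ m, finrank K U = m := ⟨_, rfl⟩
    have hsum := Submodule.finrank_add_eq_of_isCompl hcompl
    obtain rfl : n = c.length + m := by omega
    let AU : End K U := A.restrict hU
    obtain ⟨cs, BU, hpos, hlen, hsort, hch, hdet, hBU, hinv⟩ := ih m (by omega) hm AU
    have hrest : ∀ p : K[X], aeval A p = 0 → aeval AU p = 0 := fun p hp =>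
      LinearMap.ext fun u => U.injective_subtype (by
        rw [aeval_intertwine U.subtype AU A (fun _ => rfl), hp]; simp)
    obtain ⟨hch', hle⟩ := hinv c (hrest _ hkill)
    have hW : ∀ w ∈ W, A w ∈ W := by
      intro w hw
      have h2 : ∀ i, A (b i : V) ∈ W := fun i => by
        rw [hb]; exact sum_mem fun k _ => W.smul_mem _ (b k).2
      rw [show w = ((∑ i, b.repr ⟨w, hw⟩ i • b i : W) : V) by rw [b.sum_repr]]
      rw [Submodule.coe_sum, map_sum]
      exact sum_mem fun i _ => by rw [Submodule.coe_smul, map_smul]; exact W.smul_mem _ (h2 i)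
    let φ := W.prodEquivOfIsCompl U hcompl
    let B : Basis (Fin (c.length + m)) K V := ((b.prod BU).map φ).reindex finSumFinEquiv
    have hB1 : ∀ i, B (Fin.castAdd m i) = (b i : V) := fun i => by simp [B, φ]
    have hB2 : ∀ i, B (Fin.natAdd c.length i) = (BU i : V) := fun i => by simp [B, φ]
    refine ⟨c :: cs, B, ?_, ?_, ?_, hch', ?_, ?_, ?_⟩
    · simpa using ⟨hc0, hpos⟩
    · simp [hlen]
    · simp only [List.map_cons, List.pairwise_cons, List.mem_map]
      exact ⟨by rintro _ ⟨c', hc', rfl⟩; exact hle c' hc', hsort⟩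
    · have hA : A = φ.conj (LinearMap.prodMap (A.restrict hW) AU) := LinearMap.ext fun v => by
        obtain ⟨x, rfl⟩ := φ.surjective v
        rw [LinearEquiv.conj_apply_apply, φ.symm_apply_apply]
        simp [φ, AU, Submodule.coe_prodEquivOfIsCompl']
      rw [hA, det_equivConj, LinearMap.det_prodMap, hdet, detKey]
      congr 1
      rw [← det_comp c hc0, ← LinearMap.det_toMatrix b]
      congr 1
      ext i j
      rw [LinearMap.toMatrix_apply, show (A.restrict hW) (b j) = ∑ k, comp c k j • b k from
        Subtype.ext (by simp [hb])]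
      simp [Finsupp.single_apply]
    · intro j
      rw [Fin.sum_univ_add]
      induction j using Fin.addCases with
      | left j =>
        simp only [blk_castAdd, blk_right, zero_smul, Finset.sum_const_zero, add_zero, hB1, hb]
      | right j =>
        simp only [blk_left, blk_natAdd, zero_smul, Finset.sum_const_zero, zero_add, hB2]
        have := congrArg Subtype.val (hBU j)
        simpa [AU, Submodule.coe_sum] using this
    · intro c₀ h0
      have hd : c.length ≤ c₀.length := by
        have := natDegree_le_of_dvd (minpoly.dvd K A h0) (fun h => by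
          have hz : (colPoly c₀).coeff c₀.length = 0 := by rw [h, coeff_zero]
          simp [colPoly, finsetSum_coeff, coeff_C_mul, coeff_X_pow] at hz
          rw [Finset.sum_eq_zero fun i _ => by rw [if_neg (by omega)]] at hz
          simp at hz)
        rwa [hmin, natDegree_colPoly, natDegree_colPoly] at this
      refine ⟨⟨killMat_eq_zero c₀ h0 (comp c) (fun i => (b i : V))
        (b.linearIndependent.map' W.subtype W.ker_subtype) hb, hch'⟩, ?_⟩
      simpa using ⟨hd, fun c' hc' => (hle c' hc').trans hd⟩

end CfsgLib.KnownB.OreOmega
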