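import Cfsg.Agent.Lib.KnownB.OreOmega.ThreeSep
import Cfsg.Agent.Lib.KnownB.Sourour.Three

/-!
Twists without centraliser data, with a polynomial avoiding inverse roots.
-/

set_option autoImplicit false

namespace CfsgLib.KnownB.OreOmega

open Module Polynomial CfsgLib.KnownB.Sourour

variable {K V V' : Type*} [Field K] [AddCommGroup V] [Module K V] [AddCommGroup V'] [Module K V']

/-- `A = L * (e L⁻¹ e⁻¹)`. -/
structure Tw (A : End K V) where
  L : End K V
  Li : End K V
  h1 : L * Li = 1
  h2 : Li * L = 1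
  e : V ≃ₗ[K] V
  hA : A = L * e.conj Li

/-- A twist killed by `P` with `det L = d` and `det e = 1`. -/
def GoodAt (P : K[X]) (A : End K V) (d : K) : Prop :=
  ∃ T : Tw A, aeval T.L P = 0 ∧ LinearMap.det T.L = d ∧ LinearMap.det T.e.toLinearMap = 1

/-- A twist killed by a polynomial avoiding inverse roots. -/
def Good (A : End K V) (d : K) : Prop :=
  ∃ P : K[X], Sep P ∧ P.natDegree ≤ finrank K V ∧ GoodAt P A d

theorem det_equiv_comp (a b : V ≃ₗ[K] V) :
    LinearMap.det (a ≪≫ₗ b).toLinearMap =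
      LinearMap.det b.toLinearMap * LinearMap.det a.toLinearMap := by
  rw [← LinearMap.det_comp]
  rfl

/-- Changing `e` by an element commuting with `L`. -/
theorem Tw.normalise [FiniteDimensional K V] {A : End K V} (T : Tw A)
    (hfix : ∀ d : K, d ≠ 0 → ∃ z : End K V, LinearMap.det z = d ∧ z * T.L = T.L * z) :
    ∃ T' : Tw A, T'.L = T.L ∧ LinearMap.det T'.e.toLinearMap = 1 := by
  have he : LinearMap.det T.e.toLinearMap ≠ 0 := (LinearEquiv.isUnit_det' T.e).ne_zero
  obtain ⟨z, hzd, hzc⟩ := hfix _ (inv_ne_zero he)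
  have hz : Function.Bijective z := (Module.End.isUnit_iff z).1
    ((LinearMap.isUnit_iff_isUnit_det z).2 (by rw [hzd]; exact (inv_ne_zero he).isUnit))
  let z' := LinearEquiv.ofBijective z hz
  have hzi : ∀ v, T.Li (z' v) = z' (T.Li v) := fun v => by
    have h := LinearMap.congr_fun hzc (T.Li v)
    have h2 := LinearMap.congr_fun T.h1 v
    rw [Module.End.mul_apply, Module.End.mul_apply] at h
    rw [Module.End.mul_apply, Module.End.one_apply] at h2
    rw [h2] at h
    change T.Li (z v) = z (T.Li v)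
    rw [h, ← Module.End.mul_apply T.Li, T.h2, Module.End.one_apply]
  refine ⟨⟨T.L, T.Li, T.h1, T.h2, z' ≪≫ₗ T.e, ?_⟩, rfl, ?_⟩
  · have : (z' ≪≫ₗ T.e).conj T.Li = T.e.conj T.Li := LinearMap.ext fun v => by
      simp only [LinearEquiv.conj_apply_apply, LinearEquiv.trans_apply,
        LinearEquiv.symm_trans_apply]
      rw [← hzi, z'.apply_symm_apply]
    rw [this]
    exact T.hA
  · rw [det_equiv_comp, show LinearMap.det z'.toLinearMap = LinearMap.det z from rfl, hzd,
      mul_inv_cancel₀ he]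

/-- Transport. -/
def Tw.map {A : End K V} (T : Tw A) (φ : V ≃ₗ[K] V') : Tw (φ.conj A) where
  L := φ.conj T.L
  Li := φ.conj T.Li
  h1 := by rw [← Sourour.conj_mul, T.h1, Sourour.conj_one]
  h2 := by rw [← Sourour.conj_mul, T.h2, Sourour.conj_one]
  e := φ.symm ≪≫ₗ T.e ≪≫ₗ φ
  hA := by rw [← conj_conj, ← Sourour.conj_mul, ← T.hA]

theorem Tw.det_map {A : End K V} (T : Tw A) (φ : V ≃ₗ[K] V') :
    LinearMap.det (T.map φ).e.toLinearMap = LinearMap.det T.e.toLinearMap := by
  rw [← det_equivConj φ T.e.toLinearMap]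
  congr 1

theorem Tw.map_aeval {A : End K V} (T : Tw A) (φ : V ≃ₗ[K] V') (p : K[X])
    (h : aeval T.L p = 0) : aeval (T.map φ).L p = 0 := by
  refine LinearMap.ext fun v => ?_
  have hi : ∀ u, φ.toLinearMap (T.L u) = (T.map φ).L (φ.toLinearMap u) := fun u => by
    simp [Tw.map, LinearEquiv.conj_apply_apply]
  have := aeval_intertwine φ.toLinearMap T.L (T.map φ).L hi p (φ.symm v)
  rw [h, LinearMap.zero_apply, map_zero] at this
  simpa using this.symm

theorem GoodAt.map {P : K[X]} {A : End K V} {d : K} (h : GoodAt P A d) (φ : V ≃ₗ[K] V') :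
    GoodAt P (φ.conj A) d := by
  obtain ⟨T, h1, h2, h3⟩ := h
  exact ⟨T.map φ, T.map_aeval φ P h1, (det_equivConj φ T.L).trans h2, (T.det_map φ).trans h3⟩

/-- Negating both factors. -/
def Tw.neg {A : End K V} (T : Tw A) : Tw A where
  L := -T.L
  Li := -T.Li
  h1 := by rw [neg_mul_neg, T.h1]
  h2 := by rw [neg_mul_neg, T.h2]
  e := T.e
  hA := by rw [map_neg, neg_mul_neg]; exact T.hA

theorem Good.neg [FiniteDimensional K V] {A : End K V} {d : K} (h : Good A d) :
    Good A ((-1) ^ finrank K V * d) := by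
  obtain ⟨P, hs, hd, T, h1, h2, h3⟩ := h
  refine ⟨P.comp (-X), hs.neg, ?_, T.neg, aeval_neg_comp h1, ?_, h3⟩
  · rwa [natDegree_comp, natDegree_neg, natDegree_X, mul_one]
  · change LinearMap.det (-T.L) = _
    rw [← neg_one_smul K T.L, LinearMap.det_smul, h2]

theorem GoodAt.good {P : K[X]} {A : End K V} {d : K} (h : GoodAt P A d) (hs : Sep P)
    (hd : P.natDegree ≤ finrank K V) : Good A d :=
  ⟨P, hs, hd, h⟩

section peel

variable {W U : Type*} [AddCommGroup W] [Module K W] [AddCommGroup U] [Module K U]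
  [FiniteDimensional K W] [FiniteDimensional K U] {c : K}

/-- Extending a twist by a block with centraliser data. -/
theorem peelTw (hc0 : c ≠ 0) (β : Block K W c)
    (hfix : ∀ d : K, d ≠ 0 → ∃ z : End K W, LinearMap.det z = d ∧ z * β.B = β.B * z)
    (p : U →ₗ[K] W) (b : W →ₗ[K] U) (R : End K U) (T : Tw (R - c⁻¹ • (b ∘ₗ p)))
    (hinj : Function.Injective (aeval T.L β.g)) :
    ∃ T' : Twist (blockMap c p b R),
      LinearMap.det T'.L = LinearMap.det β.B * LinearMap.det T.L ∧
        ∀ P : K[X], aeval T.L P = 0 → aeval T'.L (β.g * P) = 0 := by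
  have b1 : ∀ w, β.B (β.Bi w) = w := fun w => LinearMap.congr_fun β.h1 w
  have b2 : ∀ w, β.Bi (β.B w) = w := fun w => LinearMap.congr_fun β.h2 w
  have l1 : ∀ u, T.L (T.Li u) = u := fun w => LinearMap.congr_fun T.h1 w
  have l2 : ∀ u, T.Li (T.L u) = u := fun w => LinearMap.congr_fun T.h2 w
  -- the lower shear
  obtain ⟨Z, hZ⟩ := exists_sylvester (fun Z h => intertwiner_eq_zero β.hg hinj Z h)
    (c⁻¹ • (b ∘ₗ β.B) : W →ₗ[K] U)
  -- the upper shear
  obtain ⟨Y, hY⟩ := exists_sylvester (B := T.e.conj T.Li) (L := c • β.Bi) (fun Y h => by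
    have h0 : (β.e.symm.toLinearMap ∘ₗ Y ∘ₗ T.e.toLinearMap) = 0 := by
      refine intertwiner_eq_zero' β.hg hinj _ fun u => ?_
      have := h (T.e (T.L u))
      rw [β.hc, LinearEquiv.conj_apply_apply, LinearEquiv.conj_apply_apply,
        T.e.symm_apply_apply, l2] at this
      simp only [LinearMap.comp_apply, LinearEquiv.coe_coe]
      rw [this, β.e.symm_apply_apply, b1]
    refine LinearMap.ext fun u => ?_
    have := LinearMap.congr_fun h0 (T.e.symm u)
    simpa using this) (β.Bi ∘ₗ p : U →ₗ[K] W)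
  let P := shearDown Z
  let Q := shearUp Y
  let D : End K (W × U) := LinearMap.prodMap β.B T.L
  let Di : End K (W × U) := LinearMap.prodMap β.Bi T.Li
  let E : (W × U) ≃ₗ[K] (W × U) := LinearEquiv.prodCongr β.e T.e
  refine ⟨⟨P.conj D, P.conj Di, ?_, ?_, P.symm ≪≫ₗ E ≪≫ₗ Q, ?_, ?_⟩, ?_, ?_⟩
  · rw [← Sourour.conj_mul]
    refine Eq.trans (congrArg P.conj (LinearMap.ext fun x => ?_)) (Sourour.conj_one P)
    exact Prod.ext (b1 _) (l1 _)
  · rw [← Sourour.conj_mul]
    refine Eq.trans (congrArg P.conj (LinearMap.ext fun x => ?_)) (Sourour.conj_one P)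
    exact Prod.ext (b2 _) (l2 _)
  · refine LinearMap.ext fun x => ?_
    have hcB : ∀ w, β.e (β.Bi (β.e.symm w)) = c • β.Bi w := fun w => by
      rw [← LinearEquiv.conj_apply_apply, ← β.hc, LinearMap.smul_apply]
    have hL : ∀ y : W × U, P.conj D y = (β.B y.1, c⁻¹ • b (β.B y.1) + T.L y.2) := fun y => by
      refine Prod.ext ?_ ?_
      · simp [P, D, LinearEquiv.conj_apply_apply]
      · have := hZ y.1
        simp only [LinearMap.smul_apply, LinearMap.comp_apply] at this
        simp [P, D, LinearEquiv.conj_apply_apply, ← this]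
        abel
    have hU : (P.symm ≪≫ₗ E ≪≫ₗ Q).conj (P.conj Di) x =
        (c • β.Bi x.1 + β.Bi (p x.2), T.e.conj T.Li x.2) := by
      have := hY x.2
      simp only [LinearMap.smul_apply, LinearMap.comp_apply] at this
      refine Prod.ext ?_ ?_
      · simp only [P, Q, E, Di, LinearEquiv.conj_apply_apply, LinearEquiv.trans_apply,
          LinearEquiv.symm_trans_apply, LinearEquiv.symm_symm, shearDown_apply,
          shearDown_symm_apply, shearUp_apply, shearUp_symm_apply, LinearEquiv.prodCongr_apply,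
          LinearEquiv.prodCongr_symm, LinearMap.prodMap_apply, add_sub_cancel_right]
        rw [hcB, ← this, LinearEquiv.conj_apply_apply, map_sub, smul_sub]
        abel
      · simp [P, Q, E, Di, LinearEquiv.conj_apply_apply]
    rw [Module.End.mul_apply, hU, hL, blockMap_apply]
    have hM : T.L (T.e.conj T.Li x.2) = R x.2 - c⁻¹ • b (p x.2) :=
      (LinearMap.congr_fun T.hA x.2).symm
    refine Prod.ext ?_ ?_
    · simp [map_add, map_smul, b1]
    · simp only [map_add, map_smul, b1, hM, smul_smul, inv_mul_cancel₀ hc0, one_smul, smul_add]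
      abel
  · intro d hd
    obtain ⟨z, hzd, hzc⟩ := hfix d hd
    refine ⟨P.conj (LinearMap.prodMap z LinearMap.id), ?_, ?_⟩
    · rw [det_equivConj, LinearMap.det_prodMap, LinearMap.det_id, mul_one, hzd]
    · rw [← Sourour.conj_mul, ← Sourour.conj_mul]
      congr 1
      exact LinearMap.ext fun x => Prod.ext (LinearMap.congr_fun hzc x.1) rfl
  · change LinearMap.det (P.conj D) = _
    rw [det_equivConj, LinearMap.det_prodMap]
  · intro S hS
    change aeval (P.conj D) (β.g * S) = 0
    refine LinearMap.ext fun x => ?_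
    have hi : ∀ y, P.toLinearMap (D y) = (P.conj D) (P.toLinearMap y) := fun y => by
      simp [LinearEquiv.conj_apply_apply]
    have h1 := aeval_intertwine P.toLinearMap D (P.conj D) hi (β.g * S) (P.symm x)
    have h2 : aeval D (β.g * S) (P.symm x) = 0 := by
      refine Prod.ext ?_ ?_
      · rw [← LinearMap.fst_apply (R := K) (M := W) (M₂ := U) (aeval D (β.g * S) (P.symm x)),
          aeval_intertwine (LinearMap.fst K W U) D β.B (fun _ => rfl), map_mul, β.hg, zero_mul]
        rfl
      · rw [← LinearMap.snd_apply (R := K) (M := W) (M₂ := U) (aeval D (β.g * S) (P.symm x)),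
          aeval_intertwine (LinearMap.snd K W U) D T.L (fun _ => rfl), map_mul, hS, mul_zero]
        rfl
    rw [h2, map_zero, LinearEquiv.coe_coe, P.apply_symm_apply] at h1
    rw [← h1]
    rfl

end peel

/-- A block with centraliser data and a polynomial coprime to the old one extends a good twist. -/
theorem GoodAt.peel [FiniteDimensional K V] {A : End K V} {c : K} (hc : c ≠ 0)
    (W U : Submodule K V) (hcompl : IsCompl W U) (p : U →ₗ[K] W) (b : W →ₗ[K] U) (R : End K U)
    (hA : A = (W.prodEquivOfIsCompl U hcompl).conj (blockMap c p b R))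
    {G : Type*} [AddCommGroup G] [Module K G] [FiniteDimensional K G] (β : Block K G c)
    (hfix : ∀ d : K, d ≠ 0 → ∃ z : End K G, LinearMap.det z = d ∧ z * β.B = β.B * z)
    (hG : finrank K G = finrank K W) {P : K[X]} {d : K} (hM : GoodAt P (R - c⁻¹ • (b ∘ₗ p)) d)
    (hco : IsCoprime β.g P) : GoodAt (β.g * P) A (LinearMap.det β.B * d) := by
  obtain ⟨T, hP, hd, -⟩ := hM
  let ψ := LinearEquiv.ofFinrankEq G W hG
  have hinj : Function.Injective (aeval T.L β.g) := by
    obtain ⟨u, v, huv⟩ := hco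
    have h1 : aeval T.L u * aeval T.L β.g = 1 := by
      rw [← map_mul, show u * β.g = 1 - v * P by rw [← huv]; ring, map_sub, map_one,
        map_mul, hP, mul_zero, sub_zero]
    exact Function.LeftInverse.injective (g := aeval T.L u) fun w => LinearMap.congr_fun h1 w
  obtain ⟨T', h1, h2⟩ := peelTw hc (β.map ψ) (fun e he => by
    obtain ⟨z, hz, hzc⟩ := hfix e he
    refine ⟨ψ.conj z, by rw [det_equivConj, hz], ?_⟩
    change ψ.conj z * ψ.conj β.B = ψ.conj β.B * ψ.conj z
    rw [← Sourour.conj_mul, hzc, Sourour.conj_mul]) p b R T hinj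
  subst hA
  obtain ⟨T'', hL, he⟩ := Tw.normalise (A := blockMap c p b R)
    ⟨T'.L, T'.Li, T'.h1, T'.h2, T'.e, T'.hA⟩ T'.fix
  refine GoodAt.map ⟨T'', ?_, ?_, he⟩ _
  · rw [hL]; exact h2 P hP
  · rw [hL, h1, hd]
    congr 1
    exact det_equivConj ψ β.B

end CfsgLib.KnownB.OreOmega
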