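import Cfsg.Agent.Lib.KnownB.OreOmega.ThreeCheck
import Cfsg.Agent.Lib.KnownB.OreOmega.ThreeSplit
import Cfsg.Agent.Lib.KnownB.OreOmega.ThreeTw

/-!
Dimensions three to six over the field with three elements.
-/

set_option autoImplicit false

namespace CfsgLib.KnownB.OreOmega

open Module Polynomial CfsgLib.KnownB.Sourour CfsgLib.KnownB.OreSp

theorem mem_parts : ∀ (l : List ℕ) (fuel n m : ℕ), (∀ x ∈ l, 0 < x ∧ x ≤ m) →
    l.Pairwise (· ≥ ·) → l.sum = n → n ≤ fuel → l ∈ parts fuel n m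
  | [], fuel, n, m, _, _, hs, _ => by
    subst hs
    cases fuel <;> simp [parts]
  | a :: l, fuel, n, m, hm, hp, hs, hf => by
    obtain ⟨ha, ham⟩ := hm a List.mem_cons_self
    rw [List.sum_cons] at hs
    obtain ⟨fuel, rfl⟩ : ∃ k, fuel = k + 1 := ⟨fuel - 1, by omega⟩
    rw [parts, if_neg (by omega), List.mem_flatMap]
    obtain ⟨a, rfl⟩ : ∃ k, a = k + 1 := ⟨a - 1, by omega⟩
    refine ⟨a, by simp only [List.mem_reverse, List.mem_range]; omega, List.mem_map.2 ⟨l, ?_, rfl⟩⟩
    rw [List.pairwise_cons] at hp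
    exact mem_parts l fuel _ (a + 1) (fun x hx => ⟨(hm x (List.mem_cons_of_mem _ hx)).1, hp.1 x hx⟩)
      hp.2 (by omega) (by omega)

theorem mem_allC : ∀ c : List (ZMod 3), c ∈ allC c.length
  | [] => by simp [allC]
  | a :: c => by
    rw [List.length_cons, allC, List.mem_flatMap]
    exact ⟨a, by revert a; decide, List.mem_map.2 ⟨c, mem_allC c, rfl⟩⟩

theorem mem_allCs : ∀ cs : List (List (ZMod 3)), cs ∈ allCs (cs.map List.length)
  | [] => by simp [allCs]
  | c :: cs => by
    rw [List.map_cons, allCs, List.mem_flatMap]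
    exact ⟨c, mem_allC c, List.mem_map.2 ⟨cs, mem_allCs cs, rfl⟩⟩

theorem chainB_of_chain : ∀ cs : List (List (ZMod 3)), Chain cs → chainB cs = true
  | [], _ => rfl
  | [_], _ => rfl
  | a :: b :: cs, h => by
    rw [chainB, Bool.and_eq_true, decide_eq_true_eq]
    exact ⟨h.1, chainB_of_chain _ h.2⟩

theorem chkAll_spec (n : ℕ) (Ls : List ℕ) (skip : List (List (List (ZMod 3)))) :
    ∀ (ks : List (List (List (ZMod 3)))) (ts : List (Option Cert)),
      chkAll n Ls skip ks ts = true → ∀ k ∈ ks,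
        (∃ c, some c ∈ ts ∧ chk n Ls k c = true) ∨ k ∈ skip
  | [], _, _, k, hk => by simp at hk
  | _ :: _, [], h, _, _ => by simp [chkAll] at h
  | a :: ks, t :: ts, h, k, hk => by
    rcases List.mem_cons.1 hk with rfl | hk
    · cases t with
      | none =>
        simp only [chkAll, Bool.and_eq_true, List.contains_iff_mem] at h
        exact Or.inr h.1
      | some c =>
        simp only [chkAll, Bool.and_eq_true] at h
        exact Or.inl ⟨c, List.mem_cons_self, h.1⟩
    · have h' : chkAll n Ls skip ks ts = true := by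
        cases t <;> simp only [chkAll, Bool.and_eq_true] at h <;> exact h.2
      rcases chkAll_spec n Ls skip ks ts h' k hk with ⟨c, hc, hc'⟩ | h''
      · exact Or.inl ⟨c, List.mem_cons_of_mem _ hc, hc'⟩
      · exact Or.inr h''

theorem detOK_spec (n l₀ : ℕ) : ∀ (ts : List (Option Cert)), detOK n l₀ ts = true →
    ∀ l X S Si e ei, some (l, X, S, Si, e, ei) ∈ ts → l = l₀ → (dec n e).det = 1
  | [], _, _, _, _, _, _, _, h, _ => by simp at h
  | none :: ts, h, l, X, S, Si, e, ei, hm, hl => by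
    rw [List.mem_cons] at hm
    exact detOK_spec n l₀ ts h l X S Si e ei (hm.resolve_left (by simp)) hl
  | some (a, b, c, d, f, g) :: ts, h, l, X, S, Si, e, ei, hm, hl => by
    simp only [detOK, Bool.and_eq_true] at h
    rcases List.mem_cons.1 hm with hm | hm
    · simp only [Option.some.injEq, Prod.mk.injEq] at hm
      obtain ⟨rfl, -, -, -, rfl, -⟩ := hm
      simpa [hl] using h.1
    · exact detOK_spec n l₀ ts h.2 l X S Si e ei hm hl

/-- What is needed of a class. -/
def ClassOK (n L : ℕ) (dfix : Prop) (P : (ZMod 3)[X]) (d : ZMod 3) : Prop :=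
  aeval (dec n L) P = 0 ∧ (dec n L).det = d ∧ d ≠ 0 ∧
    (dfix ∨ ∃ q : (ZMod 3)[X], (aeval (dec n L) q).det = -1)

/-- A certificate gives a twist. -/
theorem goodAt_of_chk {n : ℕ} {Ls : List ℕ} {cs : List (List (ZMod 3))}
    {l X S Si e ei : ℕ} (h : chk n Ls cs (l, X, S, Si, e, ei) = true) {P : (ZMod 3)[X]} {d : ZMod 3}
    (hL : ClassOK n (Ls.getD l 0) ((dec n e).det = 1) P d) :
    GoodAt P (Matrix.toLin' (blkM n cs)) d := by
  obtain ⟨-, h1, h2, h3, h4⟩ := chk_spec h
  obtain ⟨hP, hd, hd0, hfix⟩ := hL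
  set L₀ := dec n (Ls.getD l 0)
  have hSd : IsUnit (dec n S).det :=
    (Matrix.isUnit_iff_isUnit_det _).1 (IsUnit.of_mul_eq_one _ h3)
  have hX : (dec n X).det = d := by
    have := congrArg Matrix.det h2
    rw [Matrix.det_mul, Matrix.det_mul, mul_comm (dec n S).det, hd] at this
    exact hSd.mul_left_injective this
  have hsemi : ∀ p : (ZMod 3)[X], aeval (dec n X) p * dec n S = dec n S * aeval L₀ p :=
    fun p => (OreSp.aeval_semiconj h2.symm p).symm
  have hdet : ∀ p : (ZMod 3)[X], (aeval (dec n X) p).det = (aeval L₀ p).det := fun p => by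
    have := congrArg Matrix.det (hsemi p)
    rw [Matrix.det_mul, Matrix.det_mul, mul_comm (dec n S).det] at this
    exact hSd.mul_left_injective this
  have hXP : aeval (dec n X) P = 0 := by
    have := hsemi P
    rw [hP, mul_zero] at this
    exact ((Matrix.isUnit_iff_isUnit_det _).2 hSd).mul_left_eq_zero.1 this
  have hXu : IsUnit (dec n X).det := hX ▸ hd0.isUnit
  have hee : dec n ei * dec n e = 1 := mul_eq_one_comm.1 h4
  let E : (Fin n → ZMod 3) ≃ₗ[ZMod 3] (Fin n → ZMod 3) :=
    LinearEquiv.ofLinearMap (Matrix.toLin' (dec n e)) (Matrix.toLin' (dec n ei))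
      (by rw [← Matrix.toLin'_mul, h4, Matrix.toLin'_one])
      (by rw [← Matrix.toLin'_mul, hee, Matrix.toLin'_one])
  have hA : blkM n cs = dec n X * (dec n e * (dec n X)⁻¹ * dec n ei) := by
    have h5 : blkM n cs = dec n X * dec n e * ((dec n X)⁻¹ * dec n ei) := by
      rw [← h1]
      simp only [Matrix.mul_assoc]
      rw [Matrix.mul_nonsing_inv_cancel_left _ _ hXu, h4, Matrix.mul_one]
    rw [h5]
    simp only [Matrix.mul_assoc]
  let T : Tw (Matrix.toLin' (blkM n cs)) :=
    ⟨Matrix.toLin' (dec n X), Matrix.toLin' (dec n X)⁻¹,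
      by rw [Module.End.mul_eq_comp, ← Matrix.toLin'_mul, Matrix.mul_nonsing_inv _ hXu,
        Matrix.toLin'_one]; rfl,
      by rw [Module.End.mul_eq_comp, ← Matrix.toLin'_mul, Matrix.nonsing_inv_mul _ hXu,
        Matrix.toLin'_one]; rfl, E,
      LinearMap.ext fun v => by
        rw [Module.End.mul_apply, LinearEquiv.conj_apply_apply, hA]
        change _ = Matrix.toLin' (dec n X) (Matrix.toLin' (dec n e)
          (Matrix.toLin' (dec n X)⁻¹ (Matrix.toLin' (dec n ei) v)))
        simp only [Matrix.toLin'_apply, Matrix.mulVec_mulVec, Matrix.mul_assoc]⟩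
  have haev : ∀ p : (ZMod 3)[X], aeval T.L p = Matrix.toLin' (aeval (dec n X) p) := fun p =>
    Polynomial.aeval_algHom_apply (Matrix.toLinAlgEquiv'.toAlgHom) (dec n X) p
  have hL0 : aeval T.L P = 0 := by rw [haev, hXP, map_zero]
  have hLd : LinearMap.det T.L = d := by
    change LinearMap.det (Matrix.toLin' (dec n X)) = d
    rw [LinearMap.det_toLin', hX]
  rcases hfix with he | ⟨q, hq⟩
  · exact ⟨T, hL0, hLd, by
      change LinearMap.det (Matrix.toLin' (dec n e)) = 1
      rw [LinearMap.det_toLin', he]⟩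
  · obtain ⟨T', hT', he⟩ := T.normalise fun a ha => by
      rcases (show ∀ x : ZMod 3, x ≠ 0 → x = 1 ∨ x = -1 by decide) a ha with rfl | rfl
      · exact ⟨1, map_one _, by rw [one_mul, mul_one]⟩
      · refine ⟨aeval T.L q, ?_, ?_⟩
        · rw [haev, LinearMap.det_toLin', hdet, hq]
        · have := congrArg (aeval T.L) (mul_comm q (Polynomial.X : (ZMod 3)[X]))
          rwa [map_mul, map_mul, aeval_X] at this
    exact ⟨T', by rw [hT']; exact hL0, by rw [hT']; exact hLd, he⟩

variable {V : Type} [AddCommGroup V] [Module (ZMod 3) V] [FiniteDimensional (ZMod 3) V]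

/-- Using a table. -/
theorem goodAt_of_table {n : ℕ} (hV : finrank (ZMod 3) V = n) (A : End (ZMod 3) V)
    (hdet : LinearMap.det A = 1) {Ls : List ℕ} {skip : List (List (List (ZMod 3)))}
    {ts : List (Option Cert)} (hchk : chkAll n Ls skip (keys n) ts = true) :
    (∃ l X S Si e ei, l < Ls.length ∧ some (l, X, S, Si, e, ei) ∈ ts ∧
      ∀ P d, ClassOK n (Ls.getD l 0) ((dec n e).det = 1) P d → GoodAt P A d) ∨
      ∃ cs ∈ skip, ∃ B : Basis (Fin n) (ZMod 3) V,
        A = B.equivFun.symm.conj (Matrix.toLin' (blkM n cs)) := by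
  obtain ⟨cs, B, hpos, hsum, hsort, hch, hd, hB, -⟩ := exists_form n hV A
  have hA : A = B.equivFun.symm.conj (Matrix.toLin' (blkM n cs)) :=
    conj_toMatrix B A _ fun j => hB j
  have hk : cs ∈ keys n := by
    refine List.mem_filter.2 ⟨List.mem_flatMap.2 ⟨_, ?_, mem_allCs cs⟩, ?_⟩
    · refine mem_parts _ n n n (fun x hx => ?_) hsort hsum le_rfl
      obtain ⟨c, hc, rfl⟩ := List.mem_map.1 hx
      exact ⟨hpos c hc, hsum ▸ List.single_le_sum (fun _ _ => Nat.zero_le _) _
        (List.mem_map_of_mem hc)⟩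
    · rw [Bool.and_eq_true, decide_eq_true_eq, ← hd]
      exact ⟨hdet, chainB_of_chain cs hch⟩
  rcases chkAll_spec n Ls skip _ ts hchk cs hk with ⟨⟨l, X, S, Si, e, ei⟩, hm, hc⟩ | hs
  · exact Or.inl ⟨l, X, S, Si, e, ei, (chk_spec hc).1, hm, fun P d hP =>
      hA ▸ (goodAt_of_chk hc hP).map _⟩
  · exact Or.inr ⟨cs, hs, B, hA⟩

end CfsgLib.KnownB.OreOmega
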