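import Cfsg.Agent.Lib.KnownB.OreOmega.ThreeKeys

/-!
Certificates in dimension 4 over the field with three elements.
-/

set_option autoImplicit false

namespace CfsgLib.KnownB.OreOmega

/-- Companion matrices of the classes used. -/
def fourQClasses : List ℕ := [4804947]

/-- One certificate for each normal form. -/
def fourQTable : List (Option Cert) := [
  some (0, 42672388, 25019821, 11529157, 5264722, 6025799),
  some (0, 32933121, 34906766, 1871193, 33480336, 36433901),
  some (0, 23498062, 39481243, 8593192, 27462397, 9890277),
  some (0, 10610262, 5501173, 30434172, 39122559, 2688990),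
  some (0, 24968872, 26115647, 23160773, 38608469, 39958561),
  some (0, 5356361, 16449641, 20544069, 4482689, 33526642),
  some (0, 36972146, 19758959, 34388819, 40437881, 12676681),
  some (0, 8707708, 9128938, 30144892, 29387219, 39464921),
  some (0, 13269152, 18839681, 34206726, 26323799, 41364520),
  some (0, 42713540, 14638754, 14879405, 20578865, 41002397),
  some (0, 41011249, 37573426, 8574431, 1967722, 38121637),
  some (0, 1461822, 2964926, 11254466, 3469180, 17292617),
  some (0, 12945544, 34363715, 8928852, 41763102, 42179498),
  some (0, 4726085, 22045306, 40426272, 8872539, 20569852),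
  some (0, 13395467, 28653853, 14092697, 14836434, 14738542),
  some (0, 16830838, 2810517, 18368968, 20602711, 7957712),
  some (0, 8223804, 22523294, 42571816, 16269818, 26199510),
  some (0, 11907896, 22284844, 18277660, 9757325, 24802480),
  some (0, 4097883, 12152254, 27196266, 25332925, 9844536),
  some (0, 11071618, 14507751, 14480233, 36857604, 11630166),
  some (0, 19948235, 40500755, 13096623, 2863568, 24893308),
  some (0, 17048931, 40111601, 9236621, 8530789, 10140711),
  some (0, 42108737, 1741169, 30556786, 5270304, 7623871),
  some (0, 21894835, 12897490, 22560382, 13749907, 12449632),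
  some (0, 8254765, 42164259, 5066043, 4686966, 40895677),
  some (0, 39131554, 35208375, 29925779, 35329723, 11611673),
  some (0, 10453956, 42277495, 41297858, 24421021, 34261293),
  some (0, 37868389, 36162188, 7158796, 23587428, 32528866),
  some (0, 20212484, 1382180, 39004713, 31324935, 38033094),
  some (0, 23768348, 10336389, 41265610, 3121077, 37908856),
  some (0, 12939389, 14323556, 40427345, 25126377, 37958068),
  some (0, 14313851, 8256486, 29818216, 25100259, 3307218),
  some (0, 23983402, 26854396, 38634738, 3854470, 21030410),
  some (0, 23169491, 1914257, 14108384, 26014239, 41211367),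
  some (0, 30542325, 36306931, 38431219, 35683848, 561028),
  some (0, 31013633, 36799425, 12852941, 11061073, 15012847),
  some (0, 31156483, 18019724, 35714819, 35055604, 29817240),
  some (0, 40089056, 34837613, 38006772, 16097365, 8881148),
  some (0, 34627327, 26850462, 6078304, 16390300, 37056097),
  some (0, 3636580, 12789938, 33060623, 5903588, 15636733),
  none,
  some (0, 35871927, 17829687, 4630548, 30693243, 37924015),
  none]

end CfsgLib.KnownB.OreOmega
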