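import Cfsg.Agent.Lib.KnownB.OreOmega.ThreeFourData
import Cfsg.Agent.Lib.KnownB.OreOmega.ThreeFourQData
import Cfsg.Agent.Lib.KnownB.OreOmega.ThreeFiveData
import Cfsg.Agent.Lib.KnownB.OreOmega.ThreeSixData

/-!
The tables are checked in the kernel.
-/

set_option autoImplicit false
set_option maxRecDepth 100000

namespace CfsgLib.KnownB.OreOmega

theorem chkAll_append (n : ℕ) (Ls : List ℕ) (skip : List (List (List (ZMod 3)))) :
    ∀ (ks ks' : List (List (List (ZMod 3)))) (ts ts' : List (Option Cert)),
      chkAll n Ls skip ks ts = true → chkAll n Ls skip ks' ts' = true →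
        chkAll n Ls skip (ks ++ ks') (ts ++ ts') = true
  | [], _, [], _, _, h' => h'
  | [], _, _ :: _, _, h, _ => by simp [chkAll] at h
  | _ :: _, _, [], _, h, _ => by simp [chkAll] at h
  | k :: ks, ks', t :: ts, ts', h, h' => by
    cases t <;> simp only [List.cons_append, chkAll, Bool.and_eq_true] at h ⊢ <;>
      exact ⟨h.1, chkAll_append n Ls skip ks ks' ts ts' h.2 h'⟩

/-- All certificates of a given class have `det e = 1`. -/
def detOK (n l₀ : ℕ) : List (Option Cert) → Bool
  | [] => true
  | some (l, _, _, _, e, _) :: ts =>
    (if l = l₀ then decide ((dec n e).det = 1) else true) && detOK n l₀ ts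
  | none :: ts => detOK n l₀ ts

/-- The exception for the double class. -/
def skipFour : List (List (List (ZMod 3))) := [[[2], [2], [2], [2]]]

/-- The two exceptions for the quartic class. -/
def skipQ : List (List (List (ZMod 3))) := [[[2, 2], [1], [1]], [[2], [2], [2], [2]]]

theorem check_four : chkAll 4 fourClasses skipFour (keys 4) fourTable = true := by decide +kernel

theorem det_four : detOK 4 0 fourTable = true := by decide +kernel

theorem check_fourQ : chkAll 4 fourQClasses skipQ (keys 4) fourQTable = true := by decide +kernel

theorem check_five : chkAll 5 fiveClasses [] (keys 5) fiveTable = true := by decide +kernel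

theorem keys_six :
    keys 6 = sixKeys0 ++ sixKeys1 ++ sixKeys2 ++ sixKeys3 ++ sixKeys4 ++ sixKeys5 := by
  decide +kernel

theorem check_six0 : chkAll 6 sixClasses [] sixKeys0 sixTable0 = true := by decide +kernel

theorem check_six1 : chkAll 6 sixClasses [] sixKeys1 sixTable1 = true := by decide +kernel

theorem check_six2 : chkAll 6 sixClasses [] sixKeys2 sixTable2 = true := by decide +kernel

theorem check_six3 : chkAll 6 sixClasses [] sixKeys3 sixTable3 = true := by decide +kernel

theorem check_six4 : chkAll 6 sixClasses [] sixKeys4 sixTable4 = true := by decide +kernel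

theorem check_six5 : chkAll 6 sixClasses [] sixKeys5 sixTable5 = true := by decide +kernel

theorem check_six : chkAll 6 sixClasses [] (keys 6) sixTable = true := by
  rw [keys_six, sixTable]
  exact chkAll_append _ _ _ _ _ _ _ (chkAll_append _ _ _ _ _ _ _ (chkAll_append _ _ _ _ _ _ _
    (chkAll_append _ _ _ _ _ _ _ (chkAll_append _ _ _ _ _ _ _ check_six0 check_six1) check_six2)
    check_six3) check_six4) check_six5

end CfsgLib.KnownB.OreOmega
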