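import Cfsg.Agent.Lib.KnownB.OreOmega.ThreeKeys

/-!
Certificates in dimension 4 over the field with three elements.
-/

set_option autoImplicit false

namespace CfsgLib.KnownB.OreOmega

/-- Companion matrices of the classes used. -/
def fourClasses : List ℕ := [33679935]

/-- One certificate for each normal form. -/
def fourTable : List (Option Cert) := [
  some (0, 6172082, 29118736, 29180108, 32749148, 12167967),
  some (0, 8210639, 23509445, 17651060, 12688631, 38793480),
  some (0, 32157334, 7367616, 18619702, 35248161, 15462460),
  some (0, 38645133, 40694773, 15918555, 37490868, 30308376),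
  some (0, 17135924, 33472533, 41436012, 27625120, 39933510),
  some (0, 34095132, 40660899, 39135715, 33573893, 10403459),
  some (0, 5664686, 4186965, 40340417, 5510391, 13617169),
  some (0, 1818711, 6401693, 42811319, 28055263, 12712098),
  some (0, 10606461, 15675169, 27765205, 8086196, 4714326),
  some (0, 1511670, 38945244, 31126811, 7127058, 11003767),
  some (0, 36705357, 17394832, 33539185, 27694572, 22381214),
  some (0, 1129587, 16839866, 37332736, 29508905, 20914671),
  some (0, 8587577, 25244546, 3493898, 5170310, 21438519),
  some (0, 16867869, 10119666, 21383074, 24342825, 17579745),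
  some (0, 31334803, 26162390, 11282342, 30091643, 4221131),
  some (0, 17730928, 10510373, 27898978, 37469980, 4196775),
  some (0, 1517818, 26833541, 15575469, 34439731, 7291683),
  some (0, 9078054, 26596320, 23607280, 1354130, 8632062),
  some (0, 40081807, 11319066, 19904646, 9469880, 37926779),
  some (0, 41761343, 35572505, 13705112, 36566991, 1027229),
  some (0, 2402824, 32863891, 27857803, 32915473, 27464989),
  some (0, 2086204, 26619310, 16085776, 34858712, 15802050),
  some (0, 7942757, 9376649, 37927312, 18596276, 6134390),
  some (0, 41878597, 8630112, 33456623, 26279315, 34731403),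
  some (0, 41602155, 8598449, 30771044, 18203480, 2572846),
  some (0, 8543587, 32958163, 1712187, 27494450, 40160315),
  some (0, 13649329, 12764868, 15643944, 42277587, 33398425),
  some (0, 17518888, 34427712, 26247366, 30415959, 1183369),
  some (0, 38660063, 30763470, 21984889, 24589072, 35168879),
  some (0, 24894645, 8874573, 16090647, 7885510, 29808397),
  some (0, 12801234, 12664337, 21425248, 9834336, 29587063),
  some (0, 24514475, 13924303, 21988851, 25614639, 16481735),
  some (0, 29935634, 23889476, 22285485, 34098688, 15880638),
  some (0, 39559445, 35889855, 17315641, 14979060, 1141885),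
  some (0, 14278942, 28894769, 29140320, 16999820, 10570058),
  some (0, 19475742, 16750549, 27051259, 3321711, 22049403),
  some (0, 7660110, 14324983, 18667888, 12552116, 33609031),
  some (0, 11492617, 15255315, 11705192, 19364344, 31761006),
  some (0, 1343719, 1540107, 1192374, 37269119, 5515845),
  some (0, 5769024, 26103742, 13882485, 25915805, 42088299),
  some (0, 27823485, 4469052, 3833717, 14758854, 14729680),
  some (0, 12191584, 41508725, 31675418, 37563325, 26763242),
  none]

end CfsgLib.KnownB.OreOmega
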