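import Mathlib

/-!
Block companion normal forms in small dimensions over the field with three elements.
-/

set_option autoImplicit false

namespace CfsgLib.KnownB.OreOmega

open Matrix

variable {K : Type*} [Field K]

/-- The companion matrix with last column `c`. -/
def comp (c : List K) : Matrix (Fin c.length) (Fin c.length) K :=
  Matrix.of fun i j => if (j : ℕ) + 1 = c.length then c.get i else if (i : ℕ) = j + 1 then 1 else 0

/-- Block diagonal sum of companion matrices. -/
def blk : List (List K) → ℕ → ℕ → K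
  | [], _, _ => 0
  | c :: cs, i, j =>
    if h : i < c.length ∧ j < c.length then comp c ⟨i, h.1⟩ ⟨j, h.2⟩
    else if c.length ≤ i ∧ c.length ≤ j then blk cs (i - c.length) (j - c.length) else 0

/-- The matrix of a list of blocks. -/
def blkM (n : ℕ) (cs : List (List K)) : Matrix (Fin n) (Fin n) K :=
  Matrix.of fun i j => blk cs i j

/-- Determinant of a list of blocks. -/
def detKey : List (List K) → K
  | [] => 1
  | c :: cs => (-1) ^ (c.length - 1) * c.getD 0 0 * detKey cs

/-- The polynomial of `c` at a square matrix. -/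
def killMat {m : ℕ} (c : List K) (B : Matrix (Fin m) (Fin m) K) : Matrix (Fin m) (Fin m) K :=
  B ^ c.length - ∑ i : Fin c.length, c.get i • B ^ (i : ℕ)

/-- Each block is killed by the polynomial of the previous one. -/
def Chain : List (List K) → Prop
  | [] => True
  | [_] => True
  | a :: b :: cs => killMat a (comp b) = 0 ∧ Chain (b :: cs)

/-- All coefficient lists. -/
def allC : ℕ → List (List (ZMod 3))
  | 0 => [[]]
  | d + 1 => [(0 : ZMod 3), 1, 2].flatMap fun a => (allC d).map (a :: ·)

/-- All block lists of a shape. -/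
def allCs : List ℕ → List (List (List (ZMod 3)))
  | [] => [[]]
  | d :: ds => (allC d).flatMap fun c => (allCs ds).map (c :: ·)

/-- Decidable version of `Chain`. -/
def chainB : List (List (ZMod 3)) → Bool
  | [] => true
  | [_] => true
  | a :: b :: cs => decide (killMat a (comp b) = 0) && chainB (b :: cs)

/-- Non-increasing shapes of total `n` with parts at most `m`. -/
def parts : ℕ → ℕ → ℕ → List (List ℕ)
  | 0, _, _ => [[]]
  | fuel + 1, n, m =>
    if n = 0 then [[]]
    else ((List.range (min n m)).reverse).flatMap fun a =>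
      (parts fuel (n - (a + 1)) (a + 1)).map ((a + 1) :: ·)

/-- The normal forms of determinant one in dimension `n`. -/
def keys (n : ℕ) : List (List (List (ZMod 3))) :=
  ((parts n n n).flatMap allCs).filter fun cs => decide (detKey cs = 1) && chainB cs

/-- The entries of a matrix stored in base three. -/
def ent (n N i j : ℕ) : ℕ := N / 3 ^ (n * i + j) % 3

/-- A finite sum, computed by recursion. -/
def sumTo (f : ℕ → ℕ) : ℕ → ℕ
  | 0 => 0
  | k + 1 => sumTo f k + f k

/-- A finite conjunction, computed by recursion. -/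
def allTo (f : ℕ → Bool) : ℕ → Bool
  | 0 => true
  | k + 1 => f k && allTo f k

/-- The product of two entry functions. -/
def mulN (n : ℕ) (f g : ℕ → ℕ → ℕ) (i j : ℕ) : ℕ := sumTo (fun k => f i k * g k j) n

/-- Equality modulo three. -/
def eqN (n : ℕ) (f g : ℕ → ℕ → ℕ) : Bool :=
  allTo (fun i => allTo (fun j => Nat.beq (f i j % 3) (g i j % 3)) n) n

/-- The identity. -/
def oneN (i j : ℕ) : ℕ := if i = j then 1 else 0

/-- The matrix of an entry function. -/
def toM (n : ℕ) (f : ℕ → ℕ → ℕ) : Matrix (Fin n) (Fin n) (ZMod 3) :=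
  Matrix.of fun i j => (f i j : ZMod 3)

/-- A matrix stored in base three. -/
abbrev dec (n N : ℕ) : Matrix (Fin n) (Fin n) (ZMod 3) := toM n (ent n N)

theorem sumTo_eq (f : ℕ → ℕ) : ∀ n, sumTo f n = ∑ k ∈ Finset.range n, f k
  | 0 => rfl
  | k + 1 => by rw [sumTo, sumTo_eq f k, Finset.sum_range_succ]

theorem allTo_spec {f : ℕ → Bool} : ∀ {n}, allTo f n = true → ∀ k < n, f k = true
  | 0, _, k, hk => absurd hk (Nat.not_lt_zero k)
  | n + 1, h, k, hk => by
    rw [allTo, Bool.and_eq_true] at h
    rcases Nat.lt_succ_iff_lt_or_eq.1 hk with hk | rfl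
    · exact allTo_spec h.2 k hk
    · exact h.1

theorem toM_mulN (n : ℕ) (f g : ℕ → ℕ → ℕ) : toM n (mulN n f g) = toM n f * toM n g := by
  ext i j
  simp [toM, mulN, sumTo_eq, Matrix.mul_apply, Finset.sum_range]

theorem toM_oneN (n : ℕ) : toM n oneN = 1 := by
  ext i j
  simp [toM, oneN, Matrix.one_apply, Fin.ext_iff]

theorem toM_eq_of_eqN {n : ℕ} {f g : ℕ → ℕ → ℕ} (h : eqN n f g = true) : toM n f = toM n g := by
  ext i j
  exact (ZMod.natCast_eq_natCast_iff' _ _ 3).2
    (Nat.eq_of_beq_eq_true (allTo_spec (allTo_spec h i i.2) j j.2))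

/-- The entries of a list of blocks. -/
def blkN (cs : List (List (ZMod 3))) (i j : ℕ) : ℕ := (blk cs i j).val

theorem toM_blkN (n : ℕ) (cs : List (List (ZMod 3))) : toM n (blkN cs) = blkM n cs := by
  ext i j
  simp [toM, blkN, blkM]

/-- A certificate: class, `X`, `S`, `S⁻¹`, `e`, `e⁻¹`. -/
abbrev Cert := ℕ × ℕ × ℕ × ℕ × ℕ × ℕ

/-- Checking a certificate. -/
def chk (n : ℕ) (Ls : List ℕ) (cs : List (List (ZMod 3))) : Cert → Bool
  | (l, X, S, Si, e, ei) => decide (l < Ls.length) &&
    eqN n (mulN n (blkN cs) (mulN n (ent n e) (ent n X))) (mulN n (ent n X) (ent n e)) &&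
    eqN n (mulN n (ent n X) (ent n S)) (mulN n (ent n S) (ent n (Ls.getD l 0))) &&
    eqN n (mulN n (ent n S) (ent n Si)) oneN && eqN n (mulN n (ent n e) (ent n ei)) oneN

theorem chk_spec {n : ℕ} {Ls : List ℕ} {cs : List (List (ZMod 3))} {l X S Si e ei : ℕ}
    (h : chk n Ls cs (l, X, S, Si, e, ei) = true) :
    l < Ls.length ∧ blkM n cs * (dec n e * dec n X) = dec n X * dec n e ∧
      dec n X * dec n S = dec n S * dec n (Ls.getD l 0) ∧ dec n S * dec n Si = 1 ∧
      dec n e * dec n ei = 1 := by
  simp only [chk, Bool.and_eq_true, decide_eq_true_eq] at h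
  obtain ⟨⟨⟨⟨h1, h2⟩, h3⟩, h4⟩, h5⟩ := h
  refine ⟨h1, ?_, ?_, ?_, ?_⟩
  · simpa only [toM_mulN, toM_blkN] using toM_eq_of_eqN h2
  · simpa only [toM_mulN] using toM_eq_of_eqN h3
  · simpa only [toM_mulN, toM_oneN] using toM_eq_of_eqN h4
  · simpa only [toM_mulN, toM_oneN] using toM_eq_of_eqN h5

/-- Checking a table against a list of normal forms, `none` only on `skip`. -/
def chkAll (n : ℕ) (Ls : List ℕ) (skip : List (List (List (ZMod 3)))) :
    List (List (List (ZMod 3))) → List (Option Cert) → Bool
  | [], [] => true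
  | k :: ks, some c :: ts => chk n Ls k c && chkAll n Ls skip ks ts
  | k :: ks, none :: ts => skip.contains k && chkAll n Ls skip ks ts
  | _, _ => false

end CfsgLib.KnownB.OreOmega
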