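import Cfsg.Agent.Lib.KnownB.OreOmega.ThreeBase

/-!
The small dimensions read off from the tables.
-/

set_option autoImplicit false
set_option maxRecDepth 100000

namespace CfsgLib.KnownB.OreOmega

open Module Polynomial CfsgLib.KnownB.Sourour CfsgLib.KnownB.OreSp

theorem aeval_comp_colPoly {K : Type} [Field K] (c : List K) :
    aeval (comp c) (colPoly c) = 0 := by
  apply Matrix.toLin'.injective
  rw [map_zero]
  let L : End K (Fin c.length → K) := Matrix.toLin' (comp c)
  have haev : Matrix.toLin' (aeval (comp c) (colPoly c)) = aeval L (colPoly c) :=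
    (Polynomial.aeval_algHom_apply (Matrix.toLinAlgEquiv'.toAlgHom) (comp c) (colPoly c)).symm
  rw [haev]
  rcases Nat.eq_zero_or_pos c.length with h0 | hpos
  · exact LinearMap.ext fun v => funext fun i => absurd i.2 (by omega)
  let e : Fin c.length → Fin c.length → K := fun i => Pi.single i 1
  have hcol : ∀ j i, L (e j) i = comp c i j := fun j i => by
    simp [L, e]
  have hpow : ∀ (j : ℕ) (hj : j < c.length), (L ^ j) (e ⟨0, hpos⟩) = e ⟨j, hj⟩ := by
    intro j
    induction j with
    | zero => intro hj; simp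
    | succ j ih =>
      intro hj
      rw [pow_succ', Module.End.mul_apply, ih (by omega)]
      funext i
      rw [hcol]
      simp only [comp, Matrix.of_apply, e, Pi.single_apply, Fin.ext_iff]
      rw [if_neg (by omega)]
  have htop : (L ^ c.length) (e ⟨0, hpos⟩) =
      ∑ i : Fin c.length, c.get i • (L ^ (i : ℕ)) (e ⟨0, hpos⟩) := by
    obtain ⟨m, hm⟩ : ∃ m, c.length = m + 1 := ⟨c.length - 1, by omega⟩
    have hl : (L ^ c.length) (e ⟨0, hpos⟩) = L (e ⟨m, by omega⟩) := by
      rw [← hpow m (by omega), ← Module.End.mul_apply, ← pow_succ']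
      exact congrArg (fun k => (L ^ k) (e ⟨0, hpos⟩)) hm
    rw [hl]
    funext i
    rw [hcol, Finset.sum_apply, Finset.sum_congr rfl fun (k : Fin c.length) _ => by
      rw [hpow k k.2]]
    simp [comp, hm, e, Pi.single_apply]
  have h0 : aeval L (colPoly c) (e ⟨0, hpos⟩) = 0 := by
    rw [aeval_colPoly, LinearMap.sub_apply, htop, LinearMap.sum_apply]
    simp
  refine (Pi.basisFun K (Fin c.length)).ext fun j => ?_
  rw [show Pi.basisFun K (Fin c.length) j = e j by simp [e], ← hpow j j.2,
    LinearMap.zero_apply, ← Module.End.mul_apply,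
    show aeval L (colPoly c) * L ^ (j : ℕ) = L ^ (j : ℕ) * aeval L (colPoly c) by
      have := congrArg (aeval L) (mul_comm (colPoly c) ((Polynomial.X : K[X]) ^ (j : ℕ)))
      simpa using this,
    Module.End.mul_apply, h0, map_zero]

theorem C_two : (C (2 : ZMod 3) : (ZMod 3)[X]) = 2 := map_ofNat C 2

/-- A class given by a companion matrix. -/
theorem classOK_comp (c : List (ZMod 3)) (hc : 0 < c.length) {L : ℕ} (hL : dec c.length L = comp c)
    {P : (ZMod 3)[X]} (hP : colPoly c = P) {d : ZMod 3}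
    (hd : (-1) ^ (c.length - 1) * c.getD 0 0 = d) (hd0 : d ≠ 0) {dfix : Prop}
    (hfix : dfix ∨ ∃ q : (ZMod 3)[X], (aeval (dec c.length L) q).det = -1) :
    ClassOK c.length L dfix P d := by
  refine ⟨?_, ?_, hd0, hfix⟩
  · rw [hL, ← hP]; exact aeval_comp_colPoly c
  · rw [hL, det_comp c hc, hd]

theorem class_four (dfix : Prop) (h : dfix) :
    ClassOK 4 (fourClasses.getD 0 0) dfix ((t2 : (ZMod 3)[X]) * t2) 1 :=
  classOK_comp [2, 1, 1, 2] (by simp) (by decide +kernel)
    (by simp [colPoly, Fin.sum_univ_succ, C_two, t2]; linear_combination (norm := (ring_nf; reduce_mod_char)) (0 : (ZMod 3)[X]) * three_eq) (by decide +kernel)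
    one_ne_zero (Or.inl h)

theorem class_fourQ (dfix : Prop) : ClassOK 4 (fourQClasses.getD 0 0) dfix q4 (-1) :=
  classOK_comp [1, 1, 0, 0] (by simp) (by decide +kernel)
    (by simp [colPoly, Fin.sum_univ_succ, q4]; linear_combination (norm := (ring_nf; reduce_mod_char)) (0 : (ZMod 3)[X]) * three_eq) (by decide +kernel)
    (by decide) (Or.inr ⟨Polynomial.X, by rw [aeval_X]; decide +kernel⟩)

theorem class_five (dfix : Prop) :
    ClassOK 5 (fiveClasses.getD 0 0) dfix ((t3n : (ZMod 3)[X]) * t2) 1 :=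
  classOK_comp [1, 0, 1, 2, 1] (by simp) (by decide +kernel)
    (by simp [colPoly, Fin.sum_univ_succ, C_two, t2, t3n]; linear_combination (norm := (ring_nf; reduce_mod_char)) (0 : (ZMod 3)[X]) * three_eq) (by decide +kernel)
    one_ne_zero (Or.inr ⟨-(Polynomial.X * Polynomial.X), by
      rw [map_neg, map_mul, aeval_X]; decide +kernel⟩)

theorem class_six0 (dfix : Prop) :
    ClassOK 6 (sixClasses.getD 0 0) dfix ((t4 : (ZMod 3)[X]) * t2) 1 :=
  classOK_comp [2, 2, 2, 1, 0, 1] (by simp) (by decide +kernel)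
    (by simp [colPoly, Fin.sum_univ_succ, C_two, t2, t4]; linear_combination (norm := (ring_nf; reduce_mod_char)) (0 : (ZMod 3)[X]) * three_eq) (by decide +kernel)
    one_ne_zero (Or.inr ⟨Polynomial.X - Polynomial.X * Polynomial.X, by
      rw [map_sub, map_mul, aeval_X]; decide +kernel⟩)

theorem class_six1 (dfix : Prop) : ClassOK 6 (sixClasses.getD 1 0) dfix s6 1 :=
  classOK_comp [2, 0, 1, 0, 0, 0] (by simp) (by decide +kernel)
    (by simp [colPoly, Fin.sum_univ_succ, C_two, s6]; linear_combination (norm := (ring_nf; reduce_mod_char)) (0 : (ZMod 3)[X]) * three_eq) (by decide +kernel)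
    one_ne_zero (Or.inr ⟨1 + Polynomial.X - Polynomial.X * Polynomial.X, by
      rw [map_sub, map_add, map_mul, map_one, aeval_X]; decide +kernel⟩)

theorem sep_t2 : Sep (t2 : (ZMod 3)[X]) := sep_polyThree.of_dvd dvd_t2

theorem sep_t3 : Sep (t3 : (ZMod 3)[X]) := sep_polyThree.of_dvd dvd_t3

theorem sep_t4 : Sep (t4 : (ZMod 3)[X]) := sep_polyThree.of_dvd dvd_t4

theorem cubic_eq : cubic (ZMod 3) = (t3 : (ZMod 3)[X]) := rfl

/-- `-1` with an even polynomial. -/
theorem goodAt_neg_one (c : List (ZMod 3)) (hc : 0 < c.length) {d : ZMod 3}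
    (hd : (-1) ^ (c.length - 1) * c.getD 0 0 = d) (hd0 : d ≠ 0)
    (hcomm : ∀ i j : Fin c.length,
      -((-1 : ZMod 3) ^ (i : ℕ) * comp c i j) = comp c i j * (-1) ^ (j : ℕ))
    (hD : (∏ i : Fin c.length, (-1 : ZMod 3) ^ (i : ℕ)) = 1) :
    GoodAt (colPoly c) ((-1 : ZMod 3) • (1 : End (ZMod 3) (Fin c.length → ZMod 3))) d := by
  let D : Matrix (Fin c.length) (Fin c.length) (ZMod 3) :=
    Matrix.diagonal fun i => (-1) ^ (i : ℕ)
  have hD2 : D * D = 1 := by
    rw [Matrix.diagonal_mul_diagonal, ← Matrix.diagonal_one]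
    congr 1
    funext i
    rw [← mul_pow, neg_one_mul, neg_neg, one_pow]
  let E : (Fin c.length → ZMod 3) ≃ₗ[ZMod 3] (Fin c.length → ZMod 3) :=
    LinearEquiv.ofLinearMap (Matrix.toLin' D) (Matrix.toLin' D)
      (by rw [← Matrix.toLin'_mul, hD2, Matrix.toLin'_one])
      (by rw [← Matrix.toLin'_mul, hD2, Matrix.toLin'_one])
  have hX : IsUnit (comp c).det := by rw [det_comp c hc, hd]; exact hd0.isUnit
  have hDC : -(D * comp c) = comp c * D := by
    ext i j
    rw [Matrix.neg_apply, Matrix.diagonal_mul, Matrix.mul_diagonal, hcomm]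
  have key : comp c * (D * (comp c)⁻¹ * D) = -1 := by
    rw [← Matrix.mul_assoc, ← Matrix.mul_assoc, ← hDC, Matrix.neg_mul, Matrix.neg_mul,
      Matrix.mul_nonsing_inv_cancel_right _ _ hX, hD2]
  refine ⟨⟨Matrix.toLin' (comp c), Matrix.toLin' (comp c)⁻¹, ?_, ?_, E,
    LinearMap.ext fun v => ?_⟩, ?_, ?_, ?_⟩
  · rw [Module.End.mul_eq_comp, ← Matrix.toLin'_mul, Matrix.mul_nonsing_inv _ hX,
      Matrix.toLin'_one]; rfl
  · rw [Module.End.mul_eq_comp, ← Matrix.toLin'_mul, Matrix.nonsing_inv_mul _ hX,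
      Matrix.toLin'_one]; rfl
  · rw [Module.End.mul_apply, LinearEquiv.conj_apply_apply]
    change _ = Matrix.toLin' (comp c) (Matrix.toLin' D
      (Matrix.toLin' (comp c)⁻¹ (Matrix.toLin' D v)))
    have := congrArg (fun M => Matrix.mulVec M v) key
    simp only [Matrix.neg_mulVec, Matrix.one_mulVec, Matrix.mul_assoc,
      ← Matrix.mulVec_mulVec] at this
    simp only [Matrix.toLin'_apply, this]
    simp
  · change aeval (Matrix.toLin' (comp c)) (colPoly c) = 0
    have h := Polynomial.aeval_algHom_apply (Matrix.toLinAlgEquiv'.toAlgHom) (comp c) (colPoly c)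
    rw [aeval_comp_colPoly, map_zero] at h
    exact h
  · change LinearMap.det (Matrix.toLin' (comp c)) = d
    rw [LinearMap.det_toLin', det_comp c hc, hd]
  · change LinearMap.det (Matrix.toLin' D) = 1
    rw [LinearMap.det_toLin', Matrix.det_diagonal, hD]

variable {V : Type} [AddCommGroup V] [Module (ZMod 3) V] [FiniteDimensional (ZMod 3) V]

omit [FiniteDimensional (ZMod 3) V] in
theorem conj_neg_one {V' : Type} [AddCommGroup V'] [Module (ZMod 3) V'] (φ : V ≃ₗ[ZMod 3] V') :
    φ.conj ((-1 : ZMod 3) • (1 : End (ZMod 3) V)) = (-1 : ZMod 3) • 1 := by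
  rw [map_smul, Sourour.conj_one]

theorem good_neg_four (h4 : finrank (ZMod 3) V = 4) :
    Good ((-1 : ZMod 3) • (1 : End (ZMod 3) V)) (-1) := by
  have h := (goodAt_neg_one [1, 0, 2, 0] (by simp) (d := -1) (by decide) (by decide)
    (by decide) (by decide)).map
    (LinearEquiv.ofFinrankEq (Fin ([1, 0, 2, 0] : List (ZMod 3)).length → ZMod 3) V (by
      rw [Module.finrank_pi, Fintype.card_fin, h4]; rfl))
  rw [conj_neg_one, show colPoly ([1, 0, 2, 0] : List (ZMod 3)) = t4 by
    simp [colPoly, Fin.sum_univ_succ, C_two, t4]; linear_combination (norm := (ring_nf; reduce_mod_char)) (0 : (ZMod 3)[X]) * three_eq] at h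
  exact h.good sep_t4 (by rw [h4, t4]; compute_degree)

theorem good_neg_eight (h8 : finrank (ZMod 3) V = 8) :
    Good ((-1 : ZMod 3) • (1 : End (ZMod 3) V)) 1 := by
  have h := (goodAt_neg_one [2, 0, 1, 0, 2, 0, 0, 0] (by simp) (d := 1) (by decide) (by decide)
    (by decide +kernel) (by decide)).map
    (LinearEquiv.ofFinrankEq (Fin ([2, 0, 1, 0, 2, 0, 0, 0] : List (ZMod 3)).length → ZMod 3) V
      (by rw [Module.finrank_pi, Fintype.card_fin, h8]; rfl))
  rw [conj_neg_one, show colPoly ([2, 0, 1, 0, 2, 0, 0, 0] : List (ZMod 3)) = q4 * q4n by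
    simp [colPoly, Fin.sum_univ_succ, C_two, q4, q4n]; linear_combination (norm := (ring_nf; reduce_mod_char)) (0 : (ZMod 3)[X]) * three_eq] at h
  exact h.good sep_q4q4n (by
    rw [h8, q4, q4n]; compute_degree)

/-- Dimension four, away from `-1`. -/
theorem good_four (h4 : finrank (ZMod 3) V = 4) (A : End (ZMod 3) V) (hdet : LinearMap.det A = 1)
    (hne : A ≠ (-1 : ZMod 3) • 1) : Good A 1 := by
  rcases goodAt_of_table h4 A hdet check_four with ⟨l, X, S, Si, e, ei, hl, hm, h⟩ | ⟨cs, hcs, B, hA⟩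
  · obtain rfl : l = 0 := by simp [fourClasses] at hl; omega
    refine (h _ _ (class_four _ (detOK_spec 4 0 _ det_four _ X S Si e ei hm rfl))).good
      (sep_t2.mul_self) ?_
    rw [h4, t2]; compute_degree
  · simp only [skipFour, List.mem_singleton] at hcs
    subst hcs
    exfalso
    refine hne (hA.trans ?_)
    rw [show blkM 4 ([[2], [2], [2], [2]] : List (List (ZMod 3))) = (-1 : ZMod 3) • 1 by
      decide +kernel, map_smul, Matrix.toLin'_one, map_smul]
    exact congrArg _ (LinearEquiv.conj_id _)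

/-- Dimension four, either determinant. -/
theorem good_four_any (h4 : finrank (ZMod 3) V = 4) (A : End (ZMod 3) V)
    (hdet : LinearMap.det A = 1) : ∃ d, Good A d := by
  by_cases h : A = (-1 : ZMod 3) • 1
  · subst h; exact ⟨_, good_neg_four h4⟩
  · exact ⟨_, good_four h4 A hdet h⟩

/-- Dimension four near `-1`, with the second quartic. -/
theorem goodAt_fourQ (h4 : finrank (ZMod 3) V = 4) (A : End (ZMod 3) V)
    (hdet : LinearMap.det A = 1) (hne : A ≠ (-1 : ZMod 3) • 1)
    (hr : finrank (ZMod 3) (LinearMap.range (A - (-1 : ZMod 3) • 1)) ≤ 2) :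
    GoodAt q4 A (-1) := by
  rcases goodAt_of_table h4 A hdet check_fourQ with ⟨l, X, S, Si, e, ei, hl, -, h⟩ | ⟨cs, hcs, B, hA⟩
  · obtain rfl : l = 0 := by simp [fourQClasses] at hl; omega
    exact h _ _ (class_fourQ _)
  · exfalso
    simp only [skipQ, List.mem_cons, List.not_mem_nil, or_false] at hcs
    rcases hcs with rfl | rfl
    · have hu : IsUnit (LinearMap.det (A - (-1 : ZMod 3) • 1)) := by
        rw [hA, ← conj_neg_one B.equivFun.symm, ← map_sub, det_equivConj,
          show (1 : End (ZMod 3) (Fin 4 → ZMod 3)) = Matrix.toLin' 1 from Matrix.toLin'_one.symm,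
          ← map_smul, ← map_sub, LinearMap.det_toLin']
        exact isUnit_iff_ne_zero.2 (by decide +kernel)
      rw [LinearMap.range_eq_top.2 ((Module.End.isUnit_iff _).1
        ((LinearMap.isUnit_iff_isUnit_det _).2 hu)).2, finrank_top, h4] at hr
      omega
    · refine hne (hA.trans ?_)
      rw [show blkM 4 ([[2], [2], [2], [2]] : List (List (ZMod 3))) = (-1 : ZMod 3) • 1 by
        decide +kernel, map_smul, Matrix.toLin'_one, map_smul]
      exact congrArg _ (LinearEquiv.conj_id _)

/-- Dimension five. -/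
theorem good_five (h5 : finrank (ZMod 3) V = 5) (A : End (ZMod 3) V)
    (hdet : LinearMap.det A = 1) : Good A 1 := by
  rcases goodAt_of_table h5 A hdet check_five with ⟨l, X, S, Si, e, ei, hl, -, h⟩ | ⟨cs, hcs, -⟩
  · obtain rfl : l = 0 := by simp [fiveClasses] at hl; omega
    refine (h _ _ (class_five _)).good
      (sep_polyThree.of_dvd ⟨t3 * t4, by rw [polyThree]; ring⟩) ?_
    rw [h5, t2, t3n]; compute_degree
  · simp at hcs

/-- Dimension six. -/
theorem good_six (h6 : finrank (ZMod 3) V = 6) (A : End (ZMod 3) V)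
    (hdet : LinearMap.det A = 1) : Good A 1 := by
  rcases goodAt_of_table h6 A hdet check_six with ⟨l, X, S, Si, e, ei, hl, -, h⟩ | ⟨cs, hcs, -⟩
  · rcases (show l = 0 ∨ l = 1 by simp [sixClasses] at hl; omega) with rfl | rfl
    · refine (h _ _ (class_six0 _)).good
        (sep_polyThree.of_dvd ⟨t3 * t3n, by rw [polyThree]; ring⟩) ?_
      rw [h6, t2, t4]; compute_degree
    · refine (h _ _ (class_six1 _)).good sep_s6 ?_
      rw [h6, s6]; compute_degree
  · simp at hcs

/-- Dimension three near `-1`, or away from transvections. -/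
theorem goodAt_three (h3 : finrank (ZMod 3) V = 3) (A : End (ZMod 3) V)
    (hdet : LinearMap.det A = 1) (hA : ¬ IsTv A) : GoodAt (t3 : (ZMod 3)[X]) A 1 := by
  obtain ⟨T, hd, hp⟩ := (base_three h3 A hdet).resolve_right hA
  obtain ⟨T', hL, he⟩ := Tw.normalise (A := A) ⟨T.L, T.Li, T.h1, T.h2, T.e, T.hA⟩ T.fix
  exact ⟨T', by rw [hL]; exact cubic_eq ▸ hp, by rw [hL]; exact hd, he⟩

theorem not_isTv_of_near_neg {A : End (ZMod 3) V}
    (h : finrank (ZMod 3) (LinearMap.range (A - (-1 : ZMod 3) • 1)) < finrank (ZMod 3) V) :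
    ¬ IsTv A := by
  rintro ⟨f, u, -, -, hfu, rfl⟩
  refine absurd h (not_lt.2 (le_of_eq ?_))
  have hinj : LinearMap.ker (LinearMap.transvection f u - (-1 : ZMod 3) • 1) = ⊥ := by
    rw [eq_bot_iff]
    intro v hv
    rw [LinearMap.mem_ker, LinearMap.sub_apply, LinearMap.smul_apply, Module.End.one_apply,
      LinearMap.transvection.apply, neg_smul, one_smul, sub_neg_eq_add] at hv
    have hv' : (2 : ZMod 3) • v = -(f v • u) := by linear_combination (norm := module) hv
    have hf : f v = 0 := by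
      have := congrArg f hv'
      rw [map_smul, map_neg, map_smul, hfu, smul_zero, neg_zero, smul_eq_mul] at this
      exact (mul_eq_zero.1 this).resolve_left (by decide)
    rw [hf, zero_smul, neg_zero] at hv'
    exact (Submodule.mem_bot _).2 ((smul_eq_zero.1 hv').resolve_left (by decide))
  rw [LinearMap.range_eq_top.2 (LinearMap.surjective_of_injective (LinearMap.ker_eq_bot.1 hinj)),
    finrank_top]

end CfsgLib.KnownB.OreOmega
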