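import Cfsg.Agent.Lib.KnownB.OreOmega.ThreeSelect
import Cfsg.Agent.Lib.KnownB.OreOmega.ThreeSmall

/-!
Good twists in every dimension over the field with three elements.
-/

set_option autoImplicit false

namespace CfsgLib.KnownB.OreOmega

open Module Polynomial CfsgLib.KnownB.Sourour CfsgLib.KnownB.OreSp

variable {V : Type} [AddCommGroup V] [Module (ZMod 3) V] [FiniteDimensional (ZMod 3) V]

theorem sign_cases {d : ZMod 3} (hd : d ≠ 0) : d = 1 ∨ d = -1 :=
  (show ∀ x : ZMod 3, x ≠ 0 → x = 1 ∨ x = -1 by decide) d hd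

omit [FiniteDimensional (ZMod 3) V] in
theorem Good.det_ne_zero {A : End (ZMod 3) V} {d : ZMod 3} (h : Good A d) : d ≠ 0 := by
  obtain ⟨P, -, -, T, -, hd, -⟩ := h
  rw [← hd]
  intro e
  have := congrArg LinearMap.det T.h1
  rw [map_mul, e, zero_mul, map_one] at this
  exact zero_ne_one this

/-- In odd dimension any determinant becomes one. -/
theorem good_of_odd {n : ℕ} (hV : finrank (ZMod 3) V = n) (hn : Odd n) {A : End (ZMod 3) V}
    {d : ZMod 3} (h : Good A d) : Good A 1 := by
  rcases sign_cases h.det_ne_zero with rfl | rfl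
  · exact h
  · have := h.neg
    rwa [hV, hn.neg_one_pow, neg_one_mul, neg_neg] at this

/-- A step with a top space, any norm. -/
theorem step_pos_any (A : End (ZMod 3) V) (hdet : LinearMap.det A = 1) {k : ℕ} (hk : Odd k)
    (hW : ∃ W : Submodule (ZMod 3) V, finrank (ZMod 3) W = k ∧
      Disjoint W (W.map (A - (1 : ZMod 3) • 1)))
    (hbound : 2 * (finrank (ZMod 3) V - k) + 3 < 3 ^ k)
    (ih : ∀ (U : Submodule (ZMod 3) V) (M : End (ZMod 3) U),
      finrank (ZMod 3) U + k = finrank (ZMod 3) V → LinearMap.det M = 1 → ∃ d, Good M d) :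
    ∃ d, Good A d := by
  obtain ⟨W, hW, hdis⟩ := hW
  obtain ⟨U, M, hdim, hM, hext⟩ := exists_step_space A hdet one_ne_zero hdis
  rw [one_pow, inv_one] at hM
  rw [hW] at hdim hext
  obtain ⟨d, P, hs, hdeg, hgood⟩ := ih U M hdim hM
  obtain ⟨α, h0, hc, h1, h2⟩ := select_odd hk hs (by omega)
  have hk0 : k ≠ 0 := by rintro rfl; simp at hk
  have hG : finrank (ZMod 3) (GaloisField 3 k) = k := GaloisField.finrank 3 hk0
  exact ⟨_, good_extend (G := GaloisField 3 k) (by rwa [hG]) (by omega) (blockI (ZMod 3) h0) h0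
    rfl rfl hs hdeg hgood hc h1 h2⟩

/-- A step with a top space, norm one. -/
theorem step_pos_one (A : End (ZMod 3) V) (hdet : LinearMap.det A = 1) {k : ℕ}
    (hk : Odd k ∨ k = 4)
    (hW : ∃ W : Submodule (ZMod 3) V, finrank (ZMod 3) W = k ∧
      Disjoint W (W.map (A - (1 : ZMod 3) • 1)))
    (hbound : 2 * (2 * (finrank (ZMod 3) V - k) + if k = 4 then 14 else 2) + 1 < 3 ^ k)
    (ih : ∀ (U : Submodule (ZMod 3) V) (M : End (ZMod 3) U),
      finrank (ZMod 3) U + k = finrank (ZMod 3) V → LinearMap.det M = 1 → Good M 1) :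
    Good A 1 := by
  obtain ⟨W, hW, hdis⟩ := hW
  obtain ⟨U, M, hdim, hM, hext⟩ := exists_step_space A hdet one_ne_zero hdis
  rw [one_pow, inv_one] at hM
  rw [hW] at hdim hext
  obtain ⟨P, hs, hdeg, hgood⟩ := ih U M hdim hM
  obtain ⟨α, h0, hc, h1, h2, hN⟩ := select_square hk hs (by omega)
  have hk0 : k ≠ 0 := by rintro rfl; simp at hk
  have hG : finrank (ZMod 3) (GaloisField 3 k) = k := GaloisField.finrank 3 hk0
  have := good_extend (G := GaloisField 3 k) (by rwa [hG]) (by omega) (blockI (ZMod 3) h0) h0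
    rfl rfl hs hdeg hgood hc h1 h2
  rwa [hN, one_mul] at this

/-- A step inside the `-1` eigenspace. -/
theorem step_neg_odd (A : End (ZMod 3) V) (hdet : LinearMap.det A = 1) {j : ℕ} (hj : Odd j)
    (hk : 2 * j + finrank (ZMod 3) (LinearMap.range (A - (-1 : ZMod 3) • 1)) ≤
      finrank (ZMod 3) V)
    (hbound : 2 * (finrank (ZMod 3) V - 2 * j) + 5 < 3 ^ j)
    (ih : ∀ (U : Submodule (ZMod 3) V) (M : End (ZMod 3) U),
      finrank (ZMod 3) U + 2 * j = finrank (ZMod 3) V → LinearMap.det M = 1 →
      finrank (ZMod 3) (LinearMap.range (M - (-1 : ZMod 3) • 1)) ≤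
        finrank (ZMod 3) (LinearMap.range (A - (-1 : ZMod 3) • 1)) →
      (2 * j + finrank (ZMod 3) (LinearMap.range (A - (-1 : ZMod 3) • 1)) < finrank (ZMod 3) V →
        A ≠ (-1 : ZMod 3) • 1 → M ≠ (-1 : ZMod 3) • 1) → Good M 1) :
    Good A 1 := by
  obtain ⟨U, M, hdim, hM, hext, hr, hne⟩ := exists_step_neg A hdet (2 * j) hk
  rw [pow_mul, neg_one_sq, one_pow, inv_one] at hM
  obtain ⟨P, hs, hdeg, hgood⟩ := ih U M hdim hM hr hne
  obtain ⟨α, σ, h0, hσ, hc, h1, h2, hN⟩ := select_neg hj hs (by omega)
  have hj0 : j ≠ 0 := by rintro rfl; simp at hj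
  have hG : finrank (ZMod 3) (GaloisField 3 (2 * j)) = 2 * j :=
    GaloisField.finrank 3 (by omega)
  have := good_extend (G := GaloisField 3 (2 * j)) (by rwa [hG]) (by omega)
    (blockII (ZMod 3) h0 σ hσ) h0 rfl rfl hs hdeg hgood hc h1 h2
  rwa [hN, one_mul] at this

/-- A twist of a scalar is a block. -/
theorem Tw.exists_block {G : Type} [AddCommGroup G] [Module (ZMod 3) G] {c : ZMod 3}
    {g : (ZMod 3)[X]} (T : Tw (c • (1 : End (ZMod 3) G))) (hg : aeval T.L g = 0) :
    ∃ β : Block (ZMod 3) G c, β.B = T.L ∧ β.g = g := by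
  refine ⟨⟨T.L, T.Li, T.h1, T.h2, T.e, ?_, g, hg⟩, rfl, rfl⟩
  calc c • T.Li = T.Li * (c • 1) := by rw [mul_smul_comm, mul_one]
    _ = T.Li * (T.L * T.e.conj T.Li) := by rw [← T.hA]
    _ = T.e.conj T.Li := by rw [← mul_assoc, T.h2, one_mul]

theorem coprime_t4_t3 : IsCoprime (t4 : (ZMod 3)[X]) t3 :=
  ⟨X ^ 2 + X + 2, 2 * X ^ 3 + 2 * X ^ 2 + 2 * X, by
    simp only [t4, t3]; ring_nf; reduce_mod_char⟩

theorem coprime_t4_q4 : IsCoprime (t4 : (ZMod 3)[X]) q4 :=
  ⟨2 * X ^ 3 + 2 * X ^ 2 + X, X ^ 3 + X ^ 2 + 2, by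
    simp only [t4, q4]; ring_nf; reduce_mod_char⟩

omit [FiniteDimensional (ZMod 3) V] in
/-- A step by the quartic block. -/
theorem step_quartic {A : End (ZMod 3) V} {U : Submodule (ZMod 3) V} {M : End (ZMod 3) U}
    (hext : Ext A (-1) 4 M) {P : (ZMod 3)[X]} {d : ZMod 3} (hgood : GoodAt P M d)
    (hco : IsCoprime (t4 : (ZMod 3)[X]) P) : GoodAt ((t4 : (ZMod 3)[X]) * P) A (-1 * d) := by
  have h4 : finrank (ZMod 3) (Fin 4 → ZMod 3) = 4 := by simp
  obtain ⟨T, hT, hd, -⟩ := goodAt_neg_one [1, 0, 2, 0] (by simp) (d := -1) (by decide) (by decide)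
    (by decide) (by decide)
  obtain ⟨β, hB, hg⟩ := T.exists_block hT
  have hcol : colPoly ([1, 0, 2, 0] : List (ZMod 3)) = t4 := by
    simp [colPoly, Fin.sum_univ_succ, C_two, t4]
    linear_combination (norm := (ring_nf; reduce_mod_char)) (0 : (ZMod 3)[X]) * three_eq
  have := hext β h4 (fun e he => by
    rcases sign_cases he with rfl | rfl
    · exact ⟨1, map_one _, by rw [one_mul, mul_one]⟩
    · exact ⟨β.B, by rw [hB]; exact hd, rfl⟩) P d hgood (by rw [hg, hcol]; exact hco)
  rwa [hg, hcol, hB, hd] at this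

/-- Close to `-1` in dimension seven. -/
theorem good_seven_neg (h7 : finrank (ZMod 3) V = 7) (A : End (ZMod 3) V)
    (hdet : LinearMap.det A = 1)
    (hr : finrank (ZMod 3) (LinearMap.range (A - (-1 : ZMod 3) • 1)) ≤ 2) :
    ∃ d, Good A d := by
  obtain ⟨U, M, hdim, hM, hext, hle, -⟩ := exists_step_neg A hdet 4 (by omega)
  have hU : finrank (ZMod 3) U = 3 := by omega
  have h3 := goodAt_three hU M (hM.trans (by norm_num)) (not_isTv_of_near_neg (by omega))
  exact ⟨_, (step_quartic hext h3 coprime_t4_t3).good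
    (sep_polyThree.of_dvd ⟨t2 * t3n, by rw [polyThree]; ring⟩) (by
      rw [h7, t4, t3]; compute_degree)⟩

/-- Close to `-1` in dimension eight. -/
theorem good_eight_neg (h8 : finrank (ZMod 3) V = 8) (A : End (ZMod 3) V)
    (hdet : LinearMap.det A = 1)
    (hr : finrank (ZMod 3) (LinearMap.range (A - (-1 : ZMod 3) • 1)) ≤ 2) :
    Good A 1 := by
  by_cases hA : A = (-1 : ZMod 3) • 1
  · subst hA; exact good_neg_eight h8
  obtain ⟨U, M, hdim, hM, hext, hle, hne⟩ := exists_step_neg A hdet 4 (by omega)
  have hU : finrank (ZMod 3) U = 4 := by omega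
  have h4 := goodAt_fourQ hU M (hM.trans (by norm_num)) (hne (by omega) hA) (by omega)
  have := (step_quartic hext h4 coprime_t4_q4).good sep_t4q4 (by
    rw [h8, t4, q4]; compute_degree)
  rwa [neg_one_mul, neg_neg] at this

theorem bound_pos : ∀ k, 5 ≤ k → 8 * k + 20 < 3 ^ k := by
  intro k hk
  induction k, hk using Nat.le_induction with
  | base => norm_num
  | succ k hk ih => rw [pow_succ]; omega

theorem bound_neg : ∀ j, 5 ≤ j → 4 * j + 40 < 3 ^ j := by
  intro j hj
  induction j, hj using Nat.le_induction with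
  | base => norm_num
  | succ j hj ih => rw [pow_succ]; omega

/-- Dimension at least five. -/
theorem good_main (n : ℕ) : ∀ {V : Type} [AddCommGroup V] [Module (ZMod 3) V]
    [FiniteDimensional (ZMod 3) V], finrank (ZMod 3) V = n → 5 ≤ n →
      ∀ A : End (ZMod 3) V, LinearMap.det A = 1 → Good A 1 := by
  induction n using Nat.strong_induction_on with
  | _ n ih =>
    intro V _ _ _ hV hn A hdet
    have ihU : ∀ (U : Submodule (ZMod 3) V) (M : End (ZMod 3) U),
        finrank (ZMod 3) U < n → 5 ≤ finrank (ZMod 3) U → LinearMap.det M = 1 → Good M 1 :=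
      fun U M h1 h2 h3 => ih _ h1 rfl h2 M h3
    rcases Nat.lt_or_ge n 13 with h13 | h13
    · interval_cases n
      · exact good_five hV A hdet
      · exact good_six hV A hdet
      · rcases exists_top_close A hdet 3 (by omega) (by omega) with h | h
        · obtain ⟨d, hd⟩ := step_pos_any A hdet (k := 3) (by decide) h (by omega)
            fun U M hU hM => good_four_any (by omega) M hM
          exact good_of_odd hV (by decide) hd
        · obtain ⟨d, hd⟩ := good_seven_neg hV A hdet (by omega)
          exact good_of_odd hV (by decide) hd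
      · rcases exists_top_close A hdet 3 (by omega) (by omega) with h | h
        · exact step_pos_one A hdet (k := 3) (Or.inl (by decide)) h (by rw [hV]; norm_num)
            fun U M hU hM => good_five (by omega) M hM
        · exact good_eight_neg hV A hdet (by omega)
      · rcases exists_top_close A hdet 3 (by omega) (by omega) with h | h
        · obtain ⟨d, hd⟩ := step_pos_any A hdet (k := 3) (by decide) h (by omega)
            fun U M hU hM => ⟨_, good_six (by omega) M hM⟩
          exact good_of_odd hV (by decide) hd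
        · refine step_neg_odd A hdet (j := 3) (by decide) (by omega) (by omega) ?_
          intro U M hU hM hr _
          exact (goodAt_three (by omega) M hM (not_isTv_of_near_neg (by omega))).good sep_t3
            (by rw [show finrank (ZMod 3) U = 3 by omega, t3]; compute_degree)
      · rcases exists_top_close A hdet 4 (by omega) (by omega) with h | h
        · exact step_pos_one A hdet (k := 4) (Or.inr rfl) h (by rw [hV]; norm_num)
            fun U M hU hM => good_six (by omega) M hM
        · by_cases hA : A = (-1 : ZMod 3) • 1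
          · have h0 : finrank (ZMod 3) (LinearMap.range (A - (-1 : ZMod 3) • 1)) = 0 := by
              rw [hA, sub_self, LinearMap.range_zero, finrank_bot]
            refine step_neg_odd A hdet (j := 5) (by decide) (by omega) (by omega) ?_
            intro U M hU hM _ _
            refine ⟨1, sep_one, by simp, ⟨1, 1, one_mul 1, one_mul 1, LinearEquiv.refl _ _, ?_⟩,
              ?_, map_one _, LinearMap.det_id⟩
            · have := Module.finrank_zero_iff.1 (show finrank (ZMod 3) U = 0 by omega)
              exact Subsingleton.elim _ _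
            · have := Module.finrank_zero_iff.1 (show finrank (ZMod 3) U = 0 by omega)
              exact Subsingleton.elim _ _
          · refine step_neg_odd A hdet (j := 3) (by decide) (by omega) (by omega) ?_
            intro U M hU hM _ hne
            exact good_four (by omega) M hM (hne (by omega) hA)
      · rcases exists_top_close A hdet 3 (by omega) (by omega) with h | h
        · obtain ⟨d, hd⟩ := step_pos_any A hdet (k := 3) (by decide) h (by omega)
            fun U M hU hM => ⟨_, ihU U M (by omega) (by omega) hM⟩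
          exact good_of_odd hV (by decide) hd
        · exact step_neg_odd A hdet (j := 3) (by decide) (by omega) (by omega)
            fun U M hU hM _ _ => good_five (by omega) M hM
      · rcases exists_top_close A hdet 4 (by omega) (by omega) with h | h
        · exact step_pos_one A hdet (k := 4) (Or.inr rfl) h (by rw [hV]; norm_num)
            fun U M hU hM => ihU U M (by omega) (by omega) hM
        · exact step_neg_odd A hdet (j := 3) (by decide) (by omega) (by omega)
            fun U M hU hM _ _ => good_six (by omega) M hM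
    · obtain ⟨k, hk, hk5, hk1, hk2⟩ : ∃ k, Odd k ∧ 5 ≤ k ∧ 3 * k ≤ n + 2 ∧ n ≤ 3 * k + 3 := by
        rcases Nat.even_or_odd ((n + 2) / 3) with ⟨t, ht⟩ | ⟨t, ht⟩
        · exact ⟨2 * (t - 1) + 1, ⟨t - 1, rfl⟩, by omega, by omega, by omega⟩
        · exact ⟨2 * t + 1, ⟨t, rfl⟩, by omega, by omega, by omega⟩
      have hb := bound_pos k hk5
      rcases exists_top_close A hdet k (by omega) (by omega) with h | h
      · refine step_pos_one A hdet (Or.inl hk) h ?_
          fun U M hU hM => ihU U M (by omega) (by omega) hM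
        rw [hV, if_neg (by rintro rfl; omega)]
        omega
      · obtain ⟨j, hj, hj1, hj2⟩ :
            ∃ j, Odd j ∧ 2 * j + k ≤ n ∧ n ≤ 2 * j + k + 3 := by
          rcases Nat.even_or_odd ((n - k) / 2) with ⟨t, ht⟩ | ⟨t, ht⟩
          · exact ⟨2 * (t - 1) + 1, ⟨t - 1, rfl⟩, by omega, by omega⟩
          · exact ⟨2 * t + 1, ⟨t, rfl⟩, by omega, by omega⟩
        refine step_neg_odd A hdet hj (by omega) ?_
          fun U M hU hM _ _ => ihU U M (by omega) (by omega) hM
        rcases Nat.lt_or_ge j 5 with h5 | h5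
        · obtain ⟨t, rfl⟩ := hj
          obtain rfl : t = 1 := by omega
          norm_num
          omega
        · have := bound_neg j h5
          omega

end CfsgLib.KnownB.OreOmega
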