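import Cfsg.Agent.Lib.KnownB.OreOmega.ThreeSteps

/-!
Choice of the elements used for the blocks.
-/

set_option autoImplicit false

namespace CfsgLib.KnownB.OreOmega

open Module Polynomial CfsgLib.KnownB.Sourour

/-- An element avoiding the roots of `P`, their inverses and the roots of `R`. -/
theorem select {G : Type} [Field G] [Algebra (ZMod 3) G] [FiniteDimensional (ZMod 3) G]
    {P R : (ZMod 3)[X]} (hP : P ≠ 0) (hR : R ≠ 0) (S : Finset G) (h0 : (0 : G) ∉ S)
    (hS : 2 * P.natDegree + R.natDegree < S.card) :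
    ∃ α ∈ S, α ≠ 0 ∧ aeval α P ≠ 0 ∧ aeval α⁻¹ P ≠ 0 ∧ aeval α R ≠ 0 := by
  have hP' : P.reverse ≠ 0 := by rwa [ne_eq, reverse_eq_zero]
  obtain ⟨α, hα, h⟩ := exists_not_root (mul_ne_zero (mul_ne_zero hP hP') hR) S (by
    rw [natDegree_mul (mul_ne_zero hP hP') hR, natDegree_mul hP hP']
    have : P.reverse.natDegree ≤ P.natDegree := reverse_natDegree_le P
    omega)
  have hne : α ≠ 0 := fun e => h0 (e ▸ hα)
  rw [map_mul, map_mul, mul_ne_zero_iff, mul_ne_zero_iff] at h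
  exact ⟨α, hα, hne, h.1.1, fun e => h.1.2 ((aeval_reverse_eq_zero hne).2 e), h.2⟩

section conj

variable {G : Type} [Field G] [Fintype G] {k : ℕ}

theorem pow_card_mul (hc : Fintype.card G = 3 ^ k) (α : G) (i : ℕ) : α ^ (3 ^ (k * i)) = α := by
  have h := FiniteField.pow_card_pow i α
  rwa [hc, ← pow_mul] at h

omit [Fintype G] in
theorem pow_two_mul {α : G} {i : ℕ} (h : α ^ (3 ^ i) = α⁻¹) :
    ∀ t : ℕ, α ^ (3 ^ (i * (2 * t + 1))) = α⁻¹
  | 0 => by rwa [mul_zero, zero_add, mul_one]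
  | t + 1 => by
    rw [show i * (2 * (t + 1) + 1) = i * (2 * t + 1) + (i + i) by ring, pow_add, pow_mul,
      pow_two_mul h t, pow_add, pow_mul, inv_pow, h, inv_inv, h]

theorem no_conj_odd (hc : Fintype.card G = 3 ^ k) (hk : Odd k) {α : G} (hα : α ≠ 0)
    (h : α ^ 2 ≠ 1) (i : ℕ) : α ^ (3 ^ i) ≠ α⁻¹ := by
  intro hi
  obtain ⟨t, rfl⟩ := hk
  have h1 := pow_two_mul hi t
  rw [mul_comm i, pow_card_mul hc] at h1
  exact h (by rw [pow_two]; conv_lhs => { arg 2; rw [h1] }; exact mul_inv_cancel₀ hα)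

theorem no_conj_four (hc : Fintype.card G = 3 ^ 4) {α : G} (hα : α ≠ 0) (h4 : α ^ 4 ≠ 1)
    (h10 : α ^ 10 ≠ 1) (i : ℕ) : α ^ (3 ^ i) ≠ α⁻¹ := by
  intro hi
  rw [← Nat.mod_add_div i 4, pow_add, mul_comm, pow_mul, pow_card_mul hc] at hi
  have h1 : α ^ (3 ^ (i % 4) + 1) = 1 := by rw [pow_succ, hi, inv_mul_cancel₀ hα]
  have h80 : α ^ 80 = 1 := by
    have := FiniteField.pow_card_sub_one_eq_one α hα
    rwa [hc] at this
  have : i % 4 < 4 := Nat.mod_lt _ (by norm_num)
  interval_cases i % 4 <;> norm_num at h1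
  · rcases h1 with rfl | rfl <;> exact h4 (by norm_num)
  · exact h4 h1
  · exact h10 h1
  · refine h4 ?_
    have e : α ^ (28 * 3) = α ^ 80 * α ^ 4 := by rw [← pow_add]
    rw [pow_mul, h1, one_pow, h80, one_mul] at e
    exact e.symm

theorem no_conj_neg {j : ℕ} (hc : Fintype.card G = 3 ^ (2 * j)) (hj : Odd j) {α : G} (hα : α ≠ 0)
    (hσ : α ^ (3 ^ j) = -α) (h : α ^ 4 ≠ 1) (i : ℕ) : α ^ (3 ^ i) ≠ α⁻¹ := by
  intro hi
  obtain ⟨t, rfl⟩ := hj
  have h1 := pow_two_mul hi t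
  rcases Nat.even_or_odd i with ⟨q, rfl⟩ | ⟨q, rfl⟩
  · rw [show (q + q) * (2 * t + 1) = 2 * (2 * t + 1) * q by ring, pow_card_mul hc] at h1
    have h2 : α * α = 1 := by conv_lhs => { arg 2; rw [h1] }; exact mul_inv_cancel₀ hα
    exact h (by linear_combination (α * α + 1) * h2)
  · rw [show (2 * q + 1) * (2 * t + 1) = 2 * (2 * t + 1) * q + (2 * t + 1) by ring, pow_add,
      pow_mul, pow_card_mul hc, hσ] at h1
    have h2 : α * α = -1 := by
      rw [neg_eq_iff_eq_neg] at h1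
      conv_lhs => { arg 2; rw [h1] }
      rw [mul_neg, mul_inv_cancel₀ hα]
    exact h (by linear_combination (α * α - 1) * h2)

end conj

theorem card_three_pow (k : ℕ) (hk : k ≠ 0) [Fintype (GaloisField 3 k)] :
    Fintype.card (GaloisField 3 k) = 3 ^ k := by
  rw [← Nat.card_eq_fintype_card]; exact GaloisField.card 3 _ hk

theorem X_pow_sub_one_ne {m : ℕ} (hm : 0 < m) : (X ^ m - C 1 : (ZMod 3)[X]) ≠ 0 :=
  X_pow_sub_C_ne_zero hm _

/-- Odd degree, any norm. -/
theorem select_odd {k : ℕ} (hk : Odd k) {P : (ZMod 3)[X]} (hs : Sep P)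
    (hd : 2 * P.natDegree + 3 < 3 ^ k) :
    ∃ α : GaloisField 3 k, α ≠ 0 ∧ (∀ i, α ^ (3 ^ i) ≠ α⁻¹) ∧
      aeval α P ≠ 0 ∧ aeval α⁻¹ P ≠ 0 := by
  classical
  have hk0 : k ≠ 0 := by rintro rfl; simp at hk
  let _ft : Fintype (GaloisField 3 k) := Fintype.ofFinite _
  obtain ⟨α, -, h0, h1, h2, h3⟩ := select hs.ne_zero (X_pow_sub_one_ne (m := 2) two_pos)
    ((Finset.univ : Finset (GaloisField 3 k)).erase 0) (by simp) (by
      rw [Finset.card_erase_of_mem (Finset.mem_univ _), Finset.card_univ, card_three_pow k hk0,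
        natDegree_X_pow_sub_C]
      omega)
  refine ⟨α, h0, no_conj_odd (card_three_pow k hk0) hk h0 fun e => h3 ?_, h1, h2⟩
  simp [e]

theorem card_squares {k : ℕ} (hk : k ≠ 0) [Fintype (GaloisField 3 k)]
    [DecidableEq (GaloisField 3 k)] :
    3 ^ k - 1 ≤ 2 * (((Finset.univ : Finset (GaloisField 3 k)).erase 0).image
      fun x => x * x).card := by
  rw [← card_three_pow k hk, ← Finset.card_univ, ← Finset.card_erase_of_mem (Finset.mem_univ 0)]
  refine Finset.card_le_mul_card_image _ 2 fun b hb => ?_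
  obtain ⟨y, -, rfl⟩ := Finset.mem_image.1 hb
  refine (Finset.card_le_card (t := {y, -y}) fun x hx => ?_).trans Finset.card_le_two
  simp only [Finset.mem_filter] at hx
  simp only [Finset.mem_insert, Finset.mem_singleton]
  exact mul_self_eq_mul_self_iff.1 hx.2

/-- Norm one, odd degree or degree four. -/
theorem select_square {k : ℕ} (hk : Odd k ∨ k = 4) {P : (ZMod 3)[X]} (hs : Sep P)
    (hd : 2 * (2 * P.natDegree + if k = 4 then 14 else 2) + 1 < 3 ^ k) :
    ∃ α : GaloisField 3 k, α ≠ 0 ∧ (∀ i, α ^ (3 ^ i) ≠ α⁻¹) ∧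
      aeval α P ≠ 0 ∧ aeval α⁻¹ P ≠ 0 ∧ Algebra.norm (ZMod 3) α = 1 := by
  classical
  have hk0 : k ≠ 0 := by rintro rfl; simp at hk
  let _ft : Fintype (GaloisField 3 k) := Fintype.ofFinite _
  let R : (ZMod 3)[X] := if k = 4 then (X ^ 4 - C 1) * (X ^ 10 - C 1) else X ^ 2 - C 1
  have hR : R ≠ 0 ∧ R.natDegree = if k = 4 then 14 else 2 := by
    simp only [R]
    split_ifs
    · refine ⟨mul_ne_zero (X_pow_sub_one_ne (by norm_num)) (X_pow_sub_one_ne (by norm_num)), ?_⟩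
      rw [natDegree_mul (X_pow_sub_one_ne (by norm_num)) (X_pow_sub_one_ne (by norm_num)),
        natDegree_X_pow_sub_C, natDegree_X_pow_sub_C]
    · exact ⟨X_pow_sub_one_ne two_pos, natDegree_X_pow_sub_C⟩
  obtain ⟨α, hα, h0, h1, h2, h3⟩ := select hs.ne_zero hR.1
    (((Finset.univ : Finset (GaloisField 3 k)).erase 0).image fun x => x * x)
    (by simp) (by
      have := card_squares (k := k) hk0
      rw [hR.2]
      omega)
  obtain ⟨y, hy, rfl⟩ := Finset.mem_image.1 hα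
  refine ⟨y * y, h0, ?_, h1, h2, norm_sq_three (Finset.mem_erase.1 hy).1⟩
  by_cases h : k = 4
  · subst h
    simp only [R, if_pos, map_mul, mul_ne_zero_iff] at h3
    exact no_conj_four (card_three_pow 4 hk0) h0 (fun e => h3.1 (by simp [e]))
      (fun e => h3.2 (by simp [e]))
  · simp only [R, if_neg h] at h3
    exact no_conj_odd (card_three_pow k hk0) (hk.resolve_right h) h0 fun e => h3 (by simp [e])

/-- An element negated by the involution, of norm one. -/
theorem select_neg {j : ℕ} (hj : Odd j) {P : (ZMod 3)[X]} (hs : Sep P)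
    (hd : 2 * P.natDegree + 5 < 3 ^ j) :
    ∃ (α : GaloisField 3 (2 * j)) (σ : GaloisField 3 (2 * j) ≃ₐ[ZMod 3] GaloisField 3 (2 * j)),
      α ≠ 0 ∧ σ α = -α ∧ (∀ i, α ^ (3 ^ i) ≠ α⁻¹) ∧
      aeval α P ≠ 0 ∧ aeval α⁻¹ P ≠ 0 ∧ Algebra.norm (ZMod 3) α = 1 := by
  classical
  have hj0 : j ≠ 0 := by rintro rfl; simp at hj
  let G := GaloisField 3 (2 * j)
  let _ft : Fintype G := Fintype.ofFinite _
  have hc : Fintype.card G = 3 ^ (2 * j) := card_three_pow _ (by omega)
  have hcard : Fintype.card G = 3 ^ j * 3 ^ j := by rw [hc, ← pow_add, two_mul]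
  obtain ⟨σ, hσ⟩ := exists_frobenius (G := G) j
  have hσ2 : ∀ x : G, σ (σ x) = x := fun x => by
    rw [hσ, hσ, ← pow_mul, ← hcard]
    exact FiniteField.pow_card x
  let S := ((Finset.univ : Finset G).image fun x => σ x - x).erase 0
  have hS : (Finset.univ : Finset G).card ≤
      3 ^ j * ((Finset.univ : Finset G).image fun x => σ x - x).card :=
    Finset.card_le_mul_card_image _ _ fun b hb => by
      obtain ⟨y, -, rfl⟩ := Finset.mem_image.1 hb
      have hne : (X ^ (3 ^ j) - X : G[X]) ≠ 0 :=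
        FiniteField.X_pow_card_sub_X_ne_zero G (Nat.one_lt_pow hj0 (by norm_num))
      have hsub : ((Finset.univ : Finset G).filter fun a => σ a - a = σ y - y) ⊆
          ((X ^ (3 ^ j) - X : G[X]).roots.toFinset).image (fun r => y + r) := fun a ha => by
        simp only [Finset.mem_filter] at ha
        refine Finset.mem_image.2 ⟨a - y, ?_, by abel⟩
        rw [Multiset.mem_toFinset, mem_roots hne, IsRoot.def, eval_sub, eval_pow, eval_X, ← hσ,
          map_sub]
        linear_combination ha.2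
      refine (Finset.card_le_card hsub).trans (Finset.card_image_le.trans ?_)
      refine (Multiset.toFinset_card_le _).trans ((card_roots' _).trans ?_)
      rw [FiniteField.X_pow_card_sub_X_natDegree_eq G (Nat.one_lt_pow hj0 (by norm_num))]
  rw [Finset.card_univ, hcard] at hS
  have hS' := Nat.le_of_mul_le_mul_left hS (pow_pos (by norm_num) j)
  have hSc := Finset.pred_card_le_card_erase
    (s := (Finset.univ : Finset G).image fun x => σ x - x) (a := (0 : G))
  obtain ⟨α, hα, hα0, h1, h2, h3⟩ := select hs.ne_zero (X_pow_sub_one_ne (m := 4) (by norm_num)) S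
    (by simp [S]) (by
      rw [natDegree_X_pow_sub_C]
      change _ < (((Finset.univ : Finset G).image fun x => σ x - x).erase 0).card
      omega)
  obtain ⟨-, hαm⟩ := Finset.mem_erase.1 hα
  obtain ⟨y, -, hy⟩ := Finset.mem_image.1 hαm
  have hσα : σ α = -α := by rw [← hy, map_sub, hσ2, neg_sub]
  refine ⟨α, σ, hα0, hσα,
    no_conj_neg hc hj hα0 (by rw [← hσ, hσα]) fun e => h3 (by simp [e]), h1, h2,
    norm_three_eq ?_⟩
  have hq : α ^ (3 ^ j - 1) = -1 := by
    apply mul_right_cancel₀ hα0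
    rw [← pow_succ, Nat.sub_add_cancel (Nat.one_le_pow _ _ (by norm_num)), ← hσ, hσα,
      neg_one_mul]
  obtain ⟨s, hs⟩ : ∃ s, 3 ^ j + 1 = 4 * s := by
    obtain ⟨i, rfl⟩ := hj
    refine Nat.dvd_of_mod_eq_zero ?_
    rw [pow_succ, pow_mul, Nat.add_mod, Nat.mul_mod, Nat.pow_mod]
    norm_num
  rw [Nat.card_eq_fintype_card, hcard, map_one,
    show (3 ^ j * 3 ^ j - 1) / 2 = (3 ^ j - 1) * (2 * s) by
      have e1 : 3 ^ j * 3 ^ j - 1 = (3 ^ j + 1) * (3 ^ j - 1) := by
        simpa [sq] using Nat.sq_sub_sq (3 ^ j) 1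
      rw [e1, hs, show 4 * s * (3 ^ j - 1) = (3 ^ j - 1) * (2 * s) * 2 by ring,
        Nat.mul_div_cancel _ two_pos],
    pow_mul, hq, pow_mul, neg_one_sq, one_pow]

end CfsgLib.KnownB.OreOmega
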