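import Cfsg.Agent.Lib.KnownB.OreOmega.Defs
import Cfsg.Agent.Lib.KnownB.OreSp.Three

/-!
Polynomials without a root whose inverse is a root.
-/

set_option autoImplicit false

namespace CfsgLib.KnownB.OreOmega

open Polynomial CfsgLib.KnownB.OreSp

variable {K : Type*} [Field K]

/-- No root has its inverse as a root. -/
def Sep (P : K[X]) : Prop :=
  ∀ z : AlgebraicClosure K, aeval z P = 0 → aeval z⁻¹ P ≠ 0

theorem Sep.ne_zero {P : K[X]} (h : Sep P) : P ≠ 0 := fun h0 =>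
  h 0 (by simp [h0]) (by simp [h0])

theorem sep_one : Sep (1 : K[X]) := fun z h => by simp at h

theorem Sep.of_dvd {P Q : K[X]} (h : Sep Q) (hd : P ∣ Q) : Sep P := fun z h1 h2 =>
  h z (aeval_eq_zero_of_dvd_aeval_eq_zero hd h1) (aeval_eq_zero_of_dvd_aeval_eq_zero hd h2)

theorem Sep.mul {P Q : K[X]} (hP : Sep P) (hQ : Sep Q)
    (h : ∀ z : AlgebraicClosure K, aeval z P = 0 → aeval z⁻¹ Q ≠ 0) : Sep (P * Q) := by
  intro z h1 h2
  rw [map_mul, mul_eq_zero] at h1 h2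
  rcases h1 with h1 | h1 <;> rcases h2 with h2 | h2
  · exact hP z h1 h2
  · exact h z h1 h2
  · exact h z⁻¹ h2 (by rwa [inv_inv])
  · exact hQ z h1 h2

theorem Sep.mul_self {P : K[X]} (hP : Sep P) : Sep (P * P) := hP.mul hP hP

theorem Sep.neg {P : K[X]} (h : Sep P) : Sep (P.comp (-X)) := by
  intro z h1 h2
  rw [aeval_comp, map_neg, aeval_X] at h1 h2
  exact h (-z) h1 (by rwa [inv_neg])

/-- A value of the reversal. -/
theorem aeval_reverse_eq_zero {A : Type*} [Field A] [Algebra K A] {P : K[X]} {x : A} (hx : x ≠ 0) :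
    aeval x P.reverse = 0 ↔ aeval x⁻¹ P = 0 := by
  have h := aeval_reflect x⁻¹ x (mul_inv_cancel₀ hx) P.natDegree P le_rfl
  rw [← h]
  simp [Polynomial.reverse, hx]

theorem Sep.apart {P : K[X]} (h : Sep P) : Apart P := by
  refine ⟨P.reverse, ⟨P.natDegree, le_rfl, rfl⟩, ?_⟩
  rw [isCoprime_iff_aeval_ne_zero_of_isAlgClosed K (AlgebraicClosure K)]
  intro z
  by_contra hc
  push Not at hc
  obtain ⟨h1, h2⟩ := hc
  by_cases hz : z = 0
  · subst hz; exact h 0 h1 (by rwa [inv_zero])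
  · exact h z h1 ((aeval_reverse_eq_zero hz).1 h2)

theorem sep_of_apart {P : K[X]} (h : Apart P) (h0 : P.coeff 0 ≠ 0) : Sep P := by
  obtain ⟨Q, ⟨N, hN, rfl⟩, hco⟩ := h
  intro z h1 h2
  have hz : z ≠ 0 := fun e => by
    subst e
    rw [← coeff_zero_eq_aeval_zero'] at h1
    exact h0 ((map_eq_zero _).1 h1)
  have h3 := aeval_reflect z⁻¹ z (mul_inv_cancel₀ hz) N P hN
  rw [h2, mul_eq_zero] at h3
  obtain ⟨a, b, hab⟩ := hco
  have := congrArg (aeval z) hab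
  rw [map_add, map_mul, map_mul, h1, h3.resolve_right (pow_ne_zero _ (inv_ne_zero hz))] at this
  simp at this

/-- The quartic `X ^ 4 + 2 X + 2`. -/
noncomputable def q4 : (ZMod 3)[X] := X ^ 4 + 2 * X + 2

/-- The quartic `X ^ 4 + X + 2`. -/
noncomputable def q4n : (ZMod 3)[X] := X ^ 4 + X + 2

/-- The sextic `X ^ 6 + 2 X ^ 2 + 1`. -/
noncomputable def s6 : (ZMod 3)[X] := X ^ 6 + 2 * X ^ 2 + 1

theorem three_eq : (3 : (ZMod 3)[X]) = 0 := by
  rw [← map_ofNat C 3, show (3 : ZMod 3) = 0 from rfl, map_zero]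

theorem apart_t4q4 : Apart ((t4 : (ZMod 3)[X]) * q4) := by
  refine ⟨_, rev_t4.mul (Q' := 2 * X ^ 4 + 2 * X ^ 3 + 1) ⟨4, by rw [q4]; compute_degree, ?_⟩,
    X ^ 6 + 2 * X ^ 4 + 2 * X ^ 3 + 2 * X ^ 2 + X + 2, 2 * X ^ 6 + X ^ 5 + X ^ 4 + X ^ 3 + 2, ?_⟩
  · simp only [q4, reflect_add, show (2 : (ZMod 3)[X]) = C 2 from (map_ofNat C 2).symm,
      reflect_C_mul, reflect_monomial, reflect_X_eq, reflect_C, revAt_le (show 1 ≤ 4 by omega),
      revAt_le (show 4 ≤ 4 by omega)]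
    ring
  · simp only [t4, t4r, q4]
    ring_nf
    reduce_mod_char

theorem apart_s6 : Apart s6 := by
  refine ⟨X ^ 6 + 2 * X ^ 4 + 1, ⟨6, by rw [s6]; compute_degree, ?_⟩, 2 * X ^ 2, X ^ 2 + 1, ?_⟩
  · simp only [s6, reflect_add, show (2 : (ZMod 3)[X]) = C 2 from (map_ofNat C 2).symm,
      reflect_C_mul, reflect_monomial, reflect_one_eq, revAt_le (show 2 ≤ 6 by omega),
      revAt_le (show 6 ≤ 6 by omega)]
    ring
  · simp only [s6]
    linear_combination (X ^ 8 + X ^ 6 + 2 * X ^ 4 + X ^ 2) * three_eq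

theorem apart_q4q4n : Apart (q4 * q4n) := by
  refine ⟨(2 * X ^ 4 + 2 * X ^ 3 + 1) * (2 * X ^ 4 + X ^ 3 + 1), ?_,
    X ^ 6 + 2, 2 * X ^ 6 + 2 * X ^ 4 + 2 * X ^ 2 + 2, ?_⟩
  · refine Rev.mul ⟨4, by rw [q4]; compute_degree, ?_⟩ ⟨4, by rw [q4n]; compute_degree, ?_⟩ <;>
    · simp only [q4, q4n, reflect_add, show (2 : (ZMod 3)[X]) = C 2 from (map_ofNat C 2).symm,
        reflect_C_mul, reflect_monomial, reflect_X_eq, reflect_C, revAt_le (show 1 ≤ 4 by omega),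
        revAt_le (show 4 ≤ 4 by omega)]
      ring
  · simp only [q4, q4n]
    ring_nf
    reduce_mod_char

theorem sep_t4q4 : Sep ((t4 : (ZMod 3)[X]) * q4) :=
  sep_of_apart apart_t4q4 (by simp [t4, q4, mul_coeff_zero]; decide)

theorem sep_q4 : Sep q4 := sep_t4q4.of_dvd (dvd_mul_left _ _)

theorem sep_s6 : Sep s6 := sep_of_apart apart_s6 (by simp [s6])

theorem sep_q4q4n : Sep (q4 * q4n) :=
  sep_of_apart apart_q4q4n (by simp [q4, q4n, mul_coeff_zero]; decide)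

theorem sep_polyThree : Sep (polyThree : (ZMod 3)[X]) :=
  sep_of_apart apart_polyThree (by simp [polyThree, t2, t3, t3n, t4, mul_coeff_zero]; decide)

end CfsgLib.KnownB.OreOmega
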