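import Cfsg.Agent.Lib.KnownB.OreOmega.ThreeTw

/-!
Steps over the field with three elements.
-/

set_option autoImplicit false

namespace CfsgLib.KnownB.OreOmega

open Module Polynomial CfsgLib.KnownB.Sourour

variable {V : Type*} [AddCommGroup V] [Module (ZMod 3) V] [FiniteDimensional (ZMod 3) V]

/-- Good twists extend by a block whose polynomial is compatible. -/
def Ext (A : End (ZMod 3) V) (c : ZMod 3) (k : ℕ) {U : Submodule (ZMod 3) V}
    (M : End (ZMod 3) U) : Prop :=
  ∀ {G : Type} [AddCommGroup G] [Module (ZMod 3) G] [FiniteDimensional (ZMod 3) G]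
    (β : Block (ZMod 3) G c), finrank (ZMod 3) G = k →
    (∀ d : ZMod 3, d ≠ 0 → ∃ z : End (ZMod 3) G, LinearMap.det z = d ∧ z * β.B = β.B * z) →
    ∀ (P : (ZMod 3)[X]) (d : ZMod 3), GoodAt P M d → IsCoprime β.g P →
      GoodAt (β.g * P) A (LinearMap.det β.B * d)

/-- A step at a space on which `A` is `c` modulo a complement. -/
theorem exists_step_space (A : End (ZMod 3) V) (hdet : LinearMap.det A = 1) {c : ZMod 3}
    (hc : c ≠ 0) {W : Submodule (ZMod 3) V} (hd : Disjoint W (W.map (A - c • 1))) :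
    ∃ (U : Submodule (ZMod 3) V) (M : End (ZMod 3) U),
      finrank (ZMod 3) U + finrank (ZMod 3) W = finrank (ZMod 3) V ∧
      LinearMap.det M = (c ^ finrank (ZMod 3) W)⁻¹ ∧ Ext A c (finrank (ZMod 3) W) M := by
  obtain ⟨U, hcompl, hle⟩ := exists_complement (A - c • 1) W hd
  have hWU : ∀ w ∈ W, A w - c • w ∈ U := fun w hw => by
    simpa using hle (Submodule.mem_map_of_mem hw)
  obtain ⟨p, b, R, hA, hdM⟩ := exists_blockMap A hc W U hcompl hWU
  refine ⟨U, R - c⁻¹ • (b ∘ₗ p), ?_, ?_, ?_⟩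
  · rw [add_comm]; exact Submodule.finrank_add_eq_of_isCompl hcompl
  · rw [hdet] at hdM; exact eq_inv_of_mul_eq_one_right hdM
  · intro G _ _ _ β hG hfix P d hM hco
    exact GoodAt.peel hc W U hcompl p b R hA β hfix hG hM hco

/-- Two proper subspaces leave room for a third one. -/
theorem exists_disjoint_two (P Q : Submodule (ZMod 3) V) (k : ℕ)
    (hP : k + finrank (ZMod 3) P ≤ finrank (ZMod 3) V)
    (hQ : k + finrank (ZMod 3) Q ≤ finrank (ZMod 3) V) :
    ∃ W : Submodule (ZMod 3) V, finrank (ZMod 3) W = k ∧ Disjoint W P ∧ Disjoint W Q := by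
  induction k with
  | zero => exact ⟨⊥, finrank_bot _ _, disjoint_bot_left, disjoint_bot_left⟩
  | succ k ih =>
    obtain ⟨W, hW, h1, h2⟩ := ih (by omega) (by omega)
    have hne : ∀ S : Submodule (ZMod 3) V, k + 1 + finrank (ZMod 3) S ≤ finrank (ZMod 3) V →
        W ⊔ S ≠ ⊤ := fun S hS h => by
      have := Submodule.finrank_add_le_finrank_add_finrank W S
      rw [h, finrank_top] at this
      omega
    obtain ⟨v, hvP, hvQ⟩ := avoid_two (W ⊔ P) (W ⊔ Q) (hne P hP) (hne Q hQ)
    have hv0 : v ≠ 0 := fun h => hvP (h ▸ zero_mem _)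
    have key : ∀ S : Submodule (ZMod 3) V, Disjoint W S → v ∉ W ⊔ S →
        Disjoint (W ⊔ ZMod 3 ∙ v) S := fun S hd hv => by
      rw [Submodule.disjoint_def]
      intro x hx hxS
      obtain ⟨w, hw, _, hv', rfl⟩ := Submodule.mem_sup.1 hx
      obtain ⟨a, rfl⟩ := Submodule.mem_span_singleton.1 hv'
      by_cases ha : a = 0
      · rw [ha, zero_smul, add_zero] at hxS ⊢
        exact Submodule.disjoint_def.1 hd w hw hxS
      · refine absurd ((Submodule.smul_mem_iff _ ha).1 ?_) hv
        rw [show a • v = (w + a • v) - w by abel]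
        exact sub_mem (Submodule.mem_sup_right hxS) (Submodule.mem_sup_left hw)
    refine ⟨W ⊔ ZMod 3 ∙ v, ?_, key P h1 hvP, key Q h2 hvQ⟩
    have h0 : W ⊓ ZMod 3 ∙ v = ⊥ := by
      rw [eq_bot_iff]
      rintro x ⟨hxW, hxv⟩
      obtain ⟨a, rfl⟩ := Submodule.mem_span_singleton.1 hxv
      by_cases ha : a = 0
      · simp [ha]
      · exact absurd (Submodule.mem_sup_left ((W.smul_mem_iff ha).1 hxW)) hvP
    have := Submodule.finrank_sup_add_finrank_inf_eq W (ZMod 3 ∙ v)
    rw [h0, finrank_bot, hW, finrank_span_singleton hv0] at this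
    omega

/-- A top space with `c = 1`, unless `A` is closer than `k` to `-1`. -/
theorem exists_top_close (A : End (ZMod 3) V) (hdet : LinearMap.det A = 1) (k : ℕ)
    (h2 : 2 * k ≤ finrank (ZMod 3) V) (h3 : 3 * k ≤ finrank (ZMod 3) V + 2) :
    (∃ W : Submodule (ZMod 3) V, finrank (ZMod 3) W = k ∧
      Disjoint W (W.map (A - (1 : ZMod 3) • 1))) ∨
      finrank (ZMod 3) (LinearMap.range (A - (-1 : ZMod 3) • 1)) < k := by
  rcases exists_top_three A hdet k h2 h3 with h | h
  · exact Or.inl h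
  rcases Nat.lt_or_ge (finrank (ZMod 3) (LinearMap.range (A - (-1 : ZMod 3) • 1))) k with hlt | hge
  · exact Or.inr hlt
  left
  set N := A - (-1 : ZMod 3) • 1 with hN
  have hk := N.finrank_range_add_finrank_ker
  obtain ⟨W, hW, hWk, hWr⟩ := exists_disjoint_two (LinearMap.ker N) (LinearMap.range N) k
    (by omega) (by omega)
  refine ⟨W, hW, Submodule.disjoint_def.2 ?_⟩
  rintro _ hx ⟨w, hw, rfl⟩
  have e : (A - (1 : ZMod 3) • 1 : End (ZMod 3) V) w = N w + w := by
    simp only [hN, LinearMap.sub_apply, LinearMap.smul_apply, Module.End.one_apply]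
    match_scalars <;> decide
  rw [e] at hx ⊢
  have h1 : N w = 0 := Submodule.disjoint_def.1 hWr _ (by simpa using sub_mem hx hw)
    (LinearMap.mem_range_self N w)
  have h2 : w = 0 := Submodule.disjoint_def.1 hWk w hw (LinearMap.mem_ker.2 h1)
  rw [h1, h2, add_zero]

/-- A step inside the `-1` eigenspace, keeping the new element near but off `-1`. -/
theorem exists_step_neg (A : End (ZMod 3) V) (hdet : LinearMap.det A = 1) (k : ℕ)
    (hk : k + finrank (ZMod 3) (LinearMap.range (A - (-1 : ZMod 3) • 1)) ≤ finrank (ZMod 3) V) :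
    ∃ (U : Submodule (ZMod 3) V) (M : End (ZMod 3) U),
      finrank (ZMod 3) U + k = finrank (ZMod 3) V ∧
      LinearMap.det M = ((-1 : ZMod 3) ^ k)⁻¹ ∧ Ext A (-1) k M ∧
      finrank (ZMod 3) (LinearMap.range (M - (-1 : ZMod 3) • 1)) ≤
        finrank (ZMod 3) (LinearMap.range (A - (-1 : ZMod 3) • 1)) ∧
      (k + finrank (ZMod 3) (LinearMap.range (A - (-1 : ZMod 3) • 1)) < finrank (ZMod 3) V →
        A ≠ (-1 : ZMod 3) • 1 → M ≠ (-1 : ZMod 3) • 1) := by
  classical
  set N := A - (-1 : ZMod 3) • 1 with hN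
  have hker := N.finrank_range_add_finrank_ker
  obtain ⟨W, hWk, hWN, hWr⟩ : ∃ W : Submodule (ZMod 3) V, finrank (ZMod 3) W = k ∧
      W ≤ LinearMap.ker N ∧ (k + finrank (ZMod 3) (LinearMap.range N) < finrank (ZMod 3) V →
        N ≠ 0 → ∃ v, N v ∉ W) := by
    obtain ⟨S, hSN, hkS, hS⟩ : ∃ S : Submodule (ZMod 3) V, S ≤ LinearMap.ker N ∧
        k ≤ finrank (ZMod 3) S ∧ (k + finrank (ZMod 3) (LinearMap.range N) <
          finrank (ZMod 3) V → N ≠ 0 → ∃ v, N v ∉ S) := by
      by_cases h : k + finrank (ZMod 3) (LinearMap.range N) < finrank (ZMod 3) V ∧ N ≠ 0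
      · obtain ⟨v, hv⟩ : ∃ v, N v ≠ 0 := by
          by_contra hc
          push Not at hc
          exact h.2 (LinearMap.ext hc)
        obtain ⟨f, hfv⟩ : ∃ f : Dual (ZMod 3) V, f (N v) ≠ 0 := by
          by_contra hc
          push Not at hc
          exact hv ((Module.forall_dual_apply_eq_zero_iff (ZMod 3) (N v)).1 hc)
        refine ⟨LinearMap.ker N ⊓ LinearMap.ker f, inf_le_left, ?_,
          fun _ _ => ⟨v, fun hm => hfv hm.2⟩⟩
        have h1 := Submodule.finrank_sup_add_finrank_inf_eq (LinearMap.ker N) (LinearMap.ker f)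
        have h2 := f.finrank_range_add_finrank_ker
        have h3 := Submodule.finrank_le (LinearMap.range f)
        have h4 := Submodule.finrank_le (LinearMap.ker N ⊔ LinearMap.ker f)
        rw [finrank_self] at h3
        have := h.1
        omega
      · exact ⟨LinearMap.ker N, le_rfl, by omega, fun h1 h2 => absurd ⟨h1, h2⟩ h⟩
    obtain ⟨f, hf⟩ := exists_linearIndependent_of_le_finrank (R := ZMod 3) (M := S) hkS
    have hf' : LinearIndependent (ZMod 3) (fun i => (f i : V)) :=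
      hf.map' S.subtype (Submodule.ker_subtype _)
    have hle : Submodule.span (ZMod 3) (Set.range fun i => (f i : V)) ≤ S :=
      Submodule.span_le.2 (by rintro _ ⟨i, rfl⟩; exact (f i).2)
    refine ⟨_, ?_, hle.trans hSN, fun h1 h2 => ?_⟩
    · rw [finrank_span_eq_card hf', Fintype.card_fin]
    · obtain ⟨v, hv⟩ := hS h1 h2
      exact ⟨v, fun hm => hv (hle hm)⟩
  obtain ⟨U, hcompl⟩ := Submodule.exists_isCompl W
  have hzero : ∀ w ∈ W, A w - (-1 : ZMod 3) • w = 0 := fun w hw => by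
    simpa [hN] using hWN hw
  have hc : (-1 : ZMod 3) ≠ 0 := neg_ne_zero.2 one_ne_zero
  obtain ⟨p, b, R, hA, hdM⟩ := exists_blockMap A hc W U hcompl
    (fun w hw => by rw [hzero w hw]; exact zero_mem _)
  let φ := W.prodEquivOfIsCompl U hcompl
  have happ : ∀ x, A (φ x) = φ (blockMap (-1) p b R x) := fun x => by
    conv_lhs => rw [hA]
    rw [LinearEquiv.conj_apply_apply, LinearEquiv.symm_apply_apply]
  have hb : b = 0 := LinearMap.ext fun w => by
    have h := happ (w, 0)
    have h1 := hzero w w.2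
    rw [sub_eq_zero] at h1
    have hw : φ (w, 0) = (w : V) := by simp [φ, Submodule.coe_prodEquivOfIsCompl']
    rw [hw, h1, blockMap_apply, map_zero, add_zero, map_zero, add_zero,
      show (-1 : ZMod 3) • (w : V) = φ ((-1 : ZMod 3) • w, 0) by
        simp [φ, Submodule.coe_prodEquivOfIsCompl']] at h
    exact (congrArg Prod.snd (φ.injective h)).symm
  have hM : R - ((-1 : ZMod 3))⁻¹ • (b ∘ₗ p) = R := by
    rw [hb, LinearMap.zero_comp, smul_zero, sub_zero]
  rw [hM] at hdM
  have hproj : ∀ u : U, (R - (-1 : ZMod 3) • 1 : End (ZMod 3) U) u =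
      (LinearMap.snd (ZMod 3) W U ∘ₗ φ.symm.toLinearMap) (N (u : V)) := fun u => by
    have h := happ (0, u)
    have hu : φ (0, u) = (u : V) := by simp [φ, Submodule.coe_prodEquivOfIsCompl']
    rw [hu, blockMap_apply] at h
    simp only [LinearMap.comp_apply, LinearEquiv.coe_coe, LinearMap.snd_apply, hN,
      LinearMap.sub_apply, LinearMap.smul_apply, Module.End.one_apply, h, map_sub, map_smul,
      φ.symm_apply_apply, hb, LinearMap.zero_apply, zero_add]
    rw [show φ.symm (u : V) = (0, u) by rw [← hu, φ.symm_apply_apply]]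
  refine ⟨U, R, ?_, ?_, ?_, ?_, ?_⟩
  · rw [← hWk, add_comm]; exact Submodule.finrank_add_eq_of_isCompl hcompl
  · rw [hdet, hWk] at hdM; exact eq_inv_of_mul_eq_one_right hdM
  · intro G _ _ _ β hG hfix P d hMd hco
    exact GoodAt.peel hc W U hcompl p b R hA β hfix (hG.trans hWk.symm) (by rwa [hM]) hco
  · refine (Submodule.finrank_mono ?_).trans (Submodule.finrank_map_le
      (LinearMap.snd (ZMod 3) W U ∘ₗ φ.symm.toLinearMap) (LinearMap.range N))
    rintro _ ⟨u, rfl⟩
    exact ⟨N u, LinearMap.mem_range_self _ _, (hproj u).symm⟩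
  · intro h1 h2 hR
    obtain ⟨v, hv⟩ := hWr h1 (sub_ne_zero.2 h2)
    obtain ⟨⟨w, u⟩, rfl⟩ := φ.surjective v
    refine hv ?_
    have hNv : N (φ (w, u)) = N (u : V) := by
      rw [show φ (w, u) = (w : V) + u from Submodule.coe_prodEquivOfIsCompl' _ _ hcompl (w, u),
        map_add, LinearMap.mem_ker.1 (hWN w.2), zero_add]
    rw [hNv]
    have h3 := hproj u
    rw [hR, sub_self, LinearMap.zero_apply] at h3
    have h4 : N (u : V) = φ (φ.symm (N (u : V))) := (φ.apply_symm_apply _).symm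
    rw [h4, Submodule.coe_prodEquivOfIsCompl']
    simp only [LinearMap.comp_apply, LinearEquiv.coe_coe, LinearMap.snd_apply] at h3
    rw [← h3, ZeroMemClass.coe_zero, add_zero]
    exact Subtype.coe_prop _

section field

variable {G : Type} [Field G] [Algebra (ZMod 3) G] [FiniteDimensional (ZMod 3) G]

/-- The conjugates of an element. -/
theorem exists_pow_of_root {α β : G} (h : aeval β (minpoly (ZMod 3) α) = 0) :
    ∃ i : ℕ, α ^ (3 ^ i) = β := by
  have : Finite G := Module.finite_of_finite (ZMod 3)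
  have : Algebra.IsAlgebraic (ZMod 3) G := Algebra.IsAlgebraic.of_finite (ZMod 3) G
  obtain ⟨σ, hσ⟩ := minpoly.exists_algEquiv_of_root'
    (Algebra.IsAlgebraic.isAlgebraic α) h
  obtain ⟨i, hi⟩ := (FiniteField.bijective_frobeniusAlgEquivOfAlgebraic_pow (ZMod 3) G).2 σ
  refine ⟨(i : ℕ), ?_⟩
  rw [← hσ, ← hi, AlgEquiv.coe_pow, FiniteField.coe_frobeniusAlgEquivOfAlgebraic, pow_iterate,
    ZMod.card]

/-- `α` is a root of whatever vanishes at a root of its minimal polynomial. -/
theorem root_transfer {α : G} {Q : (ZMod 3)[X]} {z : AlgebraicClosure (ZMod 3)}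
    (hz : aeval z (minpoly (ZMod 3) α) = 0) (hQ : aeval z Q = 0) : aeval α Q = 0 := by
  have hint : IsIntegral (ZMod 3) α := Algebra.IsIntegral.isIntegral α
  have h := minpoly.eq_of_irreducible_of_monic (minpoly.irreducible hint) hz (minpoly.monic hint)
  exact (minpoly.dvd_iff).1 (h ▸ minpoly.dvd _ _ hQ)

theorem inverse_transfer {α : G} (hα : α ≠ 0) {P : (ZMod 3)[X]}
    {z : AlgebraicClosure (ZMod 3)} (hz : aeval z (minpoly (ZMod 3) α) = 0)
    (hP : aeval z⁻¹ P = 0) : aeval α⁻¹ P = 0 := by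
  have hz0 : z ≠ 0 := fun h => by
    subst h
    rw [← coeff_zero_eq_aeval_zero', map_eq_zero] at hz
    exact minpoly.coeff_zero_ne_zero (Algebra.IsIntegral.isIntegral α) hα hz
  exact (aeval_reverse_eq_zero hα).1 (root_transfer hz ((aeval_reverse_eq_zero hz0).2 hP))

theorem sep_minpoly {α : G} (hα : α ≠ 0) (h : ∀ i : ℕ, α ^ (3 ^ i) ≠ α⁻¹) :
    Sep (minpoly (ZMod 3) α) := fun _ hz hz' =>
  let ⟨i, hi⟩ := exists_pow_of_root (inverse_transfer hα hz hz')
  h i hi

omit [FiniteDimensional (ZMod 3) V] in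
theorem good_extend {U : Submodule (ZMod 3) V} {A : End (ZMod 3) V} {M : End (ZMod 3) U}
    {c d : ZMod 3} (hext : Ext A c (finrank (ZMod 3) G) M)
    (hdim : finrank (ZMod 3) U + finrank (ZMod 3) G = finrank (ZMod 3) V)
    (β : Block (ZMod 3) G c) {α : G} (hα : α ≠ 0)
    (hB : β.B = Algebra.lmul (ZMod 3) G α) (hg : β.g = minpoly (ZMod 3) α) {P : (ZMod 3)[X]}
    (hs : Sep P) (hdeg : P.natDegree ≤ finrank (ZMod 3) U) (hgood : GoodAt P M d)
    (hself : ∀ i : ℕ, α ^ (3 ^ i) ≠ α⁻¹) (h1 : aeval α P ≠ 0) (h2 : aeval α⁻¹ P ≠ 0) :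
    Good A (Algebra.norm (ZMod 3) α * d) := by
  refine ⟨minpoly (ZMod 3) α * P,
    (sep_minpoly hα hself).mul hs (fun z hz hz' => h2 (inverse_transfer hα hz hz')), ?_, ?_⟩
  · refine natDegree_mul_le.trans ?_
    have := minpoly.natDegree_le (A := ZMod 3) α
    omega
  · rw [show Algebra.norm (ZMod 3) α = LinearMap.det β.B by rw [hB, Algebra.norm_apply],
      ← hg]
    refine hext β rfl (fun e _ => ?_) P d hgood ?_
    · have : Finite G := Module.finite_of_finite (ZMod 3)
      obtain ⟨δ, hδ⟩ := FiniteField.norm_surjective (ZMod 3) G e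
      exact ⟨Algebra.lmul (ZMod 3) G δ, by rw [← Algebra.norm_apply, hδ],
        by rw [hB, ← map_mul, ← map_mul, mul_comm]⟩
    · rw [hg]
      exact (minpoly.irreducible (Algebra.IsIntegral.isIntegral α)).coprime_iff_not_dvd.2
        fun hdvd => h1 ((minpoly.dvd_iff).1 hdvd)

end field

end CfsgLib.KnownB.OreOmega
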